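import Cfsg.Agent.Lib.Blocks.SecondMainBlocks
import Cfsg.Agent.Lib.Blocks.Kernel
import Cfsg.Agent.Lib.Blocks.InducedBlock

/-!
# The principal block on a `p`-section

Only the principal block of `C_G(x)` induces the principal block of `G` (the Third Main Theorem for
centralizers), so by the Second Main Theorem a character of the principal block is constant on
`x N` for a normal `p'`-subgroup `N` of `C_G(x)`.
-/

set_option autoImplicit false

namespace CfsgLib.BrauerSuzuki

open Cfsg CfsgLib.Blocks
open scoped Classical ComplexConjugate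

variable {G : Type*} [Group G] [Fintype G] {p : ℕ} {M : Ideal AlgInt}

theorem not_induces_principalBlock (hM : IsPModular p M) {H : Subgroup G} {b : Set (IrrCharacter H)}
    (hb : b ≠ principalBlock M H) : ¬ IsInducedBlock M H b (principalBlock M G) := by
  intro h
  obtain ⟨ψ, hψ⟩ := IsPBlock.nonempty hM h.1
  have hd : degVal p (trivChar G) = 0 := by
    have h1 : ((charDegree ((trivChar G : IrrCharacter G) : G → ℂ) : ℕ) : ℂ) = ((1 : ℕ) : ℂ) := by
      rw [← irr_one_eq, Nat.cast_one]; rfl
    rw [degVal, Nat.cast_injective h1, Nat.factorization_one]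
    rfl
  have hmin : degVal p (trivChar G) = minDegVal p (principalBlock M G) := by
    have := minDegVal_le (p := p) (trivChar_mem_principalBlock (G := G) hM)
    omega
  refine resRegRatio_not_LI hM h (trivChar_mem_principalBlock hM) hmin hψ ?_
  have hψ0 : ψ ∉ principalBlock M H := fun hc =>
    hb (IsPBlock.eq_of_mem hM h.1 isPBlock_principalBlock hψ hc)
  have h0 := IsPBlock.regInner_eq_zero hM isPBlock_principalBlock (trivChar_mem_principalBlock hM) hψ0
  rw [resRegRatio]
  show MemLocalIdeal M (regInner p ((trivChar H : IrrCharacter H) : H → ℂ) (ψ : H → ℂ) / _)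
  rw [h0, zero_div]
  exact LI.zero hM

theorem principalBlock_apply_section (hM : IsPModular p M) {x : G} (hx : ∃ k : ℕ, orderOf x = p ^ k)
    {χ : IrrCharacter G} (hχ : χ ∈ principalBlock M G)
    (N : Subgroup (Subgroup.centralizer ({x} : Set G))) [hN : N.Normal] (hcop : ¬ p ∣ Nat.card N)
    {y : Subgroup.centralizer ({x} : Set G)} (hy : y ∈ N) :
    (χ : G → ℂ) (x * (y : G)) = (χ : G → ℂ) x := by
  set ϑ : (Subgroup.centralizer ({x} : Set G)) → ℂ := fun c => (χ : G → ℂ) (x * (c : G)) with hϑdef
  have hcl : IsClassFunction (Subgroup.centralizer ({x} : Set G)) ϑ := by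
    intro c z
    have hz : (z : G) * x = x * (z : G) := Subgroup.mem_centralizer_singleton_iff.1 z.2
    show (χ : G → ℂ) (x * ((z : G) * (c : G) * (z : G)⁻¹)) = (χ : G → ℂ) (x * (c : G))
    rw [← mul_assoc, ← mul_assoc, ← hz, mul_assoc (z : G) x (c : G), irr_conj_apply]
  have hsum : ∀ z ∈ N, ϑ z = ∑ ξ : IrrCharacter (Subgroup.centralizer ({x} : Set G)),
      if ξ ∈ principalBlock M (Subgroup.centralizer ({x} : Set G)) then classInner ϑ (ξ : (Subgroup.centralizer ({x} : Set G)) → ℂ) * (ξ : (Subgroup.centralizer ({x} : Set G)) → ℂ) z else 0 := by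
    intro z hz
    have hreg : ¬ p ∣ orderOf z := fun h => hcop (h.trans (Subgroup.orderOf_dvd_natCard N hz))
    have hexp : ϑ z = ∑ ξ : IrrCharacter (Subgroup.centralizer ({x} : Set G)), classInner ϑ (ξ : (Subgroup.centralizer ({x} : Set G)) → ℂ) * (ξ : (Subgroup.centralizer ({x} : Set G)) → ℂ) z := by
      conv_lhs => rw [CfsgLib.Char.IsClassFunction.eq_sum_irr hcl]
      simp
    rw [hexp, ← Finset.sum_fiberwise_of_maps_to
      (g := fun ξ : IrrCharacter (Subgroup.centralizer ({x} : Set G)) => blockOf M (ξ : (Subgroup.centralizer ({x} : Set G)) → ℂ))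
      (t := Finset.univ.image fun ξ : IrrCharacter (Subgroup.centralizer ({x} : Set G)) => blockOf M (ξ : (Subgroup.centralizer ({x} : Set G)) → ℂ))
      (fun ξ _ => Finset.mem_image_of_mem _ (Finset.mem_univ ξ)), Finset.sum_eq_single (principalBlock M (Subgroup.centralizer ({x} : Set G)))]
    · rw [Finset.sum_filter]
      refine Finset.sum_congr rfl fun ξ _ => if_congr ⟨fun h => ?_, fun h => ?_⟩ rfl rfl
      · rw [← h]; exact SameBlock_refl hM _
      · exact (IsPBlock.eq_blockOf hM isPBlock_principalBlock h).symm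
    · intro b hb hne
      obtain ⟨ξ₀, -, rfl⟩ := Finset.mem_image.1 hb
      have hb' : IsPBlock M (blockOf M (ξ₀ : (Subgroup.centralizer ({x} : Set G)) → ℂ)) := isPBlock_blockOf ξ₀
      have h0 := blockPart_section_eq_zero hM hx isPBlock_principalBlock hχ hb'
        (not_induces_principalBlock hM hne) hreg
      rw [blockPart, finsum_mem_eq_toFinset_sum] at h0
      rw [← h0]
      refine Finset.sum_congr ?_ fun ξ _ => ?_
      · ext ξ
        simp only [Finset.mem_filter, Finset.mem_univ, true_and, Set.mem_toFinset]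
        exact ⟨fun h => h ▸ SameBlock_refl hM _, fun h => (IsPBlock.eq_blockOf hM hb' h).symm⟩
      · rw [Subsingleton.elim (Fintype.ofFinite _) (inferInstance : Fintype (Subgroup.centralizer ({x} : Set G)))]
    · intro h
      exact (h (Finset.mem_image.2 ⟨trivChar (Subgroup.centralizer ({x} : Set G)), Finset.mem_univ _, rfl⟩)).elim
  have h1 := hsum y hy
  have h2 := hsum 1 N.one_mem
  have hker : ∀ ξ : IrrCharacter (Subgroup.centralizer ({x} : Set G)), ξ ∈ principalBlock M (Subgroup.centralizer ({x} : Set G)) → (ξ : (Subgroup.centralizer ({x} : Set G)) → ℂ) y = (ξ : (Subgroup.centralizer ({x} : Set G)) → ℂ) 1 := fun ξ hξ =>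
    mem_irrKer.1 (le_irrKer_of_sameBlock hM hN hcop (χ := trivChar (Subgroup.centralizer ({x} : Set G))) hξ
      (fun _ _ => mem_irrKer.2 rfl) hy)
  have e : ϑ y = ϑ 1 := by
    rw [h1, h2]
    refine Finset.sum_congr rfl fun ξ _ => ?_
    split_ifs with h
    · rw [hker ξ h]
    · rfl
  simpa [hϑdef] using e

end CfsgLib.BrauerSuzuki
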