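import Cfsg.Agent.Lib.BrauerSuzuki.Q8Global
import Cfsg.Agent.Lib.Involution.ZStar.Basic
import Cfsg.Agent.Lib.FrobRealize.Quaternion

/-!
# The theorem of Brauer and Suzuki
-/

set_option autoImplicit false

namespace CfsgLib.BrauerSuzuki

open Cfsg QuaternionGroup CfsgLib.Blocks

universe u

section Q8

set_option synthInstance.maxSize 4000 in
set_option synthInstance.maxHeartbeats 200000 in
theorem cover_quat : ∀ a b c z : QuaternionGroup 2, a * a ≠ 1 → b * b ≠ 1 → c * c ≠ 1 → z * z ≠ 1 →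
    b ≠ a → b ≠ a⁻¹ → c ≠ a → c ≠ a⁻¹ → c ≠ b → c ≠ b⁻¹ →
    z = a ∨ z = a⁻¹ ∨ z = b ∨ z = b⁻¹ ∨ z = c ∨ z = c⁻¹ := by decide

theorem inverted_quat : ∀ a : QuaternionGroup 2, ∃ w : QuaternionGroup 2, w * a * w⁻¹ = a⁻¹ := by decide

theorem pow_four_quat : ∀ q : QuaternionGroup 2, q ^ (2 ^ (1 + 1)) = 1 := by decide

theorem sq_one_quat : ∀ q : QuaternionGroup 2, q * q = 1 → q = 1 ∨ q = a 2 := by decide

theorem sq_root_quat : ∀ z : QuaternionGroup 2, z * z = 1 → ∃ q : QuaternionGroup 2, q * q ≠ 1 ∧ (z = 1 ∨ z = q * q) := by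
  decide

open scoped Classical

theorem isCyclic_proper_quat {R : Subgroup (QuaternionGroup 2)} (hR : R ≠ ⊤) : IsCyclic R := by
  by_cases h : ∃ r ∈ R, r * r ≠ 1
  · obtain ⟨r, hr, hr2⟩ := h
    have h4 : ∀ q : QuaternionGroup 2, q * q ≠ 1 → orderOf q = 4 := fun q hq =>
      orderOf_eq_prime_pow (p := 2) (n := 1) (by simpa [sq] using hq)
        (pow_four_quat q)
    have hle : Subgroup.zpowers r ≤ R := Subgroup.zpowers_le.mpr hr
    have h8 : Nat.card (QuaternionGroup 2) = 8 := by rw [Nat.card_eq_fintype_card, QuaternionGroup.card]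
    have hdvd : Nat.card R ∣ 8 := h8 ▸ Subgroup.card_subgroup_dvd_card R
    have hdvd4 : 4 ∣ Nat.card R := by
      rw [← h4 r hr2, ← Nat.card_zpowers]; exact Subgroup.card_dvd_of_le hle
    have hlt : Nat.card R ≠ 8 := fun h => hR (Subgroup.eq_top_of_card_eq R (h.trans h8.symm))
    have hc : Nat.card R = 4 := by
      have := Nat.le_of_dvd (by norm_num) hdvd
      obtain ⟨q, hq⟩ := hdvd4
      have hpos := Nat.card_pos (α := R)
      omega
    have : Subgroup.zpowers r = R := Subgroup.eq_of_le_of_card_ge hle (by rw [Nat.card_zpowers, h4 r hr2, hc])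
    rw [← this]
    exact Subgroup.isCyclic_zpowers r
  · push Not at h
    have hle : R ≤ Subgroup.zpowers (a (2 : ZMod (2 * 2))) := fun r hr => by
      rcases sq_one_quat r (h r hr) with rfl | rfl
      exacts [one_mem _, Subgroup.mem_zpowers _]
    haveI := Subgroup.isCyclic_zpowers (a (2 : ZMod (2 * 2)))
    exact Subgroup.isCyclic_of_le hle

variable {G : Type*} [Group G] [Fintype G] (S : Sylow 2 G) (e : ↥(S : Subgroup G) ≃* QuaternionGroup 2)

theorem fus_or_npc : Fus S e ∨ Cfsg.HasNormalPComplement 2 G := by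
  rw [or_iff_not_imp_right]
  intro hn
  obtain ⟨Q, hQ, g, hg, ho, hgc⟩ : ∃ Q : Subgroup G, Q ≤ (S : Subgroup G) ∧
      ∃ g ∈ Subgroup.normalizer (Q : Set G), Nat.Coprime (orderOf g) 2 ∧ g ∉ Subgroup.centralizer (Q : Set G) := by
    by_contra h
    push Not at h
    exact hn (CfsgLib.Fusion.Alperin.npc_of_frobenius S h)
  have hodd : Odd (orderOf g) := Nat.coprime_two_right.mp ho
  obtain rfl : Q = (S : Subgroup G) := by
    by_contra hne
    let R : Subgroup (QuaternionGroup 2) := (Q.subgroupOf (S : Subgroup G)).map e.toMonoidHom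
    have hR : R ≠ ⊤ := fun h => hne <| le_antisymm hQ fun s hs => by
      obtain ⟨q, hq, hqe⟩ : e ⟨s, hs⟩ ∈ R := h ▸ Subgroup.mem_top _
      have : q = ⟨s, hs⟩ := e.injective hqe
      rw [this] at hq; exact hq
    haveI := isCyclic_proper_quat hR
    let eQ : ↥Q ≃* ↥R :=
      (Subgroup.subgroupOfEquivOfLe hQ).symm.trans ((Q.subgroupOf (S : Subgroup G)).equivMapOfInjective _ e.injective)
    haveI : IsCyclic ↥Q := eQ.isCyclic.2 inferInstance
    exact hgc (cyclic_fixed (S.2.to_le hQ) hg hodd)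
  have hmemS : ∀ {s : G}, s ∈ (S : Subgroup G) → g * s * g⁻¹ ∈ (S : Subgroup G) :=
    fun hs => (Subgroup.mem_normalizer_iff.mp hg _).mp hs
  have hpow : ∀ {s : G} (j : ℕ), Commute (g ^ (2 ^ j)) s → Commute g s := by
    intro s j hc
    obtain ⟨m, hm⟩ := exists_pow_eq_self_of_coprime
      (x := g) (n := 2 ^ j) (Nat.Coprime.pow_left j ho.symm)
    rw [← hm]
    exact hc.pow_left m
  have hfix : ∀ {s : G}, (g * s * g⁻¹ = s ∨ g * s * g⁻¹ = s⁻¹) → Commute g s := by
    intro s h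
    refine hpow 1 (mul_inv_eq_iff_eq_mul.mp ?_)
    have e2 : g ^ (2 ^ 1) * s * (g ^ (2 ^ 1))⁻¹ = g * (g * s * g⁻¹) * g⁻¹ := by
      rw [pow_one, sq]; group
    rw [e2]
    rcases h with h | h <;> rw [h]
    · exact h
    · rw [← conj_inv, h, inv_inv]
  obtain ⟨x, hx, hx4, hxm⟩ : ∃ x, ∃ hx : x ∈ (S : Subgroup G), e ⟨x, hx⟩ * e ⟨x, hx⟩ ≠ 1 ∧
      g * x * g⁻¹ ≠ x ∧ g * x * g⁻¹ ≠ x⁻¹ := by
    by_contra h
    push Not at h
    apply hgc
    intro s hs
    have hcs : ∀ t, ∀ ht : t ∈ (S : Subgroup G), e ⟨t, ht⟩ * e ⟨t, ht⟩ ≠ 1 → Commute g t := fun t ht h4 =>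
      hfix ((em (g * t * g⁻¹ = t)).imp_right (h t ht h4))
    refine (?_ : Commute g s).eq.symm
    by_cases h4 : e ⟨s, hs⟩ * e ⟨s, hs⟩ ≠ 1
    · exact hcs s hs h4
    · obtain ⟨q, hq, hqe⟩ := sq_root_quat _ (not_not.mp h4)
      rcases hqe with hqe | hqe
      · have : s = 1 := congrArg Subtype.val (e.map_eq_one_iff.mp hqe)
        rw [this]; exact Commute.one_right g
      · have : s = ((e.symm q : ↥(S : Subgroup G)) : G) * ((e.symm q : ↥(S : Subgroup G)) : G) := by
          have := congrArg e.symm hqe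
          rw [e.symm_apply_apply, map_mul] at this
          exact congrArg Subtype.val this
        have hc := hcs _ (e.symm q).2 (by simpa using hq)
        rw [this]; exact hc.mul_right hc
  intro z hz
  obtain ⟨h, hh⟩ := exists_conj_mem_sylow S (R := Subgroup.zpowers z)
    (IsPGroup.of_card (n := 2) (by rw [Nat.card_zpowers, hz]; rfl))
  have hzS := hh z (Subgroup.mem_zpowers z)
  have hsq : ∀ {s : G} (hs : s ∈ (S : Subgroup G)), e ⟨s, hs⟩ * e ⟨s, hs⟩ ≠ 1 ↔ s * s ≠ 1 := fun {s} hs => by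
    rw [← map_mul, Ne, e.map_eq_one_iff, Subtype.ext_iff]
    rfl
  have h4ne : ∀ {s : G}, orderOf s = 4 → s * s ≠ 1 := fun {s} hs h => by
    have := orderOf_dvd_of_pow_eq_one (show s ^ 2 = 1 by rw [sq]; exact h)
    rw [hs] at this; norm_num at this
  have hne : ∀ {s : G}, s * s ≠ 1 → g * s * g⁻¹ * (g * s * g⁻¹) ≠ 1 := fun {s} hs h => hs (by
    rwa [show g * s * g⁻¹ * (g * s * g⁻¹) = g * (s * s) * g⁻¹ by group, conj_eq_one_iff] at h)
  -- every element of order four of the Sylow subgroup is conjugate to `x`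
  have key : ∀ w, ∀ hw : w ∈ (S : Subgroup G), w * w ≠ 1 → ∃ h : G, h * x * h⁻¹ = w := by
    intro w hw hw2
    have hb := hmemS hx
    have hc := hmemS hb
    have hx2 := (hsq hx).mp hx4
    have hcases : ∀ {s t : G} (hs : s ∈ (S : Subgroup G)) (ht : t ∈ (S : Subgroup G)),
        (t ≠ s → e ⟨t, ht⟩ ≠ e ⟨s, hs⟩) ∧ (t ≠ s⁻¹ → e ⟨t, ht⟩ ≠ (e ⟨s, hs⟩)⁻¹) := fun {s t} hs ht =>
      ⟨fun h h' => h (congrArg Subtype.val (e.injective h')), fun h h' => h (by
        rw [← map_inv] at h'; exact congrArg Subtype.val (e.injective h'))⟩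
    have hCA : g * (g * x * g⁻¹) * g⁻¹ ≠ x ∧ g * (g * x * g⁻¹) * g⁻¹ ≠ x⁻¹ := by
      have hno : ¬ Commute g x := fun hc => hxm.1 (mul_inv_eq_iff_eq_mul.mpr hc.eq)
      have e2 : g ^ (2 ^ 1) * x * (g ^ (2 ^ 1))⁻¹ = g * (g * x * g⁻¹) * g⁻¹ := by
        rw [pow_one, sq]; group
      refine ⟨fun h => hno (hpow 1 (mul_inv_eq_iff_eq_mul.mp (e2.trans h))), fun h => hno (hpow 2 ?_)⟩
      refine mul_inv_eq_iff_eq_mul.mp ?_
      have e4 : g ^ (2 ^ 2) * x * (g ^ (2 ^ 2))⁻¹ = g * (g * (g * (g * x * g⁻¹) * g⁻¹) * g⁻¹) * g⁻¹ := by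
        rw [show (2 ^ 2 : ℕ) = 2 + 2 from rfl, pow_add, sq]; group
      rw [e4, h, ← conj_inv, ← conj_inv, h, inv_inv]
    have hCB : g * (g * x * g⁻¹) * g⁻¹ ≠ g * x * g⁻¹ ∧ g * (g * x * g⁻¹) * g⁻¹ ≠ (g * x * g⁻¹)⁻¹ :=
      ⟨fun h => hxm.1 (mul_left_cancel (mul_right_cancel h)), fun h => hxm.2 (by
        rw [conj_inv] at h; exact mul_left_cancel (mul_right_cancel h))⟩
    have hinv : ∀ {s : G}, s ∈ (S : Subgroup G) → ∃ v : G, v * s * v⁻¹ = s⁻¹ := fun {s} hs => by
      obtain ⟨q, hq⟩ := inverted_quat (e ⟨s, hs⟩)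
      refine ⟨((e.symm q : ↥(S : Subgroup G)) : G), ?_⟩
      have : (e.symm q) * ⟨s, hs⟩ * (e.symm q)⁻¹ = (⟨s, hs⟩ : ↥(S : Subgroup G))⁻¹ := e.injective (by simpa using hq)
      exact congrArg Subtype.val this
    have conjinv : ∀ {s : G}, s ∈ (S : Subgroup G) → (∃ h : G, h * x * h⁻¹ = s) → ∃ h : G, h * x * h⁻¹ = s⁻¹ := by
      rintro s hs ⟨h, rfl⟩
      obtain ⟨v, hv⟩ := hinv hs
      exact ⟨v * h, by rw [← hv]; group⟩
    rcases cover_quat (e ⟨x, hx⟩) (e ⟨_, hb⟩) (e ⟨_, hc⟩) (e ⟨w, hw⟩) hx4 ((hsq hb).mpr (hne hx2))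
      ((hsq hc).mpr (hne (hne hx2))) ((hsq hw).mpr hw2) ((hcases hx hb).1 hxm.1) ((hcases hx hb).2 hxm.2)
      ((hcases hx hc).1 hCA.1) ((hcases hx hc).2 hCA.2) ((hcases hb hc).1 hCB.1) ((hcases hb hc).2 hCB.2)
      with h | h | h | h | h | h
    all_goals (try rw [← map_inv] at h)
    all_goals (have h' : w = _ := congrArg Subtype.val (e.injective h))
    all_goals (rw [h'])
    · exact ⟨1, by simp⟩
    · exact conjinv hx ⟨1, by simp⟩
    · exact ⟨g, rfl⟩
    · exact conjinv hb ⟨g, rfl⟩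
    · exact ⟨g * g, by group⟩
    · exact conjinv hc ⟨g * g, by group⟩
  obtain ⟨v, hv⟩ := key _ hzS (h4ne (by rw [orderOf_conj', hz]))
  obtain ⟨v', hv'⟩ := key _ (yEl_mem S e) (h4ne (orderOf_yEl S e (k := 1) (by norm_num)))
  refine ⟨h⁻¹ * v * v'⁻¹, ?_⟩
  rw [← hv']
  have hz' : z = h⁻¹ * (v * x * v⁻¹) * h := by rw [hv]; group
  rw [hz']
  group

end Q8

open scoped Classical

section Main

variable {G : Type*} [Group G] [Fintype G] {N : ℕ} [NeZero N] (S : Sylow 2 G)
  (e : ↥(S : Subgroup G) ≃* QuaternionGroup N)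

include e in
theorem eq_of_involutions_mem {s t : G} (hs : orderOf s = 2) (ht : orderOf t = 2) (h1 : s ∈ (S : Subgroup G))
    (h2 : t ∈ (S : Subgroup G)) : s = t := by
  have e1 := quat_involution (x := e ⟨s, h1⟩) (by rw [e.orderOf_eq, Subgroup.orderOf_mk, hs])
  have e2 := quat_involution (x := e ⟨t, h2⟩) (by rw [e.orderOf_eq, Subgroup.orderOf_mk, ht])
  exact congrArg Subtype.val (e.injective (e1.trans e2.symm))

include e in
theorem exists_conj_involution {s t : G} (hs : orderOf s = 2) (ht : orderOf t = 2) (h2 : t ∈ (S : Subgroup G)) :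
    ∃ g : G, g * s * g⁻¹ = t := by
  obtain ⟨g, hg⟩ := exists_conj_mem_sylow S (R := Subgroup.zpowers s)
    (IsPGroup.of_card (n := 1) (by rw [Nat.card_zpowers, hs, pow_one]))
  exact ⟨g, eq_of_involutions_mem S e (by rw [orderOf_conj', hs]) ht (hg s (Subgroup.mem_zpowers s)) h2⟩

include e in
theorem commute_mem_sylow {s u : G} (hs : s ∈ (S : Subgroup G)) (hu : orderOf u = 2) (hu' : u ∈ (S : Subgroup G)) :
    Commute s u :=
  mul_inv_eq_iff_eq_mul.mp (eq_of_involutions_mem S e (by rw [orderOf_conj', hu]) hu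
    (mul_mem (mul_mem hs hu') (inv_mem hs)) hu')

end Main

/-- If `G` has a normal 2-complement and no normal subgroup of odd order, it is a 2-group. -/
theorem sylow_eq_top {G : Type*} [Group G] [Finite G] (hnpc : Cfsg.HasNormalPComplement 2 G)
    (hO : ∀ M : Subgroup G, M.Normal → Odd (Nat.card M) → M = ⊥) (S : Sylow 2 G) : (S : Subgroup G) = ⊤ := by
  have hodd := Nat.coprime_two_right.mp (CfsgLib.Fusion.Basic.npc_iff_coprime.mp hnpc)
  have hb := hO (Cfsg.pResidual 2 G) inferInstance hodd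
  rw [eq_top_iff]
  intro g _
  obtain ⟨c, hc, s, hs, rfl⟩ := CfsgLib.Fusion.Basic.exists_eq_pResidual_mul S g
  rw [hb, Subgroup.mem_bot] at hc
  rwa [hc, one_mul]

theorem exists_char_or_npc {G : Type*} [Group G] [Fintype G] (S : Sylow 2 G) (n : ℕ)
    (e : ↥(S : Subgroup G) ≃* QuaternionGroup (2 ^ (n + 1))) :
    Cfsg.HasNormalPComplement 2 G ∨ ∃ χ : IrrCharacter G, χ ≠ trivChar G ∧
      ((χ : G → ℂ) (yEl S e (2 ^ n) ^ 2) = (χ : G → ℂ) 1 ∨
        (χ : G → ℂ) (yEl S e (2 ^ n) ^ 2) = -(χ : G → ℂ) 1) := by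
  rcases n with - | n
  · rcases fus_or_npc S e with hf | hn
    · exact Or.inr (exists_char_of_fus hf)
    · exact Or.inl hn
  · obtain ⟨χ, h1, h2⟩ := exists_char_of_order16 (k := 2 ^ (n + 1)) (pow_succ' 2 (n + 1))
      ⟨2 ^ n, by rw [pow_succ, pow_succ]; ring⟩ ⟨n + 1 + 1, rfl⟩ S e
    exact Or.inr ⟨χ, h1, Or.inl h2⟩

/-- Brauer-Suzuki: without normal subgroups of odd order the involutions are central. -/
theorem involution_mem_center {G : Type u} [Group G] [Finite G] (S : Sylow 2 G) (n : ℕ)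
    (e : ↥(S : Subgroup G) ≃* QuaternionGroup (2 ^ (n + 1)))
    (hO : ∀ M : Subgroup G, M.Normal → Odd (Nat.card M) → M = ⊥) {u : G} (hu : orderOf u = 2) :
    u ∈ Subgroup.center G := by
  obtain ⟨c, hc⟩ : ∃ c, Nat.card G = c := ⟨_, rfl⟩
  induction c using Nat.strong_induction_on generalizing G n with
  | _ c ih =>
  subst hc
  haveI := Fintype.ofFinite G
  set y := yEl S e (2 ^ n)
  have hy : orderOf y = 4 := orderOf_yEl S e (pow_succ' 2 n)
  set v := y ^ 2
  have hv : orderOf v = 2 := by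
    rw [orderOf_pow_of_dvd two_ne_zero (by rw [hy]; norm_num), hy]
  have hvS : v ∈ (S : Subgroup G) := Subgroup.pow_mem _ (yEl_mem S e) 2
  suffices hvc : v ∈ Subgroup.center G by
    obtain ⟨g, hg⟩ := exists_conj_involution S e hu hv hvS
    have : u = g⁻¹ * v * g := by rw [← hg]; group
    rw [this, Subgroup.mem_center_iff.mp hvc g⁻¹, mul_assoc, inv_mul_cancel, mul_one]
    exact hvc
  have hU := uniqueInv_of_quaternion S e
  suffices hcomm : ∀ g : G, Commute (g * v * g⁻¹) v by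
    refine Subgroup.mem_center_iff.mpr fun g => ?_
    exact mul_inv_eq_iff_eq_mul.mp (hU _ _ (by rw [orderOf_conj', hv]) hv (hcomm g))
  intro g
  rcases exists_char_or_npc S n e with hnpc | ⟨χ, hne, hpm⟩
  · exact commute_mem_sylow S e (sylow_eq_top hnpc hO S ▸ Subgroup.mem_top _) hv hvS
  set K := irrKer χ
  haveI hKn : K.Normal := irrKer_normal χ
  rcases hpm with hplus | hminus
  · have hvK : v ∈ K := mem_irrKer.mpr hplus
    have hKtop : K ≠ ⊤ := fun h => hne (irr_eq_triv_of_ker_top h)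
    have hlt : Nat.card K < Nat.card G := lt_of_le_of_ne
      (Nat.le_of_dvd Nat.card_pos (Subgroup.card_subgroup_dvd_card K)) fun h => hKtop (Subgroup.eq_top_of_card_eq K h)
    have hOG : Cfsg.oddCore G = ⊥ :=
      hO _ CfsgLib.Involution.ZStar.oddCore_normal CfsgLib.Involution.ZStar.odd_card_oddCore
    have hOK : ∀ M : Subgroup ↥K, M.Normal → Odd (Nat.card M) → M = ⊥ := by
      intro M hM hodd
      have h1 : Odd (Nat.card ((Cfsg.oddCore K).map K.subtype)) := by
        rw [Nat.card_congr ((Cfsg.oddCore K).equivMapOfInjective _ K.subtype_injective).toEquiv.symm]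
        exact CfsgLib.Involution.ZStar.odd_card_oddCore
      have h2 := le_trans (CfsgLib.Involution.ZStar.le_oddCore (G := G) inferInstance h1) hOG.le
      rw [le_bot_iff, Subgroup.map_eq_bot_iff_of_injective _ K.subtype_injective] at h2
      exact le_bot_iff.mp ((CfsgLib.Involution.ZStar.le_oddCore hM hodd).trans h2.le)
    obtain ⟨P⟩ : Nonempty (Sylow 2 ↥K) := inferInstance
    obtain ⟨w, hw⟩ := exists_conj_mem_sylow S (P.2.map K.subtype)
    let f : ↥(P : Subgroup ↥K) → QuaternionGroup (2 ^ (n + 1)) := fun p => e ⟨_, hw _ ⟨_, p.2, rfl⟩⟩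
    have hfew : Nat.card {x : ↥(P : Subgroup ↥K) // x ^ 2 = 1} ≤ 2 := by
      have hinj : Function.Injective fun x : {x : ↥(P : Subgroup ↥K) // x ^ 2 = 1} => (decide (x.1 = 1) : Bool) := by
        rintro ⟨p, hp⟩ ⟨q, hq⟩ h
        simp only [decide_eq_decide] at h
        apply Subtype.ext
        show p = q
        by_cases hp1 : p = 1
        · rw [hp1, h.mp hp1]
        · have hq1 : q ≠ 1 := fun h' => hp1 (h.mpr h')
          have hord : ∀ r : ↥(P : Subgroup ↥K), r ^ 2 = 1 → r ≠ 1 → orderOf ((r : ↥K) : G) = 2 := fun r h1 h2 => by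
            rw [Subgroup.orderOf_coe, Subgroup.orderOf_coe]; exact orderOf_eq_prime h1 h2
          have := eq_of_involutions_mem S e (by rw [orderOf_conj']; exact hord p hp hp1)
            (by rw [orderOf_conj']; exact hord q hq hq1) (hw _ ⟨_, p.2, rfl⟩) (hw _ ⟨_, q.2, rfl⟩)
          exact Subtype.ext (Subtype.ext (mul_left_cancel (mul_right_cancel this)))
      exact (Nat.card_le_card_of_injective _ hinj).trans (by simp)
    have hgK : g * v * g⁻¹ ∈ K := hKn.conj_mem v hvK g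
    suffices Commute (⟨_, hgK⟩ : ↥K) ⟨v, hvK⟩ from congrArg Subtype.val this.eq
    have hcyc : IsCyclic ↥(P : Subgroup ↥K) → Commute (⟨_, hgK⟩ : ↥K) ⟨v, hvK⟩ := by
      intro hP
      have hnpc : Cfsg.HasNormalPComplement 2 ↥K := npc_of_cyclic_two_subgroups fun R hR => by
        obtain ⟨x, hx⟩ := exists_conj_mem_sylow P hR
        exact isCyclic_of_injective
          (MonoidHom.mk' (fun r : ↥R => (⟨x * (r : ↥K) * x⁻¹, hx r r.2⟩ : ↥(P : Subgroup ↥K))) fun a b =>
            Subtype.ext (by simp [mul_assoc]))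
          fun a b h => Subtype.ext (mul_left_cancel (mul_right_cancel (congrArg Subtype.val h)))
      have htop := sylow_eq_top hnpc hOK P
      letI := hP.commGroup
      have := mul_comm (⟨⟨_, hgK⟩, htop ▸ Subgroup.mem_top _⟩ : ↥(P : Subgroup ↥K)) ⟨⟨v, hvK⟩, htop ▸ Subgroup.mem_top _⟩
      exact congrArg Subtype.val this
    rcases CfsgLib.FrobRealize.Quaternion.cyclic_or_quaternion P.2 hfew with hc | ⟨-, m, ⟨e'⟩⟩
    · exact hcyc hc
    rcases m with - | m
    · refine hcyc ?_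
      haveI : IsCyclic (QuaternionGroup (2 ^ 0)) := by
        rw [pow_zero]; exact QuaternionGroup.quaternionGroup_one_isCyclic
      exact e'.isCyclic.2 inferInstance
    have := ih _ hlt P m e' hOK (u := ⟨v, hvK⟩) (by rw [← Subgroup.orderOf_coe]; exact hv) rfl
    exact Subgroup.mem_center_iff.mp this _
  · have hKodd : Odd (Nat.card K) := by
      rw [← Nat.not_even_iff_odd, even_iff_two_dvd]
      intro hd
      obtain ⟨t, ht⟩ := exists_prime_orderOf_dvd_card' (G := ↥K) 2 hd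
      obtain ⟨x, hx⟩ := exists_conj_involution S e (s := (t : G)) (by rw [Subgroup.orderOf_coe, ht]) hv hvS
      have hvK : v ∈ K := hx ▸ hKn.conj_mem t t.2 x
      have h1 := mem_irrKer.mp hvK
      rw [hminus] at h1
      exact irr_one_ne_zero χ (neg_eq_self.mp h1)
    have hc1 := commutator_mem_irrKer hminus g
    rw [show irrKer χ = ⊥ from hO K hKn hKodd, Subgroup.mem_bot] at hc1
    have hvg : v * g = g * v := by
      rw [mul_inv_eq_one, mul_inv_eq_iff_eq_mul] at hc1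
      exact hc1
    rw [show g * v * g⁻¹ = v by rw [← hvg, mul_inv_cancel_right]]

theorem sq_eq_one_of_central_quat {N : ℕ} (hN : 2 ≤ N) {q : QuaternionGroup N}
    (h : ∀ r, Commute r q) : q * q = 1 := by
  rcases q with i | i
  · have h1 : xa 0 * a i = a i * xa (0 : ZMod (2 * N)) := h (xa 0)
    rw [xa_mul_a, a_mul_xa, xa.injEq] at h1
    rw [a_mul_a, show i + i = 0 by linear_combination h1]
    rfl
  · have h1 : a 1 * xa i = xa i * a (1 : ZMod (2 * N)) := h (a 1)
    rw [xa_mul_a, a_mul_xa, xa.injEq] at h1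
    exfalso
    have h2 : ((2 : ℕ) : ZMod (2 * N)) = 0 := by push_cast; linear_combination -h1
    rw [ZMod.natCast_eq_zero_iff] at h2
    have := Nat.le_of_dvd two_pos h2
    omega

/-- The theorem of Brauer and Suzuki. -/
theorem card_center_eq_two {G : Type u} [Group G] [Finite G] (S : Sylow 2 G) (n : ℕ)
    (e : ↥(S : Subgroup G) ≃* QuaternionGroup (2 ^ (n + 1)))
    (hO : ∀ M : Subgroup G, M.Normal → Odd (Nat.card M) → M = ⊥) :
    Nat.card (Subgroup.center G) = 2 := by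
  haveI := Fintype.ofFinite G
  set v := yEl S e (2 ^ n) ^ 2
  have hy : orderOf (yEl S e (2 ^ n)) = 4 := orderOf_yEl S e (pow_succ' 2 n)
  have hv : orderOf v = 2 := by rw [orderOf_pow_of_dvd two_ne_zero (by rw [hy]; norm_num), hy]
  have hvc := involution_mem_center S n e hO hv
  suffices Subgroup.center G = Subgroup.zpowers v by rw [this, Nat.card_zpowers, hv]
  refine le_antisymm (fun z hz => ?_) (Subgroup.zpowers_le.mpr hvc)
  obtain ⟨j, m, hm, hzm⟩ := Nat.exists_eq_two_pow_mul_odd (orderOf_pos z).ne'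
  have hw : z ^ (2 ^ j) = 1 := by
    have hwc : z ^ (2 ^ j) ∈ Subgroup.center G := pow_mem hz _
    have hn : (Subgroup.zpowers (z ^ (2 ^ j))).Normal := ⟨fun a ha b => by
      have hac : a ∈ Subgroup.center G := (Subgroup.zpowers_le.2 hwc) ha
      rw [Subgroup.mem_center_iff.1 hac b, mul_inv_cancel_right]; exact ha⟩
    have := hO _ hn (by
      rw [Nat.card_zpowers, orderOf_pow_of_dvd (by positivity) (hzm ▸ dvd_mul_right _ _), hzm,
        Nat.mul_div_cancel_left _ (by positivity)]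
      exact hm)
    exact Subgroup.zpowers_eq_bot.mp this
  obtain ⟨j', -, hj'⟩ := (Nat.dvd_prime_pow Nat.prime_two).mp (orderOf_dvd_of_pow_eq_one hw)
  obtain ⟨g, hg⟩ := exists_conj_mem_sylow S (R := Subgroup.zpowers z) (IsPGroup.of_card (n := j') (by rw [Nat.card_zpowers, hj']))
  have hzS : z ∈ (S : Subgroup G) := by
    have := hg z (Subgroup.mem_zpowers z)
    rwa [Subgroup.mem_center_iff.mp hz g, mul_inv_cancel_right] at this
  have hq := sq_eq_one_of_central_quat (q := e ⟨z, hzS⟩) (by rw [pow_succ]; have := Nat.one_le_two_pow (n := n); omega) fun r => by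
    have : Commute (e.symm r) (⟨z, hzS⟩ : ↥(S : Subgroup G)) := Subtype.ext (Subgroup.mem_center_iff.mp hz _)
    simpa using this.map e
  rw [← map_mul, e.map_eq_one_iff] at hq
  have hz2 : z * z = 1 := congrArg Subtype.val hq
  by_cases hz1 : z = 1
  · rw [hz1]; exact one_mem _
  · rw [eq_of_involutions_mem S e (orderOf_eq_prime (by rw [sq, hz2]) hz1) hv hzS
      (Subgroup.pow_mem _ (yEl_mem S e) 2)]
    exact Subgroup.mem_zpowers _

end CfsgLib.BrauerSuzuki
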