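import Cfsg.Agent.Lib.BrauerSuzuki.Setup
import Cfsg.Agent.Lib.CharDeep.Brauer
import Cfsg.Agent.Lib.OddOrder.Basic

/-!
# Functions of the 2-part in a group with quaternion Sylow 2-subgroups of order 8
-/

set_option autoImplicit false

namespace CfsgLib.BrauerSuzuki

open Cfsg CfsgLib.Blocks QuaternionGroup
open scoped Classical ComplexConjugate

/-- `4` on elements of order divisible by 4, `0` otherwise. -/
noncomputable def thetaF (G : Type*) [Group G] : G → ℂ := fun x => if 4 ∣ orderOf x then 4 else 0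

/-- `2`, `-2`, `0` on elements with 2-part of order 1, 2, at least 4. -/
noncomputable def alphaF (G : Type*) [Group G] : G → ℂ := fun x =>
  if 4 ∣ orderOf x then 0 else if 2 ∣ orderOf x then -2 else 2

section Elem

variable {G : Type*} [Group G]

theorem thetaF_coe (H : Subgroup G) (h : H) : thetaF G h = thetaF H h := by
  simp only [thetaF, Subgroup.orderOf_coe]

theorem alphaF_coe (H : Subgroup G) (h : H) : alphaF G h = alphaF H h := by
  simp only [alphaF, Subgroup.orderOf_coe]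

theorem thetaF_isClassFunction : IsClassFunction G (thetaF G) := fun x g => by
  simp only [thetaF, orderOf_conj']

theorem alphaF_isClassFunction : IsClassFunction G (alphaF G) := fun x g => by
  simp only [alphaF, orderOf_conj']

theorem thetaF_eq : thetaF G = 4 • (fun _ : G => (1 : ℂ)) - alphaF G * alphaF G := by
  funext x
  simp only [thetaF, alphaF, Pi.sub_apply, Pi.smul_apply, Pi.mul_apply]
  split_ifs <;> norm_num

theorem thetaF_sq : thetaF G * thetaF G = 4 • thetaF G := by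
  funext x
  simp only [thetaF, Pi.smul_apply, Pi.mul_apply]
  split_ifs <;> norm_num

theorem thetaF_mul_alphaF : thetaF G * alphaF G = 0 := by
  funext x
  simp only [thetaF, alphaF, Pi.zero_apply, Pi.mul_apply]
  split_ifs <;> norm_num

theorem alphaF_sq : alphaF G * alphaF G = 4 • (fun _ : G => (1 : ℂ)) - thetaF G := by
  funext x
  simp only [thetaF, alphaF, Pi.sub_apply, Pi.smul_apply, Pi.mul_apply]
  split_ifs <;> norm_num

theorem thetaF_of_odd {x : G} (h : ¬ 2 ∣ orderOf x) : thetaF G x = 0 :=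
  if_neg fun h4 => h (dvd_trans (by norm_num) h4)

theorem alphaF_of_odd {x : G} (h : ¬ 2 ∣ orderOf x) : alphaF G x = 2 := by
  rw [alphaF, if_neg fun h4 => h (dvd_trans (by norm_num) h4), if_neg h]

theorem pow_dvd_orderOf_map {H : Type*} [Group H] [Finite G] (π : G →* H)
    (hk : ∀ g, π g = 1 → Odd (orderOf g)) (x : G) (i : ℕ) :
    2 ^ i ∣ orderOf (π x) ↔ 2 ^ i ∣ orderOf x := by
  refine ⟨fun h => h.trans (orderOf_map_dvd π x), fun h => ?_⟩
  set m := orderOf (π x) with hm
  have h1 : Odd (orderOf (x ^ m)) := hk _ (by rw [map_pow, hm, pow_orderOf_eq_one])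
  have h2 : orderOf x ∣ m * orderOf (x ^ m) :=
    orderOf_dvd_of_pow_eq_one (by rw [pow_mul, pow_orderOf_eq_one])
  exact (Nat.Coprime.pow_left i (Nat.coprime_two_left.mpr h1)).dvd_of_dvd_mul_right (h.trans h2)

theorem npc_of_isNilpotent [Finite G] [Group.IsNilpotent G] : Cfsg.HasNormalPComplement 2 G := by
  obtain ⟨P⟩ : Nonempty (Sylow 2 G) := inferInstance
  refine CfsgLib.Fusion.Alperin.npc_of_frobenius P fun Q hQ g _ ho q hq => ?_
  obtain ⟨j, hj⟩ := IsPGroup.iff_orderOf.mp (P.2.to_le hQ) ⟨q, hq⟩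
  rw [Subgroup.orderOf_mk] at hj
  exact CfsgLib.OddOrder.Basic.commute_of_coprime_orderOf (a := q) (b := g)
    (by rw [hj]; exact Nat.Coprime.pow_left j ho.symm)

theorem isNilpotent_of_isElementary [Finite G] {p : ℕ} (hp : p.Prime) (h : IsElementary p G) :
    Group.IsNilpotent G := by
  haveI := Fact.mk hp
  obtain ⟨x, hx, -, k, hk⟩ := h
  have hle : Subgroup.zpowers x ≤ Subgroup.center G := Subgroup.zpowers_le.mpr hx
  obtain ⟨j, -, hj⟩ := (Nat.dvd_prime_pow hp).mp (hk ▸ Subgroup.index_dvd_of_le hle)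
  have hq : IsPGroup p (G ⧸ Subgroup.center G) := IsPGroup.of_card (n := j) hj
  haveI := hq.isNilpotent
  exact Group.of_quotient_center_nilpotent inferInstance

end Elem

section Sylow

variable {G : Type*} [Group G] [Fintype G] (S : Sylow 2 G)
  (e : ↥(S : Subgroup G) ≃* QuaternionGroup 2)

include S e in
theorem gc_alphaF : IsGeneralizedCharacter G (alphaF G) := by
  refine CfsgLib.CharDeep.Brauer.isGeneralizedCharacter_of_elementary alphaF_isClassFunction
    fun p hp E hE => ?_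
  haveI := isNilpotent_of_isElementary hp hE
  obtain ⟨P⟩ : Nonempty (Sylow 2 ↥E) := inferInstance
  obtain ⟨π, -, hπ⟩ := exists_retraction npc_of_isNilpotent P
  have hk : ∀ g, π g = 1 → Odd (orderOf g) := fun g hg => Nat.coprime_two_right.mp (hπ g hg)
  obtain ⟨g, hg⟩ := exists_conj_mem_sylow S (P.2.map E.subtype)
  let f : ↥(P : Subgroup ↥E) →* QuaternionGroup 2 := MonoidHom.mk'
    (fun q => e ⟨g * ((q : ↥E) : G) * g⁻¹, hg _ ⟨_, q.2, rfl⟩⟩) (fun q r => by
      rw [← map_mul]
      congr 1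
      apply Subtype.ext
      simp [mul_assoc])
  have ho : ∀ q, orderOf (f q) = orderOf q := fun q => by
    show orderOf (e _) = _
    rw [e.orderOf_eq, Subgroup.orderOf_mk, orderOf_conj', Subgroup.orderOf_coe, Subgroup.orderOf_coe]
  have heq : (fun x : ↥E => alphaF G x) = alphaQ ∘ (f.comp π) := by
    funext x
    rw [Function.comp_apply, alphaQ_two, MonoidHom.comp_apply, ho]
    show alphaF G (x : G) = _
    rw [alphaF, Subgroup.orderOf_coe, show (4 : ℕ) = 2 ^ 2 from rfl]
    have h1 : 2 ∣ orderOf (π x) ↔ 2 ∣ orderOf x := by simpa using pow_dvd_orderOf_map π hk x 1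
    simp only [pow_dvd_orderOf_map π hk x 2, h1]
  rw [heq]
  exact gc_comp (gc_alphaQ dvd_rfl) _

include S e in
theorem gc_thetaF : IsGeneralizedCharacter G (thetaF G) := by
  rw [thetaF_eq]
  exact gc_sub (gc_nsmul gc_one 4) (gc_mul (gc_alphaF S e) (gc_alphaF S e))

/-- All elements of order four are conjugate. -/
def Fus : Prop := ∀ z : G, orderOf z = 4 → ∃ g : G, g * yEl S e 1 * g⁻¹ = z

/-- The involution. -/
noncomputable def uEl : G := yEl S e 1 ^ 2

theorem orderOf_uEl : orderOf (uEl S e) = 2 := by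
  rw [uEl, orderOf_pow_of_dvd two_ne_zero (by rw [orderOf_yEl S e (by norm_num)]; norm_num),
    orderOf_yEl S e (by norm_num)]

theorem classInner_thetaF_one (hfus : Fus S e) : classInner (thetaF G) (fun _ => 1) = 1 := by
  obtain ⟨π, hπ, -, hπy⟩ := exists_proj S e (k := 1) (by norm_num) ⟨1, rfl⟩
  let Ny := Subgroup.normalizer (Subgroup.zpowers (yEl S e 1) : Set G)
  let F : QuaternionGroup 2 → ℂ := fun q => if q ∈ cyclicPart 2 ∧ q ^ 2 ≠ 1 then 4 else 0
  have hy : orderOf (yEl S e 1) = 4 := orderOf_yEl S e (by norm_num)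
  set D : G → Prop := fun x => yEl S e 1 ∈ Subgroup.zpowers x
  have hD : ∀ h : ↥Ny, (F ∘ π) h ≠ 0 → D h := fun h hne => (hπy h).mpr (by
    by_contra hc; exact hne (if_neg hc))
  have hfc : IsClassFunction ↥Ny (F ∘ π) := by
    intro x g
    show F (π (g * x * g⁻¹)) = F (π x)
    have h1 : ∀ z : ↥Ny, (π z ∈ cyclicPart 2 ∧ π z ^ 2 ≠ 1) ↔ D z := fun z => (hπy z).symm
    have hn : ∀ (w : ↥Ny) (z : ↥Ny), D z → D ((w * z * w⁻¹ : ↥Ny) : G) := by
      intro w z hz
      obtain ⟨i, hi⟩ := Subgroup.mem_zpowers_iff.mp hz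
      have h2 : (w : G) * yEl S e 1 * (w : G)⁻¹ ∈ Subgroup.zpowers ((w * z * w⁻¹ : ↥Ny) : G) := by
        rw [← hi, ← conj_zpow]
        exact Subgroup.zpow_mem _ (Subgroup.mem_zpowers _) i
      have h3 : Subgroup.zpowers ((w : G) * yEl S e 1 * (w : G)⁻¹) = Subgroup.zpowers (yEl S e 1) := by
        have := Subgroup.mem_normalizer_iff_map_conj_eq.mp w.2
        rwa [MonoidHom.map_zpowers] at this
      exact (Subgroup.zpowers_le.mpr h2) (h3.symm ▸ Subgroup.mem_zpowers _)
    simp only [F]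
    refine if_congr ((h1 _).trans (Iff.trans ⟨fun h => ?_, hn g x⟩ (h1 x).symm)) rfl rfl
    have := hn g⁻¹ _ h
    rwa [show g⁻¹ * (g * x * g⁻¹) * g⁻¹⁻¹ = x by group] at this
  have hTI : ∀ g x : G, x ∈ Ny → D x → g * x * g⁻¹ ∈ Ny → D (g * x * g⁻¹) → g ∈ Ny :=
    fun g x _ h1 _ h2 => mem_normalizer_zpowers_of_TI hy h1 h2
  have key : thetaF G = Cfsg.indFun Ny (F ∘ π) := by
    refine eq_indFun_special Ny D hfc hD hTI thetaF_isClassFunction (fun h hh => ?_) (fun g hg => ?_)
    · have h4 : 4 ∣ orderOf (h : G) := hy ▸ orderOf_dvd_of_mem_zpowers hh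
      rw [thetaF, if_pos h4]
      exact (if_pos ((hπy h).mp hh)).symm
    · have h4 : 4 ∣ orderOf g := by by_contra h; exact hg (if_neg h)
      have hpos := orderOf_pos g
      have hw : orderOf (g ^ (orderOf g / 4)) = 4 := by
        rw [orderOf_pow_of_dvd (by have := Nat.le_of_dvd hpos h4; omega) (Nat.div_dvd_of_dvd h4),
          Nat.div_div_self h4 hpos.ne']
      obtain ⟨x, hx⟩ := hfus _ hw
      have hyx : yEl S e 1 ∈ Subgroup.zpowers (x⁻¹ * g * x) := by
        have h5 : x⁻¹ * g ^ (orderOf g / 4) * x = yEl S e 1 := by rw [← hx]; group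
        rw [← h5]
        have := conj_pow (i := orderOf g / 4) (a := x⁻¹) (b := g)
        rw [inv_inv] at this
        rw [← this]
        exact Subgroup.pow_mem _ (Subgroup.mem_zpowers _) _
      refine ⟨x, ?_, hyx⟩
      apply Subgroup.centralizer_le_normalizer
      intro z hz
      obtain ⟨i, rfl⟩ := Subgroup.mem_zpowers_iff.mp hz
      obtain ⟨j, hj⟩ := Subgroup.mem_zpowers_iff.mp hyx
      rw [← hj, ← zpow_mul, ← zpow_one (x⁻¹ * g * x), ← zpow_mul, zpow_mul_comm]
  rw [key, Char.classInner_indFun Ny _ (fun _ _ => rfl)]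
  show classInner (F ∘ π) ((fun _ => (1 : ℂ)) ∘ π) = 1
  rw [Char.classInner_comp_surjective π hπ, Cfsg.classInner, ← splitEquiv.sum_comp, Fintype.sum_sum_type]
  have hxa : ∀ i : ZMod (2 * 2), F (xa i) = 0 := fun i => if_neg fun h => xa_notMem_cyclicPart i h.1
  have hF : ∀ i : ZMod (2 * 2), F (a i) = if a i * a i ≠ 1 then 4 else 0 := fun i => by
    simp only [F]
    exact if_congr ⟨fun h => by rw [← sq]; exact h.2, fun h => ⟨a_mem_cyclicPart i, by rw [sq]; exact h⟩⟩ rfl rfl
  simp only [splitEquiv, Equiv.coe_fn_mk, Sum.elim_inl, Sum.elim_inr, hxa, hF]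
  rw [Nat.card_eq_fintype_card, QuaternionGroup.card]
  have he : ∀ i : ZMod (2 * 2), (a i * a i ≠ 1) ↔ (i = 1 ∨ i = 3) := by decide
  simp only [he]
  rw [show (Finset.univ : Finset (ZMod (2 * 2))) = {0, 1, 2, 3} by decide]
  norm_num [show ((1 : ZMod (2*2)) ≠ 3) by decide, show ((0 : ZMod (2*2)) ≠ 3) by decide,
    show ((0 : ZMod (2*2)) ≠ 1) by decide, show ((2 : ZMod (2*2)) ≠ 1) by decide,
    show ((2 : ZMod (2*2)) ≠ 3) by decide, show ((3 : ZMod (2*2)) ≠ 1) by decide,
    show ((0 : ZMod (2*2)) ≠ 2) by decide, show ((1 : ZMod (2*2)) ≠ 2) by decide]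

/-! ### The centralizer of the involution -/

theorem uEl_commute_sylow {s : G} (hs : s ∈ (S : Subgroup G)) : Commute s (uEl S e) := by
  have hu : uEl S e ∈ (S : Subgroup G) := Subgroup.pow_mem _ (yEl_mem S e) 2
  have h2 : s * uEl S e * s⁻¹ ∈ (S : Subgroup G) := mul_mem (mul_mem hs hu) (inv_mem hs)
  have e1 := quat_involution (x := e ⟨_, hu⟩) (by rw [e.orderOf_eq, Subgroup.orderOf_mk, orderOf_uEl])
  have e2 := quat_involution (x := e ⟨_, h2⟩) (by rw [e.orderOf_eq, Subgroup.orderOf_mk, orderOf_conj', orderOf_uEl])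
  exact mul_inv_eq_iff_eq_mul.mp (congrArg Subtype.val (e.injective (e2.trans e1.symm)))

/-- `C_G(u)`. -/
noncomputable abbrev cU : Subgroup G := Subgroup.centralizer ({uEl S e} : Set G)

theorem sylow_le_cU : (S : Subgroup G) ≤ cU S e := fun _ hs =>
  Subgroup.mem_centralizer_singleton_iff.mpr (uEl_commute_sylow S e hs).eq

/-- The Sylow subgroup inside `C_G(u)`. -/
noncomputable def sU : Sylow 2 ↥(cU S e) := S.subtype (sylow_le_cU S e)

/-- Its identification. -/
noncomputable def eU : ↥(sU S e : Subgroup ↥(cU S e)) ≃* QuaternionGroup 2 :=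
  (Subgroup.subgroupOfEquivOfLe (sylow_le_cU S e)).trans e

theorem yEl_coe : ((yEl (sU S e) (eU S e) 1 : ↥(cU S e)) : G) = yEl S e 1 := rfl

theorem uEl_coe : ((uEl (sU S e) (eU S e) : ↥(cU S e)) : G) = uEl S e := rfl

theorem uEl_central (x : ↥(cU S e)) : Commute (uEl (sU S e) (eU S e)) x :=
  Subtype.ext (Subgroup.mem_centralizer_singleton_iff.mp x.2).symm

include S e in
theorem uniqueInv' : UniqueInv G := uniqueInv_of_quaternion S e

theorem conj_uEl_eq {g : G} (hc : Commute (g * uEl S e * g⁻¹) (uEl S e)) : g ∈ cU S e := by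
  refine Subgroup.mem_centralizer_singleton_iff.mpr ?_
  exact mul_inv_eq_iff_eq_mul.mp (uniqueInv' S e _ _ (by rw [orderOf_conj', orderOf_uEl]) (orderOf_uEl S e) hc)

theorem fus_cU (hfus : Fus S e) : Fus (sU S e) (eU S e) := by
  intro z hz
  obtain ⟨g, hg⟩ := hfus (z : G) (by rwa [Subgroup.orderOf_coe])
  have hgH : g ∈ cU S e := by
    refine conj_uEl_eq S e ?_
    rw [uEl, ← conj_pow, hg]
    exact (show Commute (z : G) (yEl S e 1 ^ 2) from Subgroup.mem_centralizer_singleton_iff.mp z.2).pow_left 2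
  exact ⟨⟨g, hgH⟩, Subtype.ext hg⟩

/-! ### The vanishing set -/

theorem mem_cU_of_even {g x : G} (hx : x ∈ cU S e) (h2 : 2 ∣ orderOf x) (hgx : g * x * g⁻¹ ∈ cU S e) :
    g ∈ cU S e := by
  set z := x ^ (orderOf x / 2)
  have hz := orderOf_half h2
  have hzu : z = uEl S e := uniqueInv' S e _ _ hz (orderOf_uEl S e)
    ((show Commute x (uEl S e) from Subgroup.mem_centralizer_singleton_iff.mp hx).pow_left _)
  refine conj_uEl_eq S e ?_
  rw [← hzu, ← conj_pow, hzu]
  exact (show Commute (g * x * g⁻¹) (uEl S e) from Subgroup.mem_centralizer_singleton_iff.mp hgx).pow_left _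

theorem exists_conj_mem_cU {g : G} (h2 : 2 ∣ orderOf g) : ∃ x : G, x⁻¹ * g * x ∈ cU S e := by
  have hz := orderOf_half h2
  obtain ⟨w, hw⟩ := exists_conj_mem_sylow S (R := Subgroup.zpowers (g ^ (orderOf g / 2)))
    (IsPGroup.of_card (n := 1) (by rw [Nat.card_zpowers, hz, pow_one]))
  have h1 := hw _ (Subgroup.mem_zpowers _)
  have e1 := quat_involution (x := e ⟨_, h1⟩) (by rw [e.orderOf_eq, Subgroup.orderOf_mk, orderOf_conj', hz])
  have hu : uEl S e ∈ (S : Subgroup G) := Subgroup.pow_mem _ (yEl_mem S e) 2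
  have e2 := quat_involution (x := e ⟨_, hu⟩) (by rw [e.orderOf_eq, Subgroup.orderOf_mk, orderOf_uEl])
  have hconj : w * g ^ (orderOf g / 2) * w⁻¹ = uEl S e := congrArg Subtype.val (e.injective (e1.trans e2.symm))
  refine ⟨w⁻¹, Subgroup.mem_centralizer_singleton_iff.mpr ?_⟩
  rw [inv_inv]
  have h5 : Commute (w * g * w⁻¹) (uEl S e) := by
    rw [← hconj, ← conj_pow]
    exact Commute.self_pow _ _
  exact h5.eq

end Sylow

end CfsgLib.BrauerSuzuki
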