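import Cfsg.Agent.Lib.BrauerSuzuki.QuaternionFun
import Cfsg.Agent.Lib.Fusion.Alperin

/-!
# Structure around an element of order four
-/

set_option autoImplicit false

namespace CfsgLib.BrauerSuzuki

open QuaternionGroup
open scoped commutatorElement

section Quaternion

variable {N : ℕ} [NeZero N]

theorem quat_involution {x : QuaternionGroup N} (hx : orderOf x = 2) : x = a (N : ZMod (2 * N)) := by
  rcases x with i | i
  · have h1 : a i * a i = 1 := by rw [← sq, ← hx, pow_orderOf_eq_one]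
    rw [a_mul_a, one_def, a.injEq] at h1
    have h3 : ((i.val + i.val : ℕ) : ZMod (2 * N)) = 0 := by
      rw [Nat.cast_add, ZMod.natCast_zmod_val, h1]
    rw [ZMod.natCast_eq_zero_iff] at h3
    obtain ⟨m, hm⟩ := h3
    have hlt := ZMod.val_lt i
    have : m = 1 := by
      rcases Nat.lt_or_ge m 2 with h | h
      · interval_cases m
        · exfalso
          have hi : i = 0 := (ZMod.val_eq_zero i).mp (by omega)
          rw [hi, show (a (0 : ZMod (2 * N)) : QuaternionGroup N) = 1 from rfl, orderOf_one] at hx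
          omega
        · rfl
      · nlinarith
    subst this
    congr 1
    rw [← ZMod.natCast_zmod_val i, show i.val = N by omega]
  · rw [orderOf_xa] at hx
    omega

theorem quat_order_four {i : ZMod (2 * N)} {k : ℕ} (hN : N = 2 * k) (h : orderOf (a i) = 4) :
    a i = a (k : ZMod (2 * N)) ∨ a i = (a (k : ZMod (2 * N)))⁻¹ := by
  have e : ∀ j : ℕ, (a i) ^ j = a ((j * i.val : ℕ) : ZMod (2 * N)) := by
    intro j
    induction j with
    | zero => rw [pow_zero, Nat.zero_mul, Nat.cast_zero]; rfl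
    | succ j ih => rw [pow_succ, ih, a_mul_a, Nat.succ_mul j i.val, Nat.cast_add, ZMod.natCast_zmod_val]
  have h4 := pow_orderOf_eq_one (a i)
  rw [h, e, one_def, a.injEq, ZMod.natCast_eq_zero_iff] at h4
  have h2 : ¬ 2 * N ∣ 2 * i.val := fun hd => by
    have : (a i) ^ 2 = 1 := by
      rw [e, one_def, a.injEq, ZMod.natCast_eq_zero_iff]; exact hd
    have := orderOf_dvd_of_pow_eq_one this
    rw [h] at this
    norm_num at this
  obtain ⟨m, hm⟩ := h4
  have hlt := ZMod.val_lt i
  have hm4 : m < 4 := by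
    by_contra hge
    have := Nat.mul_le_mul_left (2 * N) (not_lt.mp hge)
    omega
  interval_cases m
  · exact absurd ⟨0, by omega⟩ h2
  · left
    congr 1
    rw [← ZMod.natCast_zmod_val i, show i.val = k by omega]
  · exact absurd ⟨1, by omega⟩ h2
  · right
    rw [eq_inv_iff_mul_eq_one, a_mul_a, one_def, a.injEq, ← ZMod.natCast_zmod_val i, ← Nat.cast_add,
      ZMod.natCast_eq_zero_iff]
    exact ⟨1, by omega⟩

theorem quat_half_order {k : ℕ} (hN : N = 2 * k) : orderOf (a (k : ZMod (2 * N))) = 4 := by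
  have hk : 0 < k := Nat.pos_of_ne_zero fun h => NeZero.ne N (by omega)
  rw [← a_one_pow, orderOf_pow_of_dvd (by omega) (by rw [orderOf_a_one]; exact ⟨4, by omega⟩), orderOf_a_one]
  exact Nat.div_eq_of_eq_mul_left hk (by omega)

theorem commute_half_iff {k : ℕ} (hN : N = 2 * k) (x : QuaternionGroup N) :
    Commute x (a (k : ZMod (2 * N))) ↔ x ∈ cyclicPart N := by
  rcases x with i | i
  · refine iff_of_true ?_ (a_mem_cyclicPart i)
    show a i * a _ = a _ * a i
    rw [a_mul_a, a_mul_a, add_comm]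
  · refine iff_of_false ?_ (xa_notMem_cyclicPart i)
    intro h
    have h1 : xa i * a (k : ZMod (2 * N)) = a (k : ZMod (2 * N)) * xa i := h
    rw [xa_mul_a, a_mul_xa, xa.injEq, ← sub_eq_zero,
      show i + (k : ZMod (2 * N)) - (i - (k : ZMod (2 * N))) = ((k + k : ℕ) : ZMod (2 * N)) by push_cast; ring,
      ZMod.natCast_eq_zero_iff] at h1
    have hpos : 0 < N := Nat.pos_of_ne_zero (NeZero.ne N)
    have := Nat.le_of_dvd (by omega) h1
    omega

theorem conj_half {k : ℕ} (x : QuaternionGroup N) :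
    x * a (k : ZMod (2 * N)) * x⁻¹ = a (k : ZMod (2 * N)) ∨
      x * a (k : ZMod (2 * N)) * x⁻¹ = (a (k : ZMod (2 * N)))⁻¹ := by
  rcases x with i | i
  · left
    rw [mul_inv_eq_iff_eq_mul, a_mul_a, a_mul_a, add_comm]
  · right
    rw [mul_inv_eq_iff_eq_mul, eq_inv_mul_iff_mul_eq, xa_mul_a, a_mul_xa, add_sub_cancel_right]

theorem isCyclic_cyclicPart : IsCyclic (cyclicPart N) := by
  refine ⟨⟨⟨a 1, a_mem_cyclicPart 1⟩, ?_⟩⟩
  rintro ⟨x, i, rfl⟩
  refine ⟨(i.val : ℤ), Subtype.ext ?_⟩
  show ((⟨a 1, a_mem_cyclicPart 1⟩ : cyclicPart N) ^ (i.val : ℤ) : cyclicPart N).1 = a i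
  rw [zpow_natCast, SubmonoidClass.coe_pow, a_one_pow, ZMod.natCast_zmod_val]

theorem isCyclic_of_commute_order_four {k : ℕ} (hN : N = 2 * k) {R : Subgroup (QuaternionGroup N)}
    {y : QuaternionGroup N} (hy : orderOf y = 4) (h : ∀ r ∈ R, Commute r y) : IsCyclic R := by
  rcases y with i | i
  · have hle : R ≤ cyclicPart N := fun r hr => by
      rw [← commute_half_iff hN]
      rcases quat_order_four hN hy with e | e
      · exact e ▸ h r hr
      · have := h r hr
        rw [e] at this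
        exact Commute.inv_right_iff.mp this
    haveI := isCyclic_cyclicPart (N := N)
    exact Subgroup.isCyclic_of_le hle
  · have hle : R ≤ Subgroup.zpowers (xa i) := fun r hr => by
      have hc : r * xa i = xa i * r := h r hr
      rcases r with j | j
      · rw [a_mul_xa, xa_mul_a, xa.injEq] at hc
        have hj : j + j = 0 := by linear_combination -hc
        by_cases h0 : j = 0
        · rw [h0]; exact one_mem _
        · have h2 : orderOf (a j) = 2 := orderOf_eq_prime (by rw [sq, a_mul_a, hj]; rfl)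
            (fun e => h0 (by rw [one_def, a.injEq] at e; exact e))
          rw [quat_involution h2, ← xa_sq i]
          exact Subgroup.pow_mem _ (Subgroup.mem_zpowers _) 2
      · rw [xa_mul_xa, xa_mul_xa, a.injEq] at hc
        have hd : (i - j) + (i - j) = 0 := by linear_combination hc
        have h1 : (xa i)⁻¹ * xa j = a (j - i) := by
          rw [inv_mul_eq_iff_eq_mul, xa_mul_a, add_sub_cancel]
        have h2 : a (j - i) ∈ Subgroup.zpowers (xa i) := by
          by_cases h0 : j - i = 0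
          · rw [h0]; exact one_mem _
          · have h2 : orderOf (a (j - i)) = 2 := orderOf_eq_prime
              (by rw [sq, a_mul_a, one_def, a.injEq]; linear_combination -hd)
              (fun e => h0 (by rw [one_def, a.injEq] at e; exact e))
            rw [quat_involution h2, ← xa_sq i]
            exact Subgroup.pow_mem _ (Subgroup.mem_zpowers _) 2
        have := Subgroup.mul_mem _ (Subgroup.mem_zpowers (xa i)) h2
        rwa [← h1, mul_inv_cancel_left] at this
    exact Subgroup.isCyclic_of_le hle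

end Quaternion

section Group

variable {G : Type*} [Group G] [Finite G]

/-- Elements of order four in a cyclic group generate the same subgroup. -/
theorem zpowers_eq_of_mem {x w y : G} (hw : orderOf w = 4) (hy : orderOf y = 4)
    (hwx : w ∈ Subgroup.zpowers x) (hyx : y ∈ Subgroup.zpowers x) :
    Subgroup.zpowers w = Subgroup.zpowers y := by
  have key : ∀ z : G, orderOf z = 4 → z ∈ Subgroup.zpowers x →
      Subgroup.zpowers z = Subgroup.zpowers (x ^ (orderOf x / 4)) := by
    intro z hz hzx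
    have hd : 4 ∣ orderOf x := hz ▸ orderOf_dvd_of_mem_zpowers hzx
    obtain ⟨q, hq⟩ := hd
    have hq0 : 0 < q := Nat.pos_of_ne_zero fun h => (orderOf_pos x).ne' (by rw [hq, h])
    rw [hq, Nat.mul_div_cancel_left q (by norm_num)]
    obtain ⟨i, rfl⟩ := mem_powers_iff_mem_zpowers.mpr hzx
    simp only at hz ⊢
    have h1 : q ∣ i := by
      have h2 : x ^ (i * 4) = 1 := by rw [pow_mul, ← hz, pow_orderOf_eq_one]
      have h3 := orderOf_dvd_of_pow_eq_one h2
      rw [hq, mul_comm i 4] at h3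
      exact Nat.dvd_of_mul_dvd_mul_left (by norm_num) h3
    obtain ⟨j, rfl⟩ := h1
    refine Subgroup.eq_of_le_of_card_ge (Subgroup.zpowers_le.mpr ?_) ?_
    · rw [pow_mul]; exact Subgroup.pow_mem _ (Subgroup.mem_zpowers _) j
    · rw [Nat.card_zpowers, Nat.card_zpowers, hz, orderOf_pow_of_dvd hq0.ne' (hq ▸ dvd_mul_left q 4), hq,
        Nat.mul_div_cancel _ hq0]
  rw [key w hw hwx, key y hy hyx]

theorem mem_normalizer_zpowers_of_TI {y x g : G} (hy : orderOf y = 4) (hx : y ∈ Subgroup.zpowers x)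
    (hgx : y ∈ Subgroup.zpowers (g * x * g⁻¹)) :
    g ∈ Subgroup.normalizer (Subgroup.zpowers y : Set G) := by
  have h1 : g * y * g⁻¹ ∈ Subgroup.zpowers (g * x * g⁻¹) := by
    obtain ⟨i, rfl⟩ := Subgroup.mem_zpowers_iff.mp hx
    rw [← conj_zpow]
    exact Subgroup.zpow_mem _ (Subgroup.mem_zpowers _) i
  rw [Subgroup.mem_normalizer_iff_map_conj_eq, MonoidHom.map_zpowers]
  exact zpowers_eq_of_mem (by show orderOf (g * y * g⁻¹) = 4; rw [orderOf_conj', hy]) hy h1 hgx

theorem cyclic_fixed {C : Subgroup G} [IsCyclic ↥C] (hC : IsPGroup 2 ↥C) {g : G}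
    (hg : g ∈ Subgroup.normalizer (C : Set G)) (ho : Odd (orderOf g)) : g ∈ Subgroup.centralizer (C : Set G) := by
  obtain ⟨k, hk⟩ := hC.exists_card_eq
  set u := Subgroup.normalizerMonoidHom C ⟨g, hg⟩ with hu
  have h1 : orderOf u ∣ orderOf g := by
    rw [← Subgroup.orderOf_mk g hg]; exact orderOf_map_dvd _ _
  have h2 : orderOf u ∣ 2 ^ (k - 1) := by
    have := orderOf_dvd_natCard u
    rw [IsCyclic.card_mulAut, hk] at this
    rcases Nat.eq_zero_or_pos k with rfl | hk0
    · simpa using this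
    · rwa [Nat.totient_prime_pow Nat.prime_two hk0, show (2 - 1 : ℕ) = 1 from rfl, mul_one] at this
  have h3 : orderOf u = 1 :=
    Nat.eq_one_of_dvd_coprimes (Nat.Coprime.pow_right _ (Nat.coprime_two_right.mpr ho)) h1 h2
  have h4 : (⟨g, hg⟩ : Subgroup.normalizer (C : Set G)) ∈ (Subgroup.normalizerMonoidHom C).ker :=
    orderOf_eq_one_iff.mp h3
  rw [Subgroup.normalizerMonoidHom_ker] at h4
  exact h4

/-- A group with cyclic 2-subgroups has a normal 2-complement. -/
theorem npc_of_cyclic_two_subgroups (h : ∀ P : Subgroup G, IsPGroup 2 P → IsCyclic P) :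
    Cfsg.HasNormalPComplement 2 G := by
  obtain ⟨P⟩ : Nonempty (Sylow 2 G) := inferInstance
  refine CfsgLib.Fusion.Alperin.npc_of_frobenius P fun Q hQ g hg ho => ?_
  haveI := h Q (P.2.to_le hQ)
  exact cyclic_fixed (P.2.to_le hQ) hg (Nat.coprime_two_right.mp ho)

/-- A retraction onto a Sylow subgroup of a group with a normal complement. -/
theorem exists_retraction {p : ℕ} [Fact p.Prime] (h : Cfsg.HasNormalPComplement p G) (P : Sylow p G) :
    ∃ π : G →* ↥(P : Subgroup G), (∀ s : ↥(P : Subgroup G), π s = s) ∧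
      ∀ g, π g = 1 → (orderOf g).Coprime p := by
  set R := Cfsg.pResidual p G with hR
  let f : ↥(P : Subgroup G) →* G ⧸ R := (QuotientGroup.mk' R).comp (P : Subgroup G).subtype
  have hinj : Function.Injective f := by
    rw [← MonoidHom.ker_eq_bot_iff, eq_bot_iff]
    intro s hs
    have h1 : (s : G) ∈ (P : Subgroup G) ⊓ R := ⟨s.2, (QuotientGroup.eq_one_iff _).mp hs⟩
    rw [CfsgLib.Fusion.Basic.npc_iff_inf P] at h
    rw [h, Subgroup.mem_bot] at h1
    exact Subgroup.mem_bot.mpr (Subtype.ext h1)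
  have hsurj : Function.Surjective f := by
    intro q
    obtain ⟨g, rfl⟩ := QuotientGroup.mk'_surjective R q
    obtain ⟨c, hc, s, hs, rfl⟩ := CfsgLib.Fusion.Basic.exists_eq_pResidual_mul P g
    refine ⟨⟨s, hs⟩, ?_⟩
    show QuotientGroup.mk' R s = QuotientGroup.mk' R (c * s)
    rw [map_mul, show QuotientGroup.mk' R c = 1 from (QuotientGroup.eq_one_iff c).mpr hc, one_mul]
  let e := MulEquiv.ofBijective f ⟨hinj, hsurj⟩
  refine ⟨e.symm.toMonoidHom.comp (QuotientGroup.mk' R), fun s => e.symm_apply_apply s, fun g hg => ?_⟩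
  rw [← CfsgLib.Fusion.Basic.mem_pResidual_iff h]
  exact (QuotientGroup.eq_one_iff g).mp (e.symm.map_eq_one_iff.mp hg)

variable {N : ℕ} [NeZero N] (S : Sylow 2 G) (e : ↥(S : Subgroup G) ≃* QuaternionGroup N)

theorem exists_conj_mem_sylow {R : Subgroup G} (hR : IsPGroup 2 R) :
    ∃ g : G, ∀ r ∈ R, g * r * g⁻¹ ∈ (S : Subgroup G) := by
  obtain ⟨T, hT⟩ := hR.exists_le_sylow
  obtain ⟨g, hg⟩ := MulAction.exists_smul_eq G T S
  refine ⟨g, fun r hr => ?_⟩
  rw [← hg, Sylow.coe_subgroup_smul]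
  exact Subgroup.smul_mem_pointwise_smul r (MulAut.conj g) _ (hT hr)

theorem isPGroup_pair {s t : G} (hs : orderOf s = 2) (ht : orderOf t = 2) (hc : Commute s t) :
    IsPGroup 2 ↥(Subgroup.zpowers s ⊔ Subgroup.zpowers t) := by
  refine IsPGroup.to_sup_of_normal_right' ?_ ?_ ?_
  · exact IsPGroup.of_card (n := 1) (by rw [Nat.card_zpowers, hs, pow_one])
  · exact IsPGroup.of_card (n := 1) (by rw [Nat.card_zpowers, ht, pow_one])
  · refine Subgroup.zpowers_le.mpr (Subgroup.centralizer_le_normalizer _ ?_)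
    intro z hz
    obtain ⟨i, rfl⟩ := Subgroup.mem_zpowers_iff.mp hz
    exact (hc.zpow_right i).eq.symm

include e in
theorem uniqueInv_of_quaternion : UniqueInv G := by
  intro s t hs ht hc
  obtain ⟨g, hg⟩ := exists_conj_mem_sylow S (isPGroup_pair hs ht hc)
  have h1 := hg s (Subgroup.mem_sup_left (Subgroup.mem_zpowers s))
  have h2 := hg t (Subgroup.mem_sup_right (Subgroup.mem_zpowers t))
  have e1 := quat_involution (x := e ⟨_, h1⟩) (by rw [e.orderOf_eq, Subgroup.orderOf_mk, orderOf_conj', hs])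
  have e2 := quat_involution (x := e ⟨_, h2⟩) (by rw [e.orderOf_eq, Subgroup.orderOf_mk, orderOf_conj', ht])
  have := congrArg Subtype.val (e.injective (e1.trans e2.symm))
  exact mul_left_cancel (mul_right_cancel this)

variable (k : ℕ)

/-- The chosen element of order four. -/
noncomputable def yEl : G := ((e.symm (a (k : ZMod (2 * N))) : ↥(S : Subgroup G)) : G)

variable {k}

theorem yEl_mem : yEl S e k ∈ (S : Subgroup G) := (e.symm _).2

theorem e_yEl (h : yEl S e k ∈ (S : Subgroup G)) : e ⟨yEl S e k, h⟩ = a (k : ZMod (2 * N)) := by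
  rw [show (⟨yEl S e k, h⟩ : ↥(S : Subgroup G)) = e.symm _ from Subtype.ext rfl, e.apply_symm_apply]

theorem orderOf_yEl (hN : N = 2 * k) : orderOf (yEl S e k) = 4 := by
  rw [yEl, Subgroup.orderOf_coe, MulEquiv.orderOf_eq, quat_half_order hN]

theorem sylow_le_normalizer_yEl :
    (S : Subgroup G) ≤ Subgroup.normalizer (Subgroup.zpowers (yEl S e k) : Set G) := by
  intro s hs
  rw [Subgroup.mem_normalizer_iff_map_conj_eq, MonoidHom.map_zpowers]
  show Subgroup.zpowers (s * yEl S e k * s⁻¹) = _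
  rcases conj_half (k := k) (e ⟨s, hs⟩) with h | h
  · have : (⟨s, hs⟩ : ↥(S : Subgroup G)) * e.symm (a (k : ZMod (2 * N))) * (⟨s, hs⟩ : ↥(S : Subgroup G))⁻¹ =
        e.symm (a (k : ZMod (2 * N))) := e.injective (by simpa using h)
    rw [show s * yEl S e k * s⁻¹ = yEl S e k from congrArg Subtype.val this]
  · have : (⟨s, hs⟩ : ↥(S : Subgroup G)) * e.symm (a (k : ZMod (2 * N))) * (⟨s, hs⟩ : ↥(S : Subgroup G))⁻¹ =
        (e.symm (a (k : ZMod (2 * N))))⁻¹ := e.injective (by simpa using h)
    rw [show s * yEl S e k * s⁻¹ = (yEl S e k)⁻¹ from congrArg Subtype.val this, Subgroup.zpowers_inv]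

theorem commute_of_odd_normalizer {y g : G} (hy : orderOf y = 4)
    (hg : g ∈ Subgroup.normalizer (Subgroup.zpowers y : Set G)) (ho : Odd (orderOf g)) : Commute g y := by
  haveI : IsCyclic ↥(Subgroup.zpowers y) := Subgroup.isCyclic_zpowers y
  have := cyclic_fixed (IsPGroup.of_card (n := 2) (by rw [Nat.card_zpowers, hy]; rfl)) hg ho
  exact (Subgroup.mem_centralizer_iff.mp this y (Subgroup.mem_zpowers y)).symm

include S e in
theorem npc_centralizer_four (hN : N = 2 * k) {y : G} (hy : orderOf y = 4) :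
    Cfsg.HasNormalPComplement 2 ↥(Subgroup.centralizer ({y} : Set G)) := by
  refine npc_of_cyclic_two_subgroups fun P hP => ?_
  set R := P.map (Subgroup.centralizer ({y} : Set G)).subtype ⊔ Subgroup.zpowers y
  have hy2 : IsPGroup 2 ↥(Subgroup.zpowers y) := IsPGroup.of_card (n := 2) (by rw [Nat.card_zpowers, hy]; rfl)
  have hR : IsPGroup 2 ↥R := by
    refine IsPGroup.to_sup_of_normal_right' (hP.map _) hy2 ?_
    refine (Subgroup.map_subtype_le P).trans (le_trans ?_ (Subgroup.centralizer_le_normalizer _))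
    rw [Subgroup.zpowers_eq_closure, Subgroup.centralizer_closure]
  obtain ⟨g, hg⟩ := exists_conj_mem_sylow S hR
  let f : ↥P →* QuaternionGroup N := MonoidHom.mk'
    (fun p => e ⟨g * ((p : ↥(Subgroup.centralizer ({y} : Set G))) : G) * g⁻¹,
      hg _ (Subgroup.mem_sup_left ⟨_, p.2, rfl⟩)⟩) (fun p q => by
      rw [← map_mul]
      congr 1
      apply Subtype.ext
      simp [mul_assoc])
  have hf : Function.Injective f := fun p q h => by
    have := congrArg Subtype.val (e.injective h)
    exact Subtype.ext (Subtype.ext (mul_left_cancel (mul_right_cancel this)))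
  have hyR := hg y (Subgroup.mem_sup_right (Subgroup.mem_zpowers y))
  haveI : IsCyclic ↥f.range := by
    refine isCyclic_of_commute_order_four hN (y := e ⟨_, hyR⟩)
      (by rw [e.orderOf_eq, Subgroup.orderOf_mk, orderOf_conj', hy]) ?_
    rintro _ ⟨p, rfl⟩
    refine Commute.map (f := e) ?_
    apply Subtype.ext
    have hc : ((p : ↥(Subgroup.centralizer ({y} : Set G))) : G) * y = y * ((p : ↥(Subgroup.centralizer ({y} : Set G))) : G) :=
      Subgroup.mem_centralizer_singleton_iff.mp (p : ↥(Subgroup.centralizer ({y} : Set G))).2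
    simp only [Subgroup.coe_mul]
    calc g * _ * g⁻¹ * (g * y * g⁻¹) = g * (((p : ↥(Subgroup.centralizer ({y} : Set G))) : G) * y) * g⁻¹ := by group
      _ = _ := by rw [hc]; group
  exact isCyclic_of_injective f.rangeRestrict (fun a b h => hf (congrArg Subtype.val h))

include S e in
theorem npc_normalizer_four (hN : N = 2 * k) {y : G} (hy : orderOf y = 4) :
    Cfsg.HasNormalPComplement 2 ↥(Subgroup.normalizer (Subgroup.zpowers y : Set G)) := by
  set C := Subgroup.centralizer ({y} : Set G)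
  set Ny := Subgroup.normalizer (Subgroup.zpowers y : Set G)
  have hCN : C ≤ Ny := by
    refine le_trans ?_ (Subgroup.centralizer_le_normalizer _)
    rw [Subgroup.zpowers_eq_closure, Subgroup.centralizer_closure]
  have hC := npc_centralizer_four S e hN hy
  rw [CfsgLib.Fusion.Basic.npc_iff_coprime] at hC ⊢
  have hle : (Cfsg.pResidual 2 ↥Ny).map Ny.subtype ≤ (Cfsg.pResidual 2 ↥C).map C.subtype := by
    rw [Subgroup.map_le_iff_le_comap, Cfsg.pResidual, Subgroup.closure_le]
    intro g hg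
    have ho : Nat.Coprime (orderOf (g : G)) 2 := by rw [Subgroup.orderOf_coe]; exact hg
    exact CfsgLib.Fusion.Basic.mem_map_pResidual_of_coprime
      (Subgroup.mem_centralizer_singleton_iff.mpr
        (commute_of_odd_normalizer hy g.2 (Nat.coprime_two_right.mp ho)).eq) ho
  refine Nat.Coprime.coprime_dvd_left ?_ hC
  rw [← Subgroup.card_map_of_injective Ny.subtype_injective, ← Subgroup.card_map_of_injective C.subtype_injective]
  exact Subgroup.card_dvd_of_le hle

/-- The projection of `N_G(⟨y⟩)` onto the quaternion group. -/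
theorem exists_proj (hN : N = 2 * k) (hN2 : ∃ j : ℕ, N = 2 ^ j) :
    ∃ π : ↥(Subgroup.normalizer (Subgroup.zpowers (yEl S e k) : Set G)) →* QuaternionGroup N,
      Function.Surjective π ∧
      (∀ (s : G) (hs : s ∈ (S : Subgroup G)), π ⟨s, sylow_le_normalizer_yEl S e hs⟩ = e ⟨s, hs⟩) ∧
      ∀ x : ↥(Subgroup.normalizer (Subgroup.zpowers (yEl S e k) : Set G)),
        yEl S e k ∈ Subgroup.zpowers (x : G) ↔ π x ∈ cyclicPart N ∧ π x ^ 2 ≠ 1 := by
  set y := yEl S e k with hydef
  have hy : orderOf y = 4 := orderOf_yEl S e hN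
  set Ny := Subgroup.normalizer (Subgroup.zpowers y : Set G)
  set T := S.subtype (sylow_le_normalizer_yEl S e (k := k))
  obtain ⟨ρ, hρ, hρk⟩ := exists_retraction (npc_normalizer_four S e hN hy) T
  let ι : ↥(T : Subgroup Ny) ≃* ↥(S : Subgroup G) :=
    Subgroup.subgroupOfEquivOfLe (sylow_le_normalizer_yEl S e (k := k))
  let π : ↥Ny →* QuaternionGroup N := (ι.trans e).toMonoidHom.comp ρ
  have hπS : ∀ (s : G) (hs : s ∈ (S : Subgroup G)), π ⟨s, sylow_le_normalizer_yEl S e hs⟩ = e ⟨s, hs⟩ := by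
    intro s hs
    show (ι.trans e) (ρ _) = _
    rw [hρ ⟨⟨s, sylow_le_normalizer_yEl S e hs⟩, hs⟩]
    rfl
  have hker : ∀ w, π w = 1 → ∀ j, orderOf w ∣ 2 ^ j → w = 1 := by
    intro w hw j hj
    have h1 : ρ w = 1 := (ι.trans e).map_eq_one_iff.mp hw
    exact orderOf_eq_one_iff.mp (Nat.eq_one_of_dvd_coprimes (Nat.Coprime.pow_right j (hρk w h1)) dvd_rfl hj)
  refine ⟨π, ?_, hπS, fun x => ?_⟩
  · intro q
    refine ⟨⟨_, sylow_le_normalizer_yEl S e (e.symm q).2⟩, ?_⟩
    rw [hπS _ (e.symm q).2]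
    exact e.apply_symm_apply q
  set yN : ↥Ny := ⟨y, sylow_le_normalizer_yEl S e (yEl_mem S e)⟩
  have hπy : π yN = a (k : ZMod (2 * N)) := by
    rw [hπS y (yEl_mem S e)]; exact e_yEl S e _
  have hQ : IsPGroup 2 (QuaternionGroup N) := by
    obtain ⟨j, hj⟩ := hN2
    exact IsPGroup.of_card (n := j + 2) (by rw [Nat.card_eq_fintype_card, QuaternionGroup.card, hj, pow_add]; ring)
  have hx4 : ∀ q : QuaternionGroup N, q ^ 2 ≠ 1 → 4 ∣ orderOf q := by
    intro q hq
    obtain ⟨j, hj⟩ := (IsPGroup.iff_orderOf.mp hQ) q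
    rw [hj, show (4:ℕ) = 2 ^ 2 from rfl]
    refine pow_dvd_pow 2 ?_
    by_contra hlt
    exact hq (orderOf_dvd_iff_pow_eq_one.mp (hj ▸ pow_dvd_pow 2 (show j ≤ 1 by omega) |>.trans (by norm_num)))
  constructor
  · intro hyx
    obtain ⟨i, hi⟩ := Subgroup.mem_zpowers_iff.mp hyx
    have hiN : x ^ i = yN := Subtype.ext (by rw [Subgroup.coe_zpow]; exact hi)
    have hpow : π x ^ i = a (k : ZMod (2 * N)) := by rw [← map_zpow, hiN, hπy]
    refine ⟨(commute_half_iff hN _).mp (hpow ▸ (Commute.refl (π x)).zpow_right i), fun h => ?_⟩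
    have h2 : (a (k : ZMod (2 * N))) ^ 2 = 1 := by
      rw [← hpow, ← zpow_natCast, ← zpow_mul, mul_comm, zpow_mul, zpow_natCast, h, one_zpow]
    have := orderOf_dvd_of_pow_eq_one h2
    rw [quat_half_order hN] at this
    norm_num at this
  · rintro ⟨hxc, hx2⟩
    have hcy : Commute (π x) (π yN) := hπy ▸ (commute_half_iff hN _).mpr hxc
    have hy4 : orderOf yN = 4 := by rw [← Subgroup.orderOf_coe]; exact hy
    have hcomm : Commute x yN := by
      have hmem : x * yN * x⁻¹ * yN⁻¹ ∈ Subgroup.zpowers yN := by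
        obtain ⟨i, hi⟩ := Subgroup.mem_zpowers_iff.mp
          ((Subgroup.mem_normalizer_iff.mp x.2 y).mp (Subgroup.mem_zpowers y))
        refine ⟨i - 1, Subtype.ext ?_⟩
        show ((yN ^ (i - 1) : ↥Ny) : G) = _
        rw [Subgroup.coe_zpow, zpow_sub_one]
        show y ^ i * y⁻¹ = (x : G) * y * (x : G)⁻¹ * y⁻¹
        rw [hi]
      have h1 : π (x * yN * x⁻¹ * yN⁻¹) = 1 := by
        rw [map_mul, map_mul, map_mul, map_inv, map_inv, hcy.eq, mul_inv_cancel_right, mul_inv_cancel]
      have h2 := hker _ h1 2 (show _ ∣ 4 by rw [← hy4]; exact orderOf_dvd_of_mem_zpowers hmem)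
      rwa [mul_inv_eq_one, mul_inv_eq_iff_eq_mul] at h2
    have hd : 4 ∣ orderOf x := (hx4 _ hx2).trans (orderOf_map_dvd π x)
    set w := x ^ (orderOf x / 4) with hw
    have hw4 : orderOf w = 4 := by
      have := orderOf_pos x
      rw [hw, orderOf_pow_of_dvd (by have := Nat.le_of_dvd this hd; omega) (Nat.div_dvd_of_dvd hd), Nat.div_div_self hd this.ne']
    have hcw : Commute w yN := hcomm.pow_left _
    have hπw : orderOf (π w) = 4 := by
      have h1 : orderOf (π w) ∣ 4 := hw4 ▸ orderOf_map_dvd π w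
      have h2 : ¬ orderOf (π w) ∣ 2 := fun h => by
        have h3 : π (w ^ 2) = 1 := by rw [map_pow]; exact orderOf_dvd_iff_pow_eq_one.mp h
        have h4 := hker _ h3 1 (orderOf_dvd_of_pow_eq_one (by rw [← pow_mul]; show w ^ 4 = 1; rw [← hw4, pow_orderOf_eq_one]))
        have := orderOf_dvd_of_pow_eq_one h4
        rw [hw4] at this
        norm_num at this
      obtain ⟨j, hj, hj'⟩ := (Nat.dvd_prime_pow Nat.prime_two (m := 2)).mp h1
      rw [hj'] at h2 ⊢
      interval_cases j <;> simp_all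
    have hwc : π w ∈ cyclicPart N := (commute_half_iff hN _).mp (hπy ▸ hcw.map π)
    obtain ⟨i, hi⟩ := hwc
    have hwy : w ∈ Subgroup.zpowers yN := by
      rcases quat_order_four hN (i := i) (hi ▸ hπw) with h | h
      · have h1 : π (w * yN⁻¹) = 1 := by rw [map_mul, map_inv, hi, h, hπy, mul_inv_cancel]
        have h2 := hker _ h1 2 (orderOf_dvd_of_pow_eq_one (by
          show (w * yN⁻¹) ^ 4 = 1
          rw [hcw.inv_right.mul_pow, inv_pow]
          nth_rw 1 [← hw4]
          rw [pow_orderOf_eq_one]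
          nth_rw 1 [← hy4]
          rw [pow_orderOf_eq_one, inv_one, one_mul]))
        rw [mul_inv_eq_one] at h2
        exact h2 ▸ Subgroup.mem_zpowers _
      · have h1 : π (w * yN) = 1 := by rw [map_mul, hi, h, hπy, inv_mul_cancel]
        have h2 := hker _ h1 2 (orderOf_dvd_of_pow_eq_one (by
          show (w * yN) ^ 4 = 1
          rw [hcw.mul_pow]
          nth_rw 1 [← hw4]
          rw [pow_orderOf_eq_one]
          nth_rw 1 [← hy4]
          rw [pow_orderOf_eq_one, one_mul]))
        rw [mul_eq_one_iff_eq_inv] at h2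
        exact h2 ▸ Subgroup.inv_mem _ (Subgroup.mem_zpowers _)
    have heq : Subgroup.zpowers w = Subgroup.zpowers yN :=
      Subgroup.eq_of_le_of_card_ge (Subgroup.zpowers_le.mpr hwy) (by rw [Nat.card_zpowers, Nat.card_zpowers, hw4, hy4])
    have : yN ∈ Subgroup.zpowers x :=
      (Subgroup.zpowers_le.mpr (Subgroup.pow_mem _ (Subgroup.mem_zpowers x) _)) (heq ▸ Subgroup.mem_zpowers yN)
    obtain ⟨j, hj⟩ := Subgroup.mem_zpowers_iff.mp this
    exact Subgroup.mem_zpowers_iff.mpr ⟨j, by rw [← Subgroup.coe_zpow, hj]⟩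

end Group

end CfsgLib.BrauerSuzuki
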