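import Cfsg.Agent.Lib.BrauerSuzuki.HomocyclicSection

/-!
# The linear character of a group with homocyclic Sylow 2-subgroup
-/

set_option autoImplicit false

namespace CfsgLib.BrauerSuzuki.Homocyclic

open Cfsg CfsgLib.Blocks
open scoped Classical ComplexConjugate

/-- Three-element sets, five of which occur, meeting pairwise in two points have a common pair. -/
theorem common_pair {ι α : Type*} [DecidableEq α] (S : ι → Finset α) (R : ι → ι → Prop) (hrefl : ∀ i, R i i)
    (hR : ∀ i j, R i j → S i = S j) (hcard : ∀ i, (S i).card = 3)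
    (hinter : ∀ i j, ¬ R i j → (S i ∩ S j).card = 2)
    (hex : ∀ a b c d : ι, ∃ j, ¬ R a j ∧ ¬ R b j ∧ ¬ R c j ∧ ¬ R d j) (i : ι) :
    ∃ a b c : α, a ≠ b ∧ a ≠ c ∧ b ≠ c ∧ S i = {a, b, c} ∧ ∀ j, a ∈ S j ∧ b ∈ S j := by
  obtain ⟨k, hik, -, -, -⟩ := hex i i i i
  have h2 := hinter i k hik
  obtain ⟨a, b, hab, hpr⟩ := Finset.card_eq_two.1 h2
  have hsub : S i ∩ S k ⊆ S i := Finset.inter_subset_left
  obtain ⟨c, hc⟩ := Finset.card_eq_one.1 (show (S i \ (S i ∩ S k)).card = 1 by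
    rw [Finset.card_sdiff_of_subset hsub, hcard, h2])
  have hSi : S i = {a, b, c} := by
    rw [← Finset.union_sdiff_of_subset hsub, hpr, show S i \ {a, b} = {c} by rw [← hpr]; exact hc]
    ext x; simp [or_assoc]
  have hcn : c ∉ ({a, b} : Finset α) := by
    have := Finset.mem_sdiff.1 (hc.symm ▸ Finset.mem_singleton_self c : c ∈ S i \ (S i ∩ S k))
    rw [hpr] at this
    exact this.2
  simp only [Finset.mem_insert, Finset.mem_singleton, not_or] at hcn
  refine ⟨a, b, c, hab, Ne.symm hcn.1, Ne.symm hcn.2, hSi, fun j => ?_⟩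
  suffices h : S i ∩ S k ⊆ S j by
    rw [hpr] at h
    exact ⟨h (by simp), h (by simp)⟩
  by_contra hj
  have hij : ¬ R i j := fun e => hj (by rw [← hR i j e]; exact hsub)
  have hkj : ¬ R k j := fun e => hj (by rw [← hR k j e]; exact Finset.inter_subset_right)
  set U := S i ∪ S k with hU
  have hUcard : U.card = 4 := by
    have := Finset.card_union_add_card_inter (S i) (S k)
    rw [h2, hcard, hcard, ← hU] at this
    omega
  have erase_eq : ∀ x l, x ∈ S l → x ∉ U → ∀ o, (S l ∩ S o).card = 2 → x ∉ S o → (S l).erase x ⊆ S o := by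
    intro x l hx _ o ho hxo
    have : S l ∩ S o = (S l).erase x := Finset.eq_of_subset_of_card_le
      (fun y hy => Finset.mem_erase.2 ⟨fun e => hxo (e ▸ (Finset.mem_inter.1 hy).2), (Finset.mem_inter.1 hy).1⟩)
      (by rw [ho, Finset.card_erase_of_mem hx, hcard])
    rw [← this]
    exact Finset.inter_subset_right
  have hinter' : ∀ l o, ¬ R o l → (S l ∩ S o).card = 2 := fun l o h => by
    rw [Finset.inter_comm]; exact hinter o l h
  have pair_eq : ∀ l x, x ∈ S l → x ∉ U → ¬ R i l → ¬ R k l → S i ∩ S k = (S l).erase x := by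
    intro l x hx hxU hil hkl
    symm
    refine Finset.eq_of_subset_of_card_le (Finset.subset_inter
      (erase_eq x l hx hxU i (hinter' l i hil) fun e => hxU (Finset.mem_union_left _ e))
      (erase_eq x l hx hxU k (hinter' l k hkl) fun e => hxU (Finset.mem_union_right _ e))) ?_
    rw [h2, Finset.card_erase_of_mem hx, hcard]
  have hjU : S j ⊆ U := fun x hx => by
    by_contra hxU
    exact hj (pair_eq j x hx hxU hij hkj ▸ Finset.erase_subset _ _)
  have lU : ∀ l, ¬ R i l → ¬ R k l → ¬ R j l → S l ⊆ U := fun l h1 h3 h4 x hx => by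
    by_contra hxU
    exact hj (pair_eq l x hx hxU h1 h3 ▸ erase_eq x l hx hxU j (hinter' l j h4) fun e => hxU (hjU e))
  obtain ⟨l, hil, hkl, hjl, -⟩ := hex i k j j
  obtain ⟨o, hio, hko, hjo, hlo⟩ := hex i k j l
  have hne : ∀ x y, ¬ R x y → S x ≠ S y := fun x y h e => by
    have := hinter x y h
    rw [e, Finset.inter_self, hcard] at this
    omega
  let f : Fin 5 → U.powersetCard 3 := ![⟨S i, Finset.mem_powersetCard.2 ⟨Finset.subset_union_left, hcard i⟩⟩,
    ⟨S k, Finset.mem_powersetCard.2 ⟨Finset.subset_union_right, hcard k⟩⟩,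
    ⟨S j, Finset.mem_powersetCard.2 ⟨hjU, hcard j⟩⟩,
    ⟨S l, Finset.mem_powersetCard.2 ⟨lU l hil hkl hjl, hcard l⟩⟩,
    ⟨S o, Finset.mem_powersetCard.2 ⟨lU o hio hko hjo, hcard o⟩⟩]
  have hinj : Function.Injective f := by
    intro x y hxy
    have h := congrArg Subtype.val hxy
    fin_cases x <;> fin_cases y <;>
      first
        | rfl
        | exact absurd h (hne _ _ hik) | exact absurd h.symm (hne _ _ hik)
        | exact absurd h (hne _ _ hij) | exact absurd h.symm (hne _ _ hij)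
        | exact absurd h (hne _ _ hkj) | exact absurd h.symm (hne _ _ hkj)
        | exact absurd h (hne _ _ hil) | exact absurd h.symm (hne _ _ hil)
        | exact absurd h (hne _ _ hkl) | exact absurd h.symm (hne _ _ hkl)
        | exact absurd h (hne _ _ hjl) | exact absurd h.symm (hne _ _ hjl)
        | exact absurd h (hne _ _ hio) | exact absurd h.symm (hne _ _ hio)
        | exact absurd h (hne _ _ hko) | exact absurd h.symm (hne _ _ hko)
        | exact absurd h (hne _ _ hjo) | exact absurd h.symm (hne _ _ hjo)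
        | exact absurd h (hne _ _ hlo) | exact absurd h.symm (hne _ _ hlo)
  have := Fintype.card_le_of_injective f hinj
  rw [Fintype.card_coe, Finset.card_powersetCard, hUcard, Fintype.card_fin,
    show Nat.choose 4 3 = 4 from rfl] at this
  omega

/-- The only solution of the degree equations. -/
theorem arith_degrees {p q : ℤ} (hp : (16 : ℤ) ∣ p - 1) (hq : (16 : ℤ) ∣ q - 1)
    (h : (p * q + p + q) * (1 + p + q) = 9 * (p * q)) : p = 1 ∧ q = 1 := by
  obtain ⟨u, hu⟩ := hp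
  obtain ⟨v, hv⟩ := hq
  rcases le_or_gt 1 p with hp1 | hp1 <;> rcases le_or_gt 1 q with hq1 | hq1
  · constructor <;>
      nlinarith [mul_nonneg (sub_nonneg.2 hp1) (sub_nonneg.2 hq1), sq_nonneg (p - q), sq_nonneg (p - 1),
        sq_nonneg (q - 1)]
  · exfalso
    have hq' : q ≤ -15 := by omega
    have hs : (p + q) * (p + q + 1) = -(p * q) * (p + q - 8) := by linarith
    have hpq : p * q < 0 := mul_neg_of_pos_of_neg (by linarith) (by linarith)
    have hnn : 0 ≤ (p + q) * (p + q + 1) := by nlinarith [sq_nonneg (2 * (p + q) + 1)]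
    have hs8 : 8 ≤ p + q := by
      by_contra hlt
      have : -(p * q) * (p + q - 8) < 0 := mul_neg_of_pos_of_neg (by linarith) (by linarith)
      linarith
    have hs18 : 18 ≤ p + q := by omega
    nlinarith [mul_le_mul (show 15 ≤ -q by linarith) (show p + q + 15 ≤ p by linarith) (by linarith) (by linarith)]
  · exfalso
    have hp' : p ≤ -15 := by omega
    have hs : (p + q) * (p + q + 1) = -(p * q) * (p + q - 8) := by linarith
    have hpq : p * q < 0 := mul_neg_of_neg_of_pos (by linarith) (by linarith)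
    have hnn : 0 ≤ (p + q) * (p + q + 1) := by nlinarith [sq_nonneg (2 * (p + q) + 1)]
    have hs8 : 8 ≤ p + q := by
      by_contra hlt
      have : -(p * q) * (p + q - 8) < 0 := mul_neg_of_pos_of_neg (by linarith) (by linarith)
      linarith
    have hs18 : 18 ≤ p + q := by omega
    nlinarith [mul_le_mul (show 15 ≤ -p by linarith) (show p + q + 15 ≤ q by linarith) (by linarith) (by linarith)]
  · exfalso
    have hp' : p ≤ -15 := by omega
    have hq' : q ≤ -15 := by omega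
    have h1 : 0 ≤ (-15 - p) * (-15 - q) := mul_nonneg (by linarith) (by linarith)
    have hpq : -15 * (p + q) - 225 ≤ p * q := by nlinarith
    have hs : (p + q) * (p + q + 1) = (p * q) * (8 - (p + q)) := by linarith
    nlinarith [mul_le_mul_of_nonneg_right hpq (show (0 : ℤ) ≤ 8 - (p + q) by linarith)]

/-- Two signed triples with product two agree twice and never disagree. -/
theorem agree_of_sum {ι : Type*} [DecidableEq ι] (s : Finset ι) (c d : ι → ℤ) (hc : (s.filter fun i => c i ≠ 0).card = 3)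
    (hcu : ∀ i ∈ s, c i ≠ 0 → c i = 1 ∨ c i = -1) (hdu : ∀ i ∈ s, d i ≠ 0 → d i = 1 ∨ d i = -1)
    (h : ∑ i ∈ s, c i * d i = 2) :
    (s.filter fun i => c i ≠ 0 ∧ c i = d i).card = 2 ∧ ∀ i ∈ s, c i ≠ 0 → d i ≠ 0 → c i = d i := by
  rw [← Finset.sum_filter_of_ne (p := fun i => c i ≠ 0) (fun i _ hne => left_ne_zero_of_mul hne)] at h
  obtain ⟨A, B, C, hAB, hAC, hBC, hS⟩ := Finset.card_eq_three.1 hc
  rw [hS, Finset.sum_insert (by simp [hAB, hAC]), Finset.sum_insert (by simp [hBC]), Finset.sum_singleton] at h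
  have hm : ∀ i ∈ ({A, B, C} : Finset ι), i ∈ s ∧ c i ≠ 0 := fun i hi => Finset.mem_filter.1 (hS.symm ▸ hi)
  have hval : ∀ i ∈ ({A, B, C} : Finset ι),
      (c i * d i = 1 ∧ c i = d i) ∨ (c i * d i = 0 ∧ d i = 0 ∧ c i ≠ d i) ∨ (c i * d i = -1 ∧ c i ≠ d i) := by
    intro i hi
    obtain ⟨his, hci⟩ := hm i hi
    by_cases hd0 : d i = 0
    · exact Or.inr (Or.inl ⟨by rw [hd0, mul_zero], hd0, by rw [hd0]; exact hci⟩)
    rcases hcu i his hci with e | e <;> rcases hdu i his hd0 with e' | e' <;> rw [e, e'] <;> norm_num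
  have hfilter : (s.filter fun i => c i ≠ 0 ∧ c i = d i) = ({A, B, C} : Finset ι).filter fun i => c i = d i := by
    rw [← hS, Finset.filter_filter]
  rw [hfilter]
  have key : ∀ x y z : ι, x ≠ y → x ≠ z → y ≠ z → ({A, B, C} : Finset ι) = {x, y, z} → c x = d x → c y = d y →
      c z ≠ d z → d z = 0 → (({A, B, C} : Finset ι).filter fun i => c i = d i).card = 2 ∧
      ∀ i ∈ s, c i ≠ 0 → d i ≠ 0 → c i = d i := by
    intro x y z hxy hxz hyz he hx hy hz hz0
    refine ⟨?_, fun i his hci hdi => ?_⟩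
    · rw [he, show (({x, y, z} : Finset ι).filter fun i => c i = d i) = {x, y} by
        ext i
        simp only [Finset.mem_filter, Finset.mem_insert, Finset.mem_singleton]
        constructor
        · rintro ⟨rfl | rfl | rfl, hi⟩
          · exact Or.inl rfl
          · exact Or.inr rfl
          · exact absurd hi hz
        · rintro (rfl | rfl)
          · exact ⟨Or.inl rfl, hx⟩
          · exact ⟨Or.inr (Or.inl rfl), hy⟩, Finset.card_pair hxy]
    · have : i ∈ ({x, y, z} : Finset ι) := he ▸ hS ▸ Finset.mem_filter.2 ⟨his, hci⟩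
      simp only [Finset.mem_insert, Finset.mem_singleton] at this
      rcases this with rfl | rfl | rfl
      · exact hx
      · exact hy
      · exact absurd hz0 hdi
  rcases hval A (by simp) with ⟨ea, fa⟩ | ⟨ea, za, fa⟩ | ⟨ea, fa⟩ <;>
    rcases hval B (by simp) with ⟨eb, fb⟩ | ⟨eb, zb, fb⟩ | ⟨eb, fb⟩ <;>
    rcases hval C (by simp) with ⟨ec, fc⟩ | ⟨ec, zc, fc⟩ | ⟨ec, fc⟩ <;>
    first
      | omega
      | exact key A B C hAB hAC hBC rfl fa fb fc zc
      | exact key A C B hAC hAB hBC.symm (by ext; simp; tauto) fa fc fb zb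
      | exact key B C A hBC hAB.symm hAC.symm (by ext; simp; tauto) fb fc fa za

section Chars

variable {A : Type*} [CommGroup A] [Fintype A]

theorem conj_hom (μ : A →* ℂˣ) (x : A) : conj (μ x : ℂ) = ((μ⁻¹ : A →* ℂˣ) x : ℂ) := by
  have hn : ‖(μ x : ℂ)‖ = 1 := Complex.norm_eq_one_of_pow_eq_one
    (by rw [← Units.val_pow_eq_pow_val, ← map_pow, pow_orderOf_eq_one, map_one, Units.val_one])
    (orderOf_pos x).ne'
  rw [← Complex.inv_eq_conj hn, MonoidHom.inv_apply, Units.val_inv_eq_inv_val]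

theorem sum_hom (μ : A →* ℂˣ) : ∑ x : A, (μ x : ℂ) = if μ = 1 then (Fintype.card A : ℂ) else 0 := by
  split_ifs with h
  · simp [h]
  · exact sum_hom_units_eq_zero ((Units.coeHom ℂ).comp μ) fun e => h (by
      ext x; exact DFunLike.congr_fun e x)

theorem sum_dual [Fintype (A →* ℂˣ)] (x : A) :
    ∑ μ : A →* ℂˣ, (μ x : ℂ) = if x = 1 then (Fintype.card A : ℂ) else 0 := by
  split_ifs with h
  · simp only [h, map_one, Units.val_one, Finset.sum_const, Finset.card_univ, nsmul_eq_mul, mul_one,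
      Fintype.card_eq_nat_card]
    rw [CommGroup.card_monoidHom_of_hasEnoughRootsOfUnity]
  · obtain ⟨φ, hφ⟩ := CommGroup.exists_apply_ne_one_of_hasEnoughRootsOfUnity A ℂ h
    exact sum_hom_units_eq_zero
      ((Units.coeHom ℂ).comp ((Pi.evalMonoidHom (fun _ : A => ℂˣ) x).comp (MonoidHom.coeFn A ℂˣ)))
      fun e => hφ (Units.ext (DFunLike.congr_fun e φ))

/-- Fourier inversion. -/
theorem inversion [Fintype (A →* ℂˣ)] (d : A → ℂ) {x₀ : A} (hx : x₀ ≠ 1) :
    ∑ μ : A →* ℂˣ, (μ x₀⁻¹ : ℂ) * ∑ x : A, (1 - (μ x : ℂ)) * d x = -((Fintype.card A : ℂ) * d x₀) := by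
  have e : ∀ x : A, ∑ μ : A →* ℂˣ, (μ x₀⁻¹ : ℂ) * ((1 - (μ x : ℂ)) * d x)
      = -((if x₀⁻¹ * x = 1 then (Fintype.card A : ℂ) else 0) * d x) := by
    intro x
    have h0 : ∑ μ : A →* ℂˣ, (μ x₀⁻¹ : ℂ) = 0 := by
      rw [sum_dual, if_neg (by simpa using hx)]
    rw [← sum_dual, Finset.sum_mul, ← Finset.sum_neg_distrib]
    calc _ = ∑ μ : A →* ℂˣ, (-((μ (x₀⁻¹ * x) : ℂ) * d x) + (μ x₀⁻¹ : ℂ) * d x) :=
          Finset.sum_congr rfl fun μ _ => by rw [map_mul, Units.val_mul]; ring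
      _ = _ := by rw [Finset.sum_add_distrib, ← Finset.sum_mul, h0, zero_mul, add_zero]
  simp only [Finset.mul_sum]
  rw [Finset.sum_comm, Finset.sum_congr rfl fun x _ => e x, Finset.sum_eq_single x₀]
  · rw [if_pos (inv_mul_cancel _)]
  · intro x _ hne
    rw [if_neg fun h => hne (inv_mul_eq_one.mp h).symm, zero_mul, neg_zero]
  · simp

end Chars

variable {G : Type*} [Group G] [Fintype G] {P : Sylow 2 G}

theorem linear_char {n : G} (h : Rot P n) (h16 : 16 ∣ Nat.card (P : Subgroup G))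
    (hy : ∃ y : ↥(P : Subgroup G), y ^ 2 ≠ 1) {M : Ideal AlgInt} (hM : IsPModular 2 M) :
    ∃ A : IrrCharacter G, A ≠ trivChar G ∧ A ∈ principalBlock M G ∧ (A : G → ℂ) 1 = 1 ∧
      ∀ x ∈ (P : Subgroup G), (A : G → ℂ) x = 1 := by
  haveI := Fact.mk Nat.prime_two
  letI : CommGroup ↥(P : Subgroup G) :=
    { (inferInstance : Group ↥(P : Subgroup G)) with
      mul_comm := fun a b => Subtype.ext (h.comm a a.2 b b.2) }
  letI : Fintype (↥(P : Subgroup G) →* ℂˣ) := by
    haveI : Finite (↥(P : Subgroup G) →* ℂˣ) :=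
      Finite.of_equiv _ (CommGroup.monoidHom_mulEquiv_of_hasEnoughRootsOfUnity ↥(P : Subgroup G) ℂ).some.toEquiv.symm
    exact Fintype.ofFinite _
  set N := Fintype.card ↥(P : Subgroup G) with hN
  have hNat : Nat.card ↥(P : Subgroup G) = N := Nat.card_eq_fintype_card
  have hN0 : (N : ℂ) ≠ 0 := Nat.cast_ne_zero.2 Fintype.card_ne_zero
  -- the rotation
  let θ : ↥(P : Subgroup G) →* ↥(P : Subgroup G) :=
    MonoidHom.mk' (fun x => ⟨n * (x : G) * n⁻¹, h.conj_mem x.2⟩) fun a b => Subtype.ext (by simp [mul_assoc])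
  have hθ3 : ∀ x, θ (θ (θ x)) = x := fun x => Subtype.ext (h.cube x x.2)
  have hθinj : Function.Injective θ := fun a b e => by rw [← hθ3 a, ← hθ3 b, e]
  let T : (↥(P : Subgroup G) →* ℂˣ) → (↥(P : Subgroup G) →* ℂˣ) := fun μ => μ.comp θ
  have hT3 : ∀ μ, T (T (T μ)) = μ := fun μ => MonoidHom.ext fun x => congrArg μ (hθ3 x)
  let tw : (↥(P : Subgroup G) →* ℂˣ) → Fin 3 → (↥(P : Subgroup G) →* ℂˣ) := fun μ => ![μ, T μ, T (T μ)]
  let R : (↥(P : Subgroup G) →* ℂˣ) → (↥(P : Subgroup G) →* ℂˣ) → Prop := fun μ ν => ∃ i, tw μ i = ν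
  have htwR : ∀ μ ν i j, tw μ i = tw ν j → R μ ν := by
    intro μ ν i j e
    fin_cases i <;> fin_cases j <;> simp only [tw] at e
    all_goals first
      | exact ⟨0, e⟩
      | exact ⟨1, e⟩
      | exact ⟨2, e⟩
      | exact ⟨0, by simpa [tw, hT3] using congrArg T e⟩
      | exact ⟨1, by simpa [tw, hT3] using congrArg T e⟩
      | exact ⟨2, by simpa [tw, hT3] using congrArg T e⟩
      | exact ⟨0, by simpa [tw, hT3] using congrArg (T ∘ T) e⟩
      | exact ⟨1, by simpa [tw, hT3] using congrArg (T ∘ T) e⟩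
      | exact ⟨2, by simpa [tw, hT3] using congrArg (T ∘ T) e⟩
  have hTfix : ∀ μ, T μ = μ → μ = 1 := by
    intro μ e
    have hinj : Function.Injective fun x : ↥(P : Subgroup G) => x⁻¹ * θ x := by
      intro a b e'
      simp only at e'
      have h1 : θ (a * b⁻¹) = a * b⁻¹ := by
        rw [map_mul, map_inv]
        calc θ a * (θ b)⁻¹ = a * (a⁻¹ * θ a) * (θ b)⁻¹ := by rw [mul_inv_cancel_left]
          _ = a * (b⁻¹ * θ b) * (θ b)⁻¹ := by rw [e']
          _ = _ := by rw [mul_assoc, mul_inv_cancel_right]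
      have := h.fpf _ (a * b⁻¹).2 (congrArg Subtype.val h1)
      exact mul_inv_eq_one.mp (Subtype.ext this)
    ext y
    obtain ⟨x, rfl⟩ := Finite.surjective_of_injective hinj y
    have e' : μ (θ x) = μ x := DFunLike.congr_fun e x
    simp [e']
  have htwinj : ∀ μ, μ ≠ 1 → Function.Injective (tw μ) := by
    intro μ hμ i j e
    have d1 : T μ ≠ μ := fun e' => hμ (hTfix μ e')
    have d2 : T (T μ) ≠ μ := fun e' => d1 (by
      have := congrArg T e'
      rw [hT3] at this
      exact this.symm)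
    have d3 : T (T μ) ≠ T μ := fun e' => d1 (by simpa [hT3] using congrArg (T ∘ T) e')
    fin_cases i <;> fin_cases j <;> first
      | rfl
      | exact absurd e d1 | exact absurd e.symm d1
      | exact absurd e d2 | exact absurd e.symm d2
      | exact absurd e d3 | exact absurd e.symm d3
  -- the functions
  let ξ : (↥(P : Subgroup G) →* ℂˣ) → ↥(P : Subgroup G) → ℂ := fun μ x => ∑ i, (tw μ i x : ℂ)
  let fl : (↥(P : Subgroup G) →* ℂˣ) → G → ℂ :=
    fun μ g => if hg : g ∈ (P : Subgroup G) then 3 - ξ μ ⟨g, hg⟩ else 0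
  have hfl : ∀ μ (x : ↥(P : Subgroup G)), fl μ x = 3 - ξ μ x := fun μ x => by simp [fl]
  have hξθ : ∀ μ x, ξ μ (θ x) = ξ μ x := by
    intro μ x
    simp only [ξ, Fin.sum_univ_three, tw, T, Matrix.cons_val_zero, Matrix.cons_val_one, Matrix.cons_val_two,
      MonoidHom.comp_apply, hθ3, Matrix.tail_cons, Matrix.head_cons]
    ring
  have hinv : ∀ μ, FInv P (fl μ) := by
    intro μ g x hx hgx
    have e : ∀ y : ↥(P : Subgroup G), (y : G) = g * x * g⁻¹ → ξ μ y = ξ μ ⟨x, hx⟩ → fl μ (g * x * g⁻¹) = fl μ x := by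
      intro y hy he
      rw [← hy, hfl, he, ← hfl]
    rcases h.fus hx hgx with e' | e' | e'
    · exact e ⟨x, hx⟩ e'.symm rfl
    · exact e (θ ⟨x, hx⟩) e'.symm (hξθ μ _)
    · exact e (θ (θ ⟨x, hx⟩)) e'.symm ((hξθ μ _).trans (hξθ μ _))
  have hξ1 : ∀ μ, ξ μ 1 = 3 := fun μ => by simp [ξ]
  have hfl1 : ∀ μ, fl μ 1 = 0 := fun μ => by
    have := hfl μ 1
    simp only [OneMemClass.coe_one, hξ1] at this
    rw [this, sub_self]
  set F : (↥(P : Subgroup G) →* ℂˣ) → G → ℂ := fun μ => sFun P (fl μ) with hF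
  have hgc : ∀ μ, IsGeneralizedCharacter G (F μ) := fun μ => by
    refine gc_sFun (hinv μ) ?_
    have e : (fun x : ↥(P : Subgroup G) => fl μ x) = 3 • (fun _ : ↥(P : Subgroup G) => (1 : ℂ)) -
        ((fun x => (tw μ 0 x : ℂ)) + (fun x => (tw μ 1 x : ℂ)) + fun x => (tw μ 2 x : ℂ)) := by
      funext x
      simp [hfl, ξ, Fin.sum_univ_three]
    rw [e]
    exact gc_sub (gc_nsmul gc_one 3) (gc_add (gc_add
      (Char.IsCharacter.isGeneralizedCharacter (Char.isCharacter_hom _))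
      (Char.IsCharacter.isGeneralizedCharacter (Char.isCharacter_hom _)))
      (Char.IsCharacter.isGeneralizedCharacter (Char.isCharacter_hom _)))
  have hsum0 : ∀ μ, μ ≠ 1 → ∑ x, ξ μ x = 0 := by
    intro μ hμ
    simp only [ξ]
    rw [Finset.sum_comm, Finset.sum_eq_zero]
    intro i _
    rw [sum_hom, if_neg]
    intro e
    refine hμ ?_
    have hT1 : T 1 = 1 := rfl
    fin_cases i <;> simp only [tw] at e
    · exact e
    · have e' : T (T (T μ)) = T (T 1) := congrArg (fun ν => T (T ν)) e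
      rwa [hT3, hT1, hT1] at e'
    · have e' : T (T (T μ)) = T 1 := congrArg T e
      rwa [hT3, hT1] at e'
  have hconj : ∀ μ x, conj (ξ μ x) = ∑ i, (((tw μ i)⁻¹ : ↥(P : Subgroup G) →* ℂˣ) x : ℂ) := fun μ x => by
    simp only [ξ, map_sum, conj_hom]
  have hξξ : ∀ μ ν, ∑ x, ξ μ x * conj (ξ ν x) = ∑ i, ∑ j, if tw μ i = tw ν j then (N : ℂ) else 0 := by
    intro μ ν
    simp only [hconj]
    simp only [ξ, Finset.sum_mul_sum]
    rw [Finset.sum_comm]
    refine Finset.sum_congr rfl fun i _ => ?_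
    rw [Finset.sum_comm]
    refine Finset.sum_congr rfl fun j _ => ?_
    calc _ = ∑ x, ((tw μ i * (tw ν j)⁻¹ : ↥(P : Subgroup G) →* ℂˣ) x : ℂ) :=
          Finset.sum_congr rfl fun x _ => by rw [MonoidHom.mul_apply, Units.val_mul]
      _ = _ := by rw [sum_hom]; exact if_congr ⟨fun e => MonoidHom.ext fun x => mul_inv_eq_one.mp (DFunLike.congr_fun e x), fun e => by rw [e]; ext x; simp⟩ rfl rfl
  have hF_const : ∀ μ z, (∃ k, orderOf z = 2 ^ k) → z ≠ 1 → ∀ s : Subgroup.centralizer ({z} : Set G),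
      IsPRegular 2 s → F μ (z * (s : G)) = F μ z := by
    rintro μ z ⟨k, hk⟩ - s hs
    have e1 : twoPart (z * (s : G)) = z := twoPart_mul (Subgroup.mem_centralizer_singleton_iff.1 s.2).symm hk
      (by rw [Subgroup.orderOf_coe]; exact hs)
    have e2 : twoPart z = z := by
      have := twoPart_mul (Commute.one_right z) hk (by rw [orderOf_one]; norm_num)
      rwa [mul_one] at this
    obtain ⟨u, hu⟩ := exists_conj_twoPart P z
    show sFun P (fl μ) _ = sFun P (fl μ) z
    rw [sFun_eq (hinv μ) hu, sFun_eq (hinv μ) (u := u) (by rw [e1]; rwa [e2] at hu), e1, e2]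
  have hip : ∀ μ ν, μ ≠ 1 → ν ≠ 1 → classInner (F μ) (F ν) * ((3 * N : ℕ) : ℂ)
      = 9 * N + ∑ i, ∑ j, if tw μ i = tw ν j then (N : ℂ) else 0 := by
    intro μ ν hμ hν
    rw [hF, classInner_sFun h (hinv μ) (hfl1 μ) (sFun_isClassFunction (hinv ν)) (hF_const ν), hNat, mul_right_comm,
      inv_mul_cancel₀ (by exact_mod_cast mul_ne_zero three_ne_zero Fintype.card_ne_zero), one_mul]
    simp only [sFun_coe (hinv ν), hfl, map_sub, map_ofNat]
    calc ∑ x, (3 - ξ μ x) * (3 - conj (ξ ν x))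
        = ∑ x : ↥(P : Subgroup G), (9 : ℂ) - 3 * conj (∑ x, ξ ν x) - 3 * ∑ x, ξ μ x + ∑ x, ξ μ x * conj (ξ ν x) := by
          simp only [map_sum, Finset.mul_sum, ← Finset.sum_sub_distrib, ← Finset.sum_add_distrib]
          exact Finset.sum_congr rfl fun x _ => by ring
      _ = _ := by
          rw [hsum0 μ hμ, hsum0 ν hν, hξξ, map_zero, Finset.sum_const, Finset.card_univ, nsmul_eq_mul]
          ring
  have h3N : ((3 * N : ℕ) : ℂ) ≠ 0 := by exact_mod_cast mul_ne_zero three_ne_zero Fintype.card_ne_zero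
  have hself : ∀ μ, μ ≠ 1 → classInner (F μ) (F μ) = 4 := by
    intro μ hμ
    apply mul_right_cancel₀ h3N
    rw [hip μ μ hμ hμ, Finset.sum_congr rfl (g := fun _ => (N : ℂ)) fun i _ => by
      rw [Finset.sum_eq_single i (fun j _ hne => if_neg fun e => hne (htwinj μ hμ e).symm)
        (fun hc => absurd (Finset.mem_univ i) hc), if_pos rfl]]
    simp only [Finset.sum_const, Finset.card_univ, Fintype.card_fin, nsmul_eq_mul]
    push_cast
    ring
  have hcross : ∀ μ ν, μ ≠ 1 → ν ≠ 1 → ¬ R μ ν → classInner (F μ) (F ν) = 3 := by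
    intro μ ν hμ hν hR
    apply mul_right_cancel₀ h3N
    rw [hip μ ν hμ hν, Finset.sum_eq_zero fun i _ => Finset.sum_eq_zero fun j _ => if_neg fun e => hR (htwR _ _ _ _ e)]
    push_cast
    ring
  set triv := trivChar G with htriv
  set c : (↥(P : Subgroup G) →* ℂˣ) → IrrCharacter G → ℤ := fun μ => coeff (F μ) with hc
  have hc1 : ∀ μ, μ ≠ 1 → c μ triv = 1 := by
    intro μ hμ
    have e := cast_coeff (hgc μ) triv
    rw [show classInner (F μ) ((triv : IrrCharacter G) : G → ℂ) = classInner (sFun P (fl μ)) (fun _ => 1) from rfl,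
      classInner_sFun h (hinv μ) (hfl1 μ) (fun _ _ => rfl) (fun _ _ _ _ _ => rfl)] at e
    simp only [hfl, map_one, mul_one, Finset.sum_sub_distrib, hsum0 μ hμ, sub_zero, Finset.sum_const,
      Finset.card_univ, nsmul_eq_mul, hNat] at e
    rw [← hN, show ((3 * N : ℕ) : ℂ)⁻¹ * ((N : ℂ) * 3) = 1 by push_cast; field_simp] at e
    exact_mod_cast e
  set s := (Finset.univ : Finset (IrrCharacter G)).erase triv with hs
  have hsq : ∀ μ, μ ≠ 1 → ∑ χ ∈ s, c μ χ * c μ χ = ((3 : ℕ) : ℤ) := by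
    intro μ hμ
    have e := classInner_eq_sum_coeff (hgc μ) (hgc μ)
    rw [hself μ hμ] at e
    have e' : ∑ χ, c μ χ * c μ χ = 4 := by exact_mod_cast e.symm
    rw [← Finset.add_sum_erase _ _ (Finset.mem_univ triv), hc1 μ hμ, ← hs] at e'
    omega
  have hprod : ∀ μ ν, μ ≠ 1 → ν ≠ 1 → ¬ R μ ν → ∑ χ ∈ s, c μ χ * c ν χ = 2 := by
    intro μ ν hμ hν hR
    have e := classInner_eq_sum_coeff (hgc μ) (hgc ν)
    rw [hcross μ ν hμ hν hR] at e
    have e' : ∑ χ, c μ χ * c ν χ = 3 := by exact_mod_cast e.symm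
    rw [← Finset.add_sum_erase _ _ (Finset.mem_univ triv), hc1 μ hμ, hc1 ν hν, ← hs] at e'
    omega
  have hunit := fun μ (hμ : μ ≠ 1) => unit_coeff s (c μ) 3 le_rfl (hsq μ hμ)
  have hFT : ∀ μ, F (T μ) = F μ := by
    intro μ
    have : fl (T μ) = fl μ := by
      funext g
      by_cases hg : g ∈ (P : Subgroup G)
      · simp only [fl, dif_pos hg, ξ, Fin.sum_univ_three, tw, Matrix.cons_val_zero, Matrix.cons_val_one,
          Matrix.cons_val_two, Matrix.tail_cons, Matrix.head_cons, hT3]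
        ring
      · simp only [fl, dif_neg hg]
    simp only [F, this]
  have hRc : ∀ μ ν, R μ ν → c μ = c ν := by
    rintro μ ν ⟨i, rfl⟩
    fin_cases i <;> simp [c, tw, hFT]
  let ι := {μ : ↥(P : Subgroup G) →* ℂˣ // μ ≠ 1}
  let S : ι → Finset (IrrCharacter G × ℤ) := fun μ => (s.filter fun χ => c μ.1 χ ≠ 0).image fun χ => (χ, c μ.1 χ)
  have hSmem : ∀ (μ : ι) p, p ∈ S μ ↔ p.1 ∈ s ∧ p.2 ≠ 0 ∧ c μ.1 p.1 = p.2 := by
    intro μ p
    simp only [S, Finset.mem_image, Finset.mem_filter]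
    constructor
    · rintro ⟨χ, ⟨h1, h2⟩, rfl⟩; exact ⟨h1, h2, rfl⟩
    · rintro ⟨h1, h2, h3⟩; exact ⟨p.1, ⟨h1, h3 ▸ h2⟩, Prod.ext rfl h3⟩
  have hScard : ∀ μ : ι, (S μ).card = 3 := fun μ => by
    rw [Finset.card_image_of_injective _ fun a b e => congrArg Prod.fst e]
    exact (hunit μ.1 μ.2).2
  have hagree := fun (μ ν : ι) (hR : ¬ R μ.1 ν.1) => agree_of_sum s (c μ.1) (c ν.1) (hunit μ.1 μ.2).2
    (hunit μ.1 μ.2).1 (hunit ν.1 ν.2).1 (hprod μ.1 ν.1 μ.2 ν.2 hR)
  have hinter : ∀ μ ν : ι, ¬ R μ.1 ν.1 → (S μ ∩ S ν).card = 2 := by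
    intro μ ν hR
    rw [← (hagree μ ν hR).1,
      ← Finset.card_image_of_injective (s.filter fun χ => c μ.1 χ ≠ 0 ∧ c μ.1 χ = c ν.1 χ)
        (f := fun χ => (χ, c μ.1 χ)) fun a b e => congrArg Prod.fst e]
    congr 1
    ext p
    simp only [Finset.mem_inter, hSmem, Finset.mem_image, Finset.mem_filter]
    constructor
    · rintro ⟨⟨h1, h2, h3⟩, -, -, h4⟩
      exact ⟨p.1, ⟨h1, h3 ▸ h2, h3.trans h4.symm⟩, Prod.ext rfl h3⟩
    · rintro ⟨χ, ⟨h1, h2, h3⟩, rfl⟩
      exact ⟨⟨h1, h2, rfl⟩, h1, h2, h3.symm⟩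
  have hcardhom : Fintype.card (↥(P : Subgroup G) →* ℂˣ) = N := by
    rw [Fintype.card_eq_nat_card, CommGroup.card_monoidHom_of_hasEnoughRootsOfUnity, hNat]
  have hN16 : 16 ≤ N := hNat ▸ Nat.le_of_dvd Nat.card_pos h16
  have hex : ∀ a b c d : ι, ∃ j : ι, ¬ R a.1 j.1 ∧ ¬ R b.1 j.1 ∧ ¬ R c.1 j.1 ∧ ¬ R d.1 j.1 := by
    intro a b c' d
    let bad : Finset (↥(P : Subgroup G) →* ℂˣ) := insert 1 ((Finset.univ.image (tw a.1) ∪ Finset.univ.image (tw b.1)) ∪
      (Finset.univ.image (tw c'.1) ∪ Finset.univ.image (tw d.1)))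
    have h3 : ∀ μ, (Finset.univ.image (tw μ)).card ≤ 3 := fun μ =>
      Finset.card_image_le.trans (by simp)
    have hb : bad.card ≤ 13 := by
      refine (Finset.card_insert_le _ _).trans ?_
      have := Finset.card_union_le (Finset.univ.image (tw a.1) ∪ Finset.univ.image (tw b.1))
        (Finset.univ.image (tw c'.1) ∪ Finset.univ.image (tw d.1))
      have := Finset.card_union_le (Finset.univ.image (tw a.1)) (Finset.univ.image (tw b.1))
      have := Finset.card_union_le (Finset.univ.image (tw c'.1)) (Finset.univ.image (tw d.1))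
      have := h3 a.1; have := h3 b.1; have := h3 c'.1; have := h3 d.1
      omega
    obtain ⟨μ, -, hμ⟩ := Finset.exists_mem_notMem_of_card_lt_card
      (s := bad) (t := Finset.univ) (by rw [Finset.card_univ, hcardhom]; omega)
    simp only [bad, Finset.mem_insert, Finset.mem_union, Finset.mem_image, Finset.mem_univ, true_and, not_or] at hμ
    exact ⟨⟨μ, hμ.1⟩, hμ.2.1.1, hμ.2.1.2, hμ.2.2.1, hμ.2.2.2⟩
  -- the character trivial on involutions
  obtain ⟨y, hy⟩ := hy
  obtain ⟨φ, hφ⟩ := CommGroup.exists_apply_ne_one_of_hasEnoughRootsOfUnity ↥(P : Subgroup G) ℂ hy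
  have hμ0 : φ ^ 2 ≠ 1 := fun e => hφ (by rw [map_pow, ← MonoidHom.pow_apply, e, MonoidHom.one_apply])
  set μ₀ : ι := ⟨φ ^ 2, hμ0⟩
  have hμsq : ∀ (i : Fin 3) (x : ↥(P : Subgroup G)), x ^ 2 = 1 → tw μ₀.1 i x = 1 := by
    intro i x hx
    have hk : ∀ z : ↥(P : Subgroup G), z ^ 2 = 1 → μ₀.1 z = 1 := fun z hz => by
      show (φ ^ 2) z = 1
      rw [MonoidHom.pow_apply, ← map_pow, hz, map_one]
    fin_cases i
    · exact hk x hx
    · exact hk (θ x) (by rw [← map_pow, hx, map_one])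
    · exact hk (θ (θ x)) (by rw [← map_pow, ← map_pow, hx, map_one, map_one])
  obtain ⟨⟨A, a⟩, ⟨B, b⟩, ⟨C, cc⟩, hpq, hpr, hqr, hS0, hall⟩ :=
    common_pair S (fun μ ν => R μ.1 ν.1) (fun μ => ⟨0, rfl⟩)
      (fun μ ν e => by simp only [S, hRc _ _ e]) hScard hinter hex μ₀
  have hA := (hSmem μ₀ (A, a)).mp (hS0 ▸ by simp)
  have hB := (hSmem μ₀ (B, b)).mp (hS0 ▸ by simp)
  have hC := (hSmem μ₀ (C, cc)).mp (hS0 ▸ by simp)
  simp only at hA hB hC
  have hblock : ∀ χ, c μ₀.1 χ ≠ 0 → χ ∈ principalBlock M G := by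
    intro χ hne
    by_contra hn
    refine hne ?_
    have e := cast_coeff (hgc μ₀.1) χ
    rw [hF, classInner_sFun_eq_zero h hM (hinv μ₀.1) (hfl1 μ₀.1) hn] at e
    exact_mod_cast e
  -- restriction to `P`
  have hrest : ∀ χ ∈ principalBlock M G, ∀ μ, ∑ x : ↥(P : Subgroup G), (1 - (μ x : ℂ)) * conj ((χ : G → ℂ) x)
      = (N : ℂ) * c μ χ := by
    intro χ hχ μ
    have e := cast_coeff (hgc μ) χ
    rw [hF, classInner_sFun h (hinv μ) (hfl1 μ) (Char.IsIrrCharacter.isClassFunction χ.2)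
      (fun z hz hz1 s hs => apply_section h hM hχ hz hz1 s hs), hNat] at e
    have hre : ∀ ν : ↥(P : Subgroup G) →* ℂˣ, ∑ x, (T ν x : ℂ) * conj ((χ : G → ℂ) x)
        = ∑ x, (ν x : ℂ) * conj ((χ : G → ℂ) x) := fun ν => by
      refine Fintype.sum_bijective θ ⟨hθinj, Finite.surjective_of_injective hθinj⟩ _ _ fun x => ?_
      show (ν (θ x) : ℂ) * _ = _
      rw [show ((θ x : ↥(P : Subgroup G)) : G) = n * (x : G) * n⁻¹ from rfl, irr_conj_apply]
    simp only [hfl, ξ, Fin.sum_univ_three, tw, Matrix.cons_val_zero, Matrix.cons_val_one,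
      Matrix.cons_val_two, Matrix.tail_cons, Matrix.head_cons, sub_mul, add_mul, Finset.sum_sub_distrib,
      Finset.sum_add_distrib, hre, ← Finset.mul_sum] at e
    simp only [sub_mul, one_mul, Finset.sum_sub_distrib]
    rw [show c μ χ = coeff (F μ) χ from rfl, e]
    push_cast
    field_simp
    ring
  have hval : ∀ D d, D ∈ principalBlock M G → (∀ μ : ι, c μ.1 D = d) → ∀ x : ↥(P : Subgroup G), x ≠ 1 →
      (D : G → ℂ) x = (d : ℂ) := by
    intro D d hD hd x hx
    have hc0 : (c (1 : ↥(P : Subgroup G) →* ℂˣ) D : ℂ) = 0 := by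
      refine mul_left_cancel₀ hN0 ?_
      rw [← hrest D hD 1, mul_zero]
      simp
    have e := inversion (fun x : ↥(P : Subgroup G) => conj ((D : G → ℂ) x)) hx
    simp only [hrest D hD] at e
    rw [← Finset.add_sum_erase _ _ (Finset.mem_univ (1 : ↥(P : Subgroup G) →* ℂˣ)), hc0, mul_zero, mul_zero,
      zero_add, Finset.sum_congr rfl (g := fun μ => (μ x⁻¹ : ℂ) * ((N : ℂ) * d)) fun μ hμ => by
        rw [hd ⟨μ, (Finset.mem_erase.1 hμ).1⟩]] at e
    rw [← Finset.sum_mul, Finset.sum_erase_eq_sub (Finset.mem_univ _), sum_dual, if_neg (by simpa using hx),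
      MonoidHom.one_apply, Units.val_one, zero_sub, neg_one_mul, neg_inj, ← hN] at e
    have e' := mul_left_cancel₀ hN0 e
    calc (D : G → ℂ) x = conj (conj ((D : G → ℂ) x)) := (Complex.conj_conj _).symm
      _ = conj (d : ℂ) := by rw [← e']
      _ = _ := map_intCast _ _
  have hAd : ∀ μ : ι, c μ.1 A = a := fun μ => ((hSmem μ (A, a)).mp (hall μ).1).2.2
  have hBd : ∀ μ : ι, c μ.1 B = b := fun μ => ((hSmem μ (B, b)).mp (hall μ).2).2.2
  have hAB' := hblock A (by rw [hA.2.2]; exact hA.2.1)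
  have hBB := hblock B (by rw [hB.2.2]; exact hB.2.1)
  have hCB := hblock C (by rw [hC.2.2]; exact hC.2.1)
  have hCd : ∀ μ : ι, c μ.1 C = if R μ₀.1 μ.1 then cc else 0 := by
    intro μ
    split_ifs with hR
    · rw [← hRc _ _ hR, hC.2.2]
    · by_contra hne
      have heq := (hagree μ₀ μ hR).2 C hC.1 (by rw [hC.2.2]; exact hC.2.1) hne
      have hsub : ({(A, a), (B, b), (C, cc)} : Finset (IrrCharacter G × ℤ)) ⊆ S μ₀ ∩ S μ := by
        intro p hp
        refine Finset.mem_inter.2 ⟨hS0 ▸ hp, ?_⟩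
        simp only [Finset.mem_insert, Finset.mem_singleton] at hp
        rcases hp with rfl | rfl | rfl
        · exact (hall μ).1
        · exact (hall μ).2
        · exact (hSmem μ _).mpr ⟨hC.1, hC.2.1, heq.symm.trans hC.2.2⟩
      have := Finset.card_le_card hsub
      rw [← hS0, hScard, hinter μ₀ μ hR] at this
      omega
  obtain ⟨t, ht⟩ : ∃ t : ↥(P : Subgroup G), orderOf t = 2 := exists_prime_orderOf_dvd_card' 2
    (dvd_trans (by norm_num) h16)
  have ht1 : t ≠ 1 := fun e => by rw [e, orderOf_one] at ht; omega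
  have ht2 : t ^ 2 = 1 := by have e := pow_orderOf_eq_one t; rwa [ht] at e
  have hCt : (C : G → ℂ) t = -3 * (cc : ℂ) := by
    have e := inversion (fun x : ↥(P : Subgroup G) => conj ((C : G → ℂ) x)) ht1
    have ht' : t⁻¹ = t := by rw [inv_eq_iff_mul_eq_one, ← sq, ht2]
    have hterm : ∀ μ : ↥(P : Subgroup G) →* ℂˣ, (μ t⁻¹ : ℂ) * ((N : ℂ) * c μ C)
        = if μ ∈ Finset.univ.image (tw μ₀.1) then (N : ℂ) * cc else 0 := by
      intro μ
      by_cases hμ : μ = 1
      · have : c μ C = 0 := by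
          have h0 := hrest C hCB μ
          rw [hμ] at h0 ⊢
          simp only [MonoidHom.one_apply, Units.val_one, sub_self, zero_mul, Finset.sum_const_zero] at h0
          exact_mod_cast (mul_eq_zero.mp h0.symm).resolve_left hN0
        rw [this, if_neg, Int.cast_zero, mul_zero, mul_zero]
        intro hm
        obtain ⟨i, -, hi⟩ := Finset.mem_image.1 hm
        exact μ₀.2 (by
          have hT1 : T 1 = 1 := rfl
          rw [hμ] at hi
          fin_cases i <;> simp only [tw] at hi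
          · exact hi
          · have e' : T (T (T μ₀.1)) = T (T 1) := congrArg (fun ν => T (T ν)) hi
            rwa [hT3, hT1, hT1] at e'
          · have e' : T (T (T μ₀.1)) = T 1 := congrArg T hi
            rwa [hT3, hT1] at e')
      · rw [show c μ C = if R μ₀.1 μ then cc else 0 from hCd ⟨μ, hμ⟩]
        by_cases hR : R μ₀.1 μ
        · obtain ⟨i, rfl⟩ := hR
          rw [if_pos ⟨i, rfl⟩, if_pos (Finset.mem_image_of_mem _ (Finset.mem_univ i)), ht', hμsq i t ht2,
            Units.val_one, one_mul]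
        · rw [if_neg hR, if_neg fun hm => hR (by
            obtain ⟨i, -, hi⟩ := Finset.mem_image.1 hm; exact ⟨i, hi⟩), Int.cast_zero, mul_zero, mul_zero]
    simp only [hrest C hCB, hterm] at e
    rw [Finset.sum_ite_mem, Finset.univ_inter, Finset.sum_const, Finset.card_image_of_injective _ (htwinj _ μ₀.2),
      Finset.card_univ, Fintype.card_fin, nsmul_eq_mul, ← hN] at e
    have e' : conj ((C : G → ℂ) t) = -3 * (cc : ℂ) := by
      apply mul_left_cancel₀ hN0
      push_cast at e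
      linear_combination e
    rw [← Complex.conj_conj ((C : G → ℂ) t), e']
    simp [map_ofNat]
  -- the support
  have hAB : A ≠ B := fun e => hpq (Prod.ext e (by rw [← hA.2.2, e, hB.2.2]))
  have hAC : A ≠ C := fun e => hpr (Prod.ext e (by rw [← hA.2.2, e, hC.2.2]))
  have hBC : B ≠ C := fun e => hqr (Prod.ext e (by rw [← hB.2.2, e, hC.2.2]))
  have hsupp : ∀ w : IrrCharacter G → ℂ, ∑ χ, (c μ₀.1 χ : ℂ) * w χ
      = w triv + ((a : ℂ) * w A + ((b : ℂ) * w B + (cc : ℂ) * w C)) := by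
    intro w
    rw [← Finset.add_sum_erase _ _ (Finset.mem_univ triv), hc1 _ μ₀.2, Int.cast_one, one_mul, ← hs,
      ← Finset.sum_subset (show ({A, B, C} : Finset (IrrCharacter G)) ⊆ s by
        intro χ hχ
        simp only [Finset.mem_insert, Finset.mem_singleton] at hχ
        rcases hχ with rfl | rfl | rfl
        exacts [hA.1, hB.1, hC.1]) (fun χ hχs hχ => ?_),
      Finset.sum_insert (by simp [hAB, hAC]), Finset.sum_insert (by simp [hBC]), Finset.sum_singleton,
      hA.2.2, hB.2.2, hC.2.2]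
    by_cases h0 : c μ₀.1 χ = 0
    · rw [h0, Int.cast_zero, zero_mul]
    · exfalso
      have : (χ, c μ₀.1 χ) ∈ S μ₀ := (hSmem μ₀ _).mpr ⟨hχs, h0, rfl⟩
      rw [hS0] at this
      simp only [Finset.mem_insert, Finset.mem_singleton, Prod.mk.injEq] at this
      apply hχ
      simp only [Finset.mem_insert, Finset.mem_singleton]
      tauto
  -- the degrees
  have hdeg : 1 + ((a : ℂ) * (A : G → ℂ) 1 + ((b : ℂ) * (B : G → ℂ) 1 + (cc : ℂ) * (C : G → ℂ) 1)) = 0 := by
    have e := eq_sum_coeff (hgc μ₀.1) 1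
    rw [hsupp (fun χ => (χ : G → ℂ) 1), show F μ₀.1 1 = 0 from
      (sFun_of_odd (hinv _) (by rw [orderOf_one]; norm_num)).trans (hfl1 _)] at e
    exact e.symm
  -- products of two involutions
  have htG : orderOf (t : G) = 2 := by rw [Subgroup.orderOf_coe, ht]
  have htt : (t : G) * (t : G) = 1 := mul_self_of_orderOf_two htG
  have hprod0 : ∀ x : G, F μ₀.1 ((t : G) * (x * (t : G) * x⁻¹)) = 0 := by
    intro x
    set g := (t : G) * (x * (t : G) * x⁻¹) with hg
    obtain ⟨w, hw⟩ := exists_conj_twoPart P g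
    set y := w * twoPart g * w⁻¹ with hy'
    have hy2 : (⟨y, hw⟩ : ↥(P : Subgroup G)) ^ 2 = 1 := by
      by_contra hne
      have hy1 : y ≠ 1 := fun e => hne (by rw [show (⟨y, hw⟩ : ↥(P : Subgroup G)) = 1 from Subtype.ext e, one_pow])
      have hinvg : (t : G) * g * (t : G)⁻¹ = g⁻¹ := by
        rw [inv_eq_of_orderOf_two htG, hg, mul_inv_rev, mul_inv_rev, mul_inv_rev, inv_inv,
          inv_eq_of_orderOf_two htG, ← mul_assoc (t : G) (t : G) (x * (t : G) * x⁻¹), htt, one_mul]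
        group
      have hpart : twoPart g⁻¹ = (twoPart g)⁻¹ := by
        obtain ⟨v, he, hcv, ⟨k, hk⟩, hv⟩ := twoPart_spec g
        have := twoPart_mul (Commute.inv_inv hcv) (by rw [orderOf_inv, hk]) (by rwa [orderOf_inv])
        rwa [show (twoPart g)⁻¹ * v⁻¹ = g⁻¹ by rw [← mul_inv_rev, ← hcv.eq, he]] at this
      have hconjinv : IsConj y y⁻¹ := by
        refine isConj_iff.2 ⟨w * (t : G) * w⁻¹, ?_⟩
        have e1 : (t : G) * twoPart g * (t : G)⁻¹ = (twoPart g)⁻¹ := by rw [← twoPart_conj, hinvg, hpart]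
        calc w * (t : G) * w⁻¹ * y * (w * (t : G) * w⁻¹)⁻¹ = w * ((t : G) * twoPart g * (t : G)⁻¹) * w⁻¹ := by
              rw [hy']; group
          _ = _ := by rw [e1, hy']; group
      obtain ⟨p₁, p₂, p₃, h12, h13, h23, hset⟩ := Finset.card_eq_three.1 (card_conj_inter h hw hy1)
      have hclosed : ∀ p ∈ ({p₁, p₂, p₃} : Finset ↥(P : Subgroup G)), p⁻¹ ∈ ({p₁, p₂, p₃} : Finset ↥(P : Subgroup G)) := by
        rw [← hset]
        intro p hp
        simp only [Finset.mem_filter, Finset.mem_univ, true_and] at hp ⊢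
        obtain ⟨u, hu⟩ := isConj_iff.1 hp
        refine hconjinv.trans (isConj_iff.2 ⟨u, ?_⟩)
        rw [Subgroup.coe_inv, ← hu]; group
      obtain ⟨p, hp, hpp⟩ : ∃ p ∈ ({p₁, p₂, p₃} : Finset ↥(P : Subgroup G)), p⁻¹ = p := by
        have c1 := hclosed p₁ (by simp)
        have c2 := hclosed p₂ (by simp)
        have c3 := hclosed p₃ (by simp)
        simp only [Finset.mem_insert, Finset.mem_singleton] at c1 c2 c3
        by_contra hno
        push Not at hno
        have n1 := hno p₁ (by simp); have n2 := hno p₂ (by simp); have n3 := hno p₃ (by simp)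
        have hcr : ∀ {p q : ↥(P : Subgroup G)}, p⁻¹ = q → q⁻¹ = p := fun e => by rw [← e, inv_inv]
        rcases c1 with c1 | c1 | c1
        · exact n1 c1
        · rcases c3 with c3 | c3 | c3
          · exact h23 (c1.symm.trans (hcr c3))
          · exact h13 (by rw [← hcr c1, ← hcr c3])
          · exact n3 c3
        · rcases c2 with c2 | c2 | c2
          · exact h23 ((hcr c2).symm.trans c1)
          · exact n2 c2
          · exact h12 (by rw [← hcr c1, ← hcr c2])
      rw [← hset] at hp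
      obtain ⟨u, hu⟩ := isConj_iff.1 (Finset.mem_filter.1 hp).2
      refine hne (Subtype.ext ?_)
      show y ^ 2 = 1
      have h2 : (p : G) ^ 2 = 1 := by
        rw [sq]; nth_rw 1 [← hpp]; rw [Subgroup.coe_inv, inv_mul_cancel]
      rw [← hu, conj_pow, conj_eq_one_iff] at h2
      exact h2
    show sFun P (fl μ₀.1) g = 0
    rw [sFun_eq (hinv _) hw, ← hy', show fl μ₀.1 y = 3 - ξ μ₀.1 ⟨y, hw⟩ from hfl _ ⟨y, hw⟩]
    simp [ξ, fun i => hμsq i _ hy2]
  have hA1 := hval A a hAB' hAd t ht1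
  have hB1 := hval B b hBB hBd t ht1
  have hcount : 1 + ((a : ℂ) * ((a : ℂ) * a / (A : G → ℂ) 1) + ((b : ℂ) * ((b : ℂ) * b / (B : G → ℂ) 1) +
      (cc : ℂ) * (-3 * (cc : ℂ) * (-3 * cc) / (C : G → ℂ) 1))) = 0 := by
    apply mul_left_cancel₀ (CfsgLib.Char.card_ne_zero (G := G))
    have e : ∑ x : G, F μ₀.1 ((t : G) * (x * (t : G) * x⁻¹)) = 0 := Finset.sum_eq_zero fun x _ => hprod0 x
    simp only [eq_sum_coeff (hgc μ₀.1)] at e
    rw [Finset.sum_comm] at e
    simp only [← Finset.mul_sum, sum_conj_mul] at e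
    rw [hsupp (fun χ => (Nat.card G : ℂ) * (χ : G → ℂ) t * (χ : G → ℂ) t / (χ : G → ℂ) 1),
      show ((triv : IrrCharacter G) : G → ℂ) t = 1 from rfl, show ((triv : IrrCharacter G) : G → ℂ) 1 = 1 from rfl,
      hA1, hB1, hCt] at e
    rw [mul_zero]
    linear_combination e
  have hu1 := (hunit μ₀.1 μ₀.2).1 A hA.1 (by rw [hA.2.2]; exact hA.2.1)
  have hu2 := (hunit μ₀.1 μ₀.2).1 B hB.1 (by rw [hB.2.2]; exact hB.2.1)
  have hu3 := (hunit μ₀.1 μ₀.2).1 C hC.1 (by rw [hC.2.2]; exact hC.2.1)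
  rw [hA.2.2] at hu1; rw [hB.2.2] at hu2; rw [hC.2.2] at hu3
  have hasq : a * a = 1 := by rcases hu1 with e | e <;> simp [e]
  have hbsq : b * b = 1 := by rcases hu2 with e | e <;> simp [e]
  have hcsq : cc * cc = 1 := by rcases hu3 with e | e <;> simp [e]
  set dA : ℤ := (charDegree (A : G → ℂ) : ℤ) with hdA
  set dB : ℤ := (charDegree (B : G → ℂ) : ℤ) with hdB
  set dC : ℤ := (charDegree (C : G → ℂ) : ℤ) with hdC
  have eA : (A : G → ℂ) 1 = (dA : ℂ) := by rw [irr_one_eq, hdA, Int.cast_natCast]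
  have eB : (B : G → ℂ) 1 = (dB : ℂ) := by rw [irr_one_eq, hdB, Int.cast_natCast]
  have eC : (C : G → ℂ) 1 = (dC : ℂ) := by rw [irr_one_eq, hdC, Int.cast_natCast]
  have nA : (dA : ℂ) ≠ 0 := eA ▸ irr_one_ne_zero A
  have nB : (dB : ℂ) ≠ 0 := eB ▸ irr_one_ne_zero B
  have nC : (dC : ℂ) ≠ 0 := eC ▸ irr_one_ne_zero C
  rw [eA, eB, eC] at hdeg hcount
  have ha3 : (a : ℂ) * a = 1 := by exact_mod_cast hasq
  have hb3 : (b : ℂ) * b = 1 := by exact_mod_cast hbsq
  have hc3 : (cc : ℂ) * cc = 1 := by exact_mod_cast hcsq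
  field_simp at hcount
  have hdegZ : 1 + (a * dA + (b * dB + cc * dC)) = 0 := by exact_mod_cast hdeg
  have hcountC : (dA : ℂ) * dB * dC + a * dB * dC + b * dA * dC + 9 * cc * dA * dB = 0 := by
    linear_combination hcount - (a : ℂ) * dB * dC * ha3 - (b : ℂ) * dA * dC * hb3 - 9 * (cc : ℂ) * dA * dB * hc3
  have hcountZ : dA * dB * dC + a * dB * dC + b * dA * dC + 9 * cc * dA * dB = 0 := by exact_mod_cast hcountC
  have hmod : ∀ (D : IrrCharacter G) (d : ℤ), D ∈ principalBlock M G → (∀ μ : ι, c μ.1 D = d) → d * d = 1 →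
      (16 : ℤ) ∣ d * (charDegree (D : G → ℂ) : ℤ) - 1 := by
    intro D d hD hd hd2
    obtain ⟨k, hk⟩ := CfsgLib.Char.IsCharacter.classInner_nat
      (CfsgLib.Char.IsCharacter.restrict (CfsgLib.Char.isCharacter_irr D) (P : Subgroup G)) CfsgLib.Char.isCharacter_one
    rw [Cfsg.classInner, inv_mul_eq_iff_eq_mul₀ CfsgLib.Char.card_ne_zero] at hk
    simp only [map_one, mul_one] at hk
    rw [← Finset.add_sum_erase _ _ (Finset.mem_univ (1 : ↥(P : Subgroup G))),
      Finset.sum_congr rfl (f := fun q : ↥(P : Subgroup G) => (D : G → ℂ) (q : G)) (g := fun _ => (d : ℂ))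
        fun q hq => hval D d hD hd q (Finset.mem_erase.1 hq).1,
      Finset.sum_const, Finset.card_erase_of_mem (Finset.mem_univ _), Finset.card_univ, OneMemClass.coe_one,
      irr_one_eq, nsmul_eq_mul, hNat, ← hN] at hk
    obtain ⟨j, hj⟩ := hNat ▸ h16
    have hk' : (charDegree (D : G → ℂ) : ℤ) + ((N - 1 : ℕ) : ℤ) * d = (N : ℤ) * k := by exact_mod_cast hk
    rw [Nat.cast_sub (by omega : 1 ≤ N), hj] at hk'
    push_cast at hk'
    exact ⟨(j : ℤ) * (d * k - 1), by linear_combination d * hk' - (16 * (j : ℤ) - 1) * hd2⟩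
  obtain ⟨hp1, -⟩ := arith_degrees (p := a * dA) (q := b * dB) (hmod A a hAB' hAd hasq) (hmod B b hBB hBd hbsq) (by
    have e := congrArg (fun z => a * b * cc * z) hcountZ
    simp only [mul_zero] at e
    have hr : cc * dC = -(1 + a * dA + b * dB) := by linarith
    linear_combination -e + (b * dB * (cc * dC)) * hasq + (a * dA * (cc * dC)) * hbsq +
      (9 * (a * dA) * (b * dB)) * hcsq + ((a * dA) * (b * dB) + a * dA + b * dB) * hr)
  have hd0 : 0 ≤ dA := by rw [hdA]; exact Int.natCast_nonneg _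
  have ha1 : a = 1 := by
    rcases hu1 with e | e
    · exact e
    · exfalso; rw [e] at hp1; omega
  refine ⟨A, (Finset.mem_erase.1 hA.1).1, hAB', ?_, fun x hx => ?_⟩
  · rw [eA]
    rw [ha1, one_mul] at hp1
    rw [hp1, Int.cast_one]
  · by_cases hx1 : x = 1
    · rw [hx1, eA]
      rw [ha1, one_mul] at hp1
      rw [hp1, Int.cast_one]
    · rw [show x = ((⟨x, hx⟩ : ↥(P : Subgroup G)) : G) from rfl,
        hval A a hAB' hAd ⟨x, hx⟩ (fun e => hx1 (congrArg Subtype.val e)), ha1, Int.cast_one]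

end CfsgLib.BrauerSuzuki.Homocyclic
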