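import Cfsg.Agent.Lib.BrauerSuzuki.Basic

/-!
# The test functions on generalized quaternion groups
-/

set_option autoImplicit false

namespace CfsgLib.BrauerSuzuki

open Cfsg
open scoped Classical ComplexConjugate
open Complex (I)

/-! ### Closure of generalized characters -/

section Closure

variable {G : Type*} [Group G]

theorem gc_one : IsGeneralizedCharacter G (fun _ => (1 : ℂ)) :=
  Char.IsCharacter.isGeneralizedCharacter Char.isCharacter_one

theorem gc_add {θ θ' : G → ℂ} (h : IsGeneralizedCharacter G θ) (h' : IsGeneralizedCharacter G θ') :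
    IsGeneralizedCharacter G (θ + θ') := by
  obtain ⟨a, b, ha, hb, rfl⟩ := h
  obtain ⟨c, d, hc, hd, rfl⟩ := h'
  exact ⟨a + c, b + d, Char.IsCharacter.add ha hc, Char.IsCharacter.add hb hd, by abel⟩

theorem gc_sub {θ θ' : G → ℂ} (h : IsGeneralizedCharacter G θ) (h' : IsGeneralizedCharacter G θ') :
    IsGeneralizedCharacter G (θ - θ') := by
  obtain ⟨a, b, ha, hb, rfl⟩ := h
  obtain ⟨c, d, hc, hd, rfl⟩ := h'
  exact ⟨a + d, b + c, Char.IsCharacter.add ha hd, Char.IsCharacter.add hb hc, by abel⟩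

theorem gc_mul {θ θ' : G → ℂ} (h : IsGeneralizedCharacter G θ) (h' : IsGeneralizedCharacter G θ') :
    IsGeneralizedCharacter G (θ * θ') := by
  obtain ⟨a, b, ha, hb, rfl⟩ := h
  obtain ⟨c, d, hc, hd, rfl⟩ := h'
  exact ⟨a * c + b * d, a * d + b * c,
    Char.IsCharacter.add (Char.IsCharacter.mul ha hc) (Char.IsCharacter.mul hb hd),
    Char.IsCharacter.add (Char.IsCharacter.mul ha hd) (Char.IsCharacter.mul hb hc), by ring⟩

theorem gc_nsmul {θ : G → ℂ} (h : IsGeneralizedCharacter G θ) (n : ℕ) :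
    IsGeneralizedCharacter G (n • θ) := by
  obtain ⟨a, b, ha, hb, rfl⟩ := h
  exact ⟨n • a, n • b, Char.IsCharacter.nsmul ha n, Char.IsCharacter.nsmul hb n, smul_sub n a b⟩

theorem gc_comp {H : Type*} [Group H] {θ : G → ℂ} (h : IsGeneralizedCharacter G θ) (f : H →* G) :
    IsGeneralizedCharacter H (θ ∘ f) := by
  obtain ⟨a, b, ha, hb, rfl⟩ := h
  exact ⟨a ∘ f, b ∘ f, Char.IsCharacter.comp ha f, Char.IsCharacter.comp hb f, rfl⟩

end Closure

open QuaternionGroup

variable {N : ℕ} [NeZero N]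

/-- `a i ↦ I ^ i`. -/
noncomputable def angle (i : ZMod (2 * N)) : ℂ := I ^ i.val

theorem I_pow_two_mul (hN : 2 ∣ N) : (I : ℂ) ^ (2 * N) = 1 := by
  obtain ⟨m, rfl⟩ := hN
  rw [← mul_assoc, pow_mul, show (2 * 2 : ℕ) = 4 from rfl, Complex.I_pow_four, one_pow]

theorem angle_add (hN : 2 ∣ N) (i j : ZMod (2 * N)) : angle (i + j) = angle i * angle j := by
  rw [angle, angle, angle, ← pow_add, ZMod.val_add, ← pow_eq_pow_mod _ (I_pow_two_mul hN)]

theorem angle_zero : angle (0 : ZMod (2 * N)) = 1 := by simp [angle]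

theorem angle_mul_neg (hN : 2 ∣ N) (i : ZMod (2 * N)) : angle i * angle (-i) = 1 := by
  rw [← angle_add hN, add_neg_cancel, angle_zero]

theorem angle_natCast (hN : 2 ∣ N) (k : ℕ) : angle ((k : ℕ) : ZMod (2 * N)) = I ^ k := by
  rw [angle, ZMod.val_natCast, ← pow_eq_pow_mod _ (I_pow_two_mul hN)]

theorem conj_angle (hN : 2 ∣ N) (i : ZMod (2 * N)) : conj (angle i) = angle (-i) := by
  have hne : angle i ≠ 0 := left_ne_zero_of_mul (angle_mul_neg hN i ▸ one_ne_zero)
  apply mul_left_cancel₀ hne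
  rw [angle_mul_neg hN, angle, map_pow, Complex.conj_I, ← mul_pow, mul_neg, Complex.I_mul_I, neg_neg,
    one_pow]

/-- The cyclic subgroup of index two. -/
def cyclicPart (N : ℕ) [NeZero N] : Subgroup (QuaternionGroup N) where
  carrier := {x | ∃ i, x = a i}
  one_mem' := ⟨0, rfl⟩
  mul_mem' := by
    rintro _ _ ⟨i, rfl⟩ ⟨j, rfl⟩
    exact ⟨i + j, a_mul_a i j⟩
  inv_mem' := by
    rintro _ ⟨i, rfl⟩
    exact ⟨-i, inv_eq_of_mul_eq_one_right (by rw [a_mul_a, add_neg_cancel]; rfl)⟩

theorem a_mem_cyclicPart (i : ZMod (2 * N)) : a i ∈ cyclicPart N := ⟨i, rfl⟩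

theorem xa_notMem_cyclicPart (i : ZMod (2 * N)) : xa i ∉ cyclicPart N := by
  rintro ⟨j, hj⟩
  cases hj

theorem xa_inv_conj (i j : ZMod (2 * N)) : (xa j)⁻¹ * a i * xa j = a (-i) := by
  rw [mul_assoc, inv_mul_eq_iff_eq_mul, a_mul_xa, xa_mul_a, sub_eq_add_neg]

theorem a_inv_conj (i j : ZMod (2 * N)) : (a j)⁻¹ * a i * a j = a i := by
  rw [mul_assoc, inv_mul_eq_iff_eq_mul, a_mul_a, a_mul_a, add_comm]

/-- The two kinds of elements. -/
def splitEquiv : ZMod (2 * N) ⊕ ZMod (2 * N) ≃ QuaternionGroup N where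
  toFun := Sum.elim a xa
  invFun x := match x with
    | a i => Sum.inl i
    | xa i => Sum.inr i
  left_inv x := by cases x <;> rfl
  right_inv x := by cases x <;> rfl

theorem card_cyclicPart : Nat.card (cyclicPart N) = 2 * N := by
  have e : ZMod (2 * N) ≃ cyclicPart N :=
    Equiv.ofBijective (fun i => ⟨a i, a_mem_cyclicPart i⟩)
      ⟨fun i j h => by simpa using congrArg Subtype.val h, fun ⟨x, i, hi⟩ => ⟨i, Subtype.ext hi.symm⟩⟩
  rw [← Nat.card_congr e, Nat.card_zmod]

/-- The linear character of the cyclic part. -/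
noncomputable def linPart (hN : 2 ∣ N) : cyclicPart N →* ℂˣ :=
  MonoidHom.toHomUnits
    { toFun := fun x => match (x : QuaternionGroup N) with
        | a i => angle i
        | xa _ => 0
      map_one' := angle_zero
      map_mul' := by
        rintro ⟨x, i, rfl⟩ ⟨y, j, rfl⟩
        exact angle_add hN i j }

theorem linPart_apply (hN : 2 ∣ N) (i : ZMod (2 * N)) :
    ((linPart hN ⟨a i, a_mem_cyclicPart i⟩ : ℂˣ) : ℂ) = angle i := rfl

theorem indFun_cyclicPart (f : cyclicPart N → ℂ) (i : ZMod (2 * N)) :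
    Cfsg.indFun (cyclicPart N) f (a i) =
      f ⟨a i, a_mem_cyclicPart i⟩ + f ⟨a (-i), a_mem_cyclicPart (-i)⟩ := by
  rw [Char.indFun_def, card_cyclicPart, ← splitEquiv.sum_comp, Fintype.sum_sum_type]
  simp only [splitEquiv, Equiv.coe_fn_mk, Sum.elim_inl, Sum.elim_inr, a_inv_conj, xa_inv_conj,
    Char.extendByZero_apply_mem _ f (a_mem_cyclicPart _), Finset.sum_const, nsmul_eq_mul,
    Finset.card_univ, ZMod.card]
  have : ((2 * N : ℕ) : ℂ) ≠ 0 := by exact_mod_cast NeZero.ne (2 * N)
  rw [← mul_add, ← mul_assoc, inv_mul_cancel₀ this, one_mul]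

theorem indFun_cyclicPart_xa (f : cyclicPart N → ℂ) (i : ZMod (2 * N)) :
    Cfsg.indFun (cyclicPart N) f (xa i) = 0 := by
  refine Char.indFun_eq_zero_of_forall _ f fun x hx => ?_
  obtain ⟨j, hj⟩ := hx
  have h : xa i = x * a j * x⁻¹ := by rw [← hj]; group
  rcases x with k | k
  · have h1 : xa i * a k = a (k + j) := by rw [h, inv_mul_cancel_right, a_mul_a]
    rw [xa_mul_a] at h1
    cases h1
  · have h1 : xa i * xa k = xa (k + j) := by rw [h, inv_mul_cancel_right, xa_mul_a]
    rw [xa_mul_xa] at h1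
    cases h1

/-- `a i ↦ I^i + I^(-i)`, zero outside the cyclic part. -/
noncomputable def alphaQ : QuaternionGroup N → ℂ
  | a i => angle i + angle (-i)
  | xa _ => 0

/-- `a i ↦ 2 - I^i - I^(-i)`, zero outside the cyclic part. -/
noncomputable def psiQ : QuaternionGroup N → ℂ
  | a i => 2 - (angle i + angle (-i))
  | xa _ => 0

theorem alphaQ_eq (hN : 2 ∣ N) :
    alphaQ = Cfsg.indFun (cyclicPart N) (fun x => ((linPart hN x : ℂˣ) : ℂ)) := by
  funext x
  rcases x with i | i
  · rw [indFun_cyclicPart]; rfl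
  · rw [indFun_cyclicPart_xa]; rfl

theorem psiQ_eq (hN : 2 ∣ N) :
    psiQ = Cfsg.indFun (cyclicPart N)
      ((fun _ => (1 : ℂ)) - fun x => ((linPart hN x : ℂˣ) : ℂ)) := by
  funext x
  rcases x with i | i
  · rw [indFun_cyclicPart, Pi.sub_apply, Pi.sub_apply]
    show 2 - (angle i + angle (-i)) = 1 - angle i + (1 - angle (-i))
    ring
  · rw [indFun_cyclicPart_xa]; rfl

theorem gc_alphaQ (hN : 2 ∣ N) : IsGeneralizedCharacter (QuaternionGroup N) (alphaQ (N := N)) := by
  rw [alphaQ_eq hN]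
  exact Char.IsGeneralizedCharacter.indFun _
    (Char.IsCharacter.isGeneralizedCharacter (Char.isCharacter_hom _))

theorem gc_psiQ (hN : 2 ∣ N) : IsGeneralizedCharacter (QuaternionGroup N) (psiQ (N := N)) := by
  rw [psiQ_eq hN]
  exact Char.IsGeneralizedCharacter.indFun _
    (gc_sub gc_one (Char.IsCharacter.isGeneralizedCharacter (Char.isCharacter_hom _)))

theorem psiQ_inner (hN : 4 ∣ N) :
    classInner (psiQ (N := N)) (psiQ (N := N)) = 3 ∧ classInner (psiQ (N := N)) (fun _ => 1) = 1 := by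
  have h2 : 2 ∣ N := dvd_trans (by norm_num) hN
  set φ : cyclicPart N → ℂ := fun x => ((linPart h2 x : ℂˣ) : ℂ) with hφ
  set φ' : cyclicPart N → ℂ := fun x => conj (φ x) with hφ'
  have hirr : IsIrrCharacter (cyclicPart N) φ := Char.isIrrCharacter_hom _
  have hirr' : IsIrrCharacter (cyclicPart N) φ' := by
    have := CfsgLib.Blocks.isIrrCharacter_conj (⟨φ, hirr⟩ : IrrCharacter (cyclicPart N))
    exact this
  have h1mem : a (1 : ZMod (2 * N)) ∈ cyclicPart N := a_mem_cyclicPart 1
  have hv : φ ⟨_, h1mem⟩ = I := by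
    show angle (1 : ZMod (2 * N)) = I
    have := angle_natCast h2 1
    rwa [Nat.cast_one, pow_one] at this
  have hne1 : φ ≠ fun _ => 1 := fun h => by
    have := congrFun h ⟨_, h1mem⟩
    rw [hv] at this
    simpa using congrArg Complex.im this
  have hne1' : φ' ≠ fun _ => 1 := fun h => by
    have := congrFun h ⟨_, h1mem⟩
    rw [hφ'] at this
    simp only [hv, Complex.conj_I] at this
    have := congrArg Complex.im this
    norm_num at this
  have hne : φ ≠ φ' := fun h => by
    have := congrFun h ⟨_, h1mem⟩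
    rw [hφ'] at this
    simp only [hv, Complex.conj_I] at this
    have := congrArg Complex.im this
    norm_num at this
  have h11 := CfsgLib.Char.classInner_irr_self (Char.isIrrCharacter_one (G := cyclicPart N))
  have hff := CfsgLib.Char.classInner_irr_self hirr
  have h1f := CfsgLib.Char.classInner_irr_ne Char.isIrrCharacter_one hirr hne1.symm
  have hf1 := CfsgLib.Char.classInner_irr_ne hirr Char.isIrrCharacter_one hne1
  have h1f' := CfsgLib.Char.classInner_irr_ne Char.isIrrCharacter_one hirr' hne1'.symm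
  have hff' := CfsgLib.Char.classInner_irr_ne hirr hirr' hne
  have hres : (fun x : cyclicPart N => psiQ (x : QuaternionGroup N)) =
      (fun _ => (1 : ℂ)) + (fun _ => 1) - φ - φ' := by
    funext x
    obtain ⟨x, i, rfl⟩ := x
    simp only [Pi.sub_apply, Pi.add_apply, hφ', hφ]
    show 2 - (angle i + angle (-i)) = 1 + 1 - angle i - conj (angle i)
    rw [conj_angle h2]
    ring
  constructor
  · conv_lhs => arg 1; rw [psiQ_eq h2]
    rw [Char.classInner_indFun _ _ (Char.isGeneralizedCharacter_iff.1 (gc_psiQ h2)).1, hres]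
    simp only [Char.classInner_sub_left, Char.classInner_sub_right, Char.classInner_add_right,
      ← hφ, h11, hff, h1f, hf1, h1f', hff']
    norm_num
  · rw [psiQ_eq h2, Char.classInner_indFun _ _ (fun _ _ => rfl), Char.classInner_sub_left, ← hφ, h11, hf1,
      sub_zero]

theorem psiQ_ne_zero (hN : 4 ∣ N) {x : QuaternionGroup N} (h : psiQ x ≠ 0) :
    x ∈ cyclicPart N ∧ x ^ 2 ≠ 1 := by
  have h2 : 2 ∣ N := dvd_trans (by norm_num) hN
  rcases x with i | i
  · refine ⟨a_mem_cyclicPart i, fun hsq => h ?_⟩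
    rw [sq, a_mul_a, one_def, a.injEq] at hsq
    have hi : 4 ∣ i.val := by
      have h3 : ((i.val + i.val : ℕ) : ZMod (2 * N)) = 0 := by
        rw [Nat.cast_add, ZMod.natCast_zmod_val, hsq]
      rw [← two_mul i.val] at h3
      rw [ZMod.natCast_eq_zero_iff] at h3
      exact hN.trans (Nat.dvd_of_mul_dvd_mul_left two_pos h3)
    have hA : angle i = 1 := by
      obtain ⟨m, hm⟩ := hi
      rw [angle, hm, pow_mul, Complex.I_pow_four, one_pow]
    have hA' : angle (-i) = 1 := by
      have := angle_mul_neg h2 i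
      rwa [hA, one_mul] at this
    show 2 - (angle i + angle (-i)) = 0
    rw [hA, hA']
    norm_num
  · exact absurd rfl h

theorem alphaQ_two (x : QuaternionGroup 2) :
    alphaQ x = if 4 ∣ orderOf x then 0 else if 2 ∣ orderOf x then -2 else 2 := by
  rcases x with i | i
  · rw [orderOf_a]
    show angle i + angle (-i) = _
    have hneg : ∀ j : ZMod (2 * 2), (-j).val = (4 - j.val) % 4 := by decide
    rw [angle, angle, hneg]
    fin_cases i <;> simp [ZMod.val, pow_succ] <;> norm_num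
  · rw [orderOf_xa]
    simp [alphaQ]

end CfsgLib.BrauerSuzuki
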