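import Mathlib
import Cfsg.Agent.Lib.Blocks.SecondMainBlocks
import Cfsg.Agent.Lib.Blocks.Kernel
import Cfsg.Agent.Lib.Blocks.Eigen
import Cfsg.Agent.Lib.Char.Quotient
import Cfsg.Agent.Lib.Fusion.Basic

/-!
# Tools for the theorem of Brauer and Suzuki

Groups in which commuting involutions are equal, induction from special sets, integral coefficients
of generalized characters, and the involution identity.
-/

set_option autoImplicit false

namespace CfsgLib.BrauerSuzuki

open Cfsg CfsgLib.Blocks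
open scoped Classical ComplexConjugate

/-- Commuting involutions are equal: all 2-subgroups have at most one involution. -/
def UniqueInv (G : Type*) [Group G] : Prop :=
  ∀ s t : G, orderOf s = 2 → orderOf t = 2 → Commute s t → s = t

section Elements

variable {G : Type*} [Group G]

theorem mul_self_of_orderOf_two {s : G} (hs : orderOf s = 2) : s * s = 1 := by
  rw [← sq, ← hs, pow_orderOf_eq_one]

theorem inv_eq_of_orderOf_two {s : G} (hs : orderOf s = 2) : s⁻¹ = s :=
  inv_eq_of_mul_eq_one_right (mul_self_of_orderOf_two hs)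

theorem orderOf_conj' (g x : G) : orderOf (g * x * g⁻¹) = orderOf x :=
  MulEquiv.orderOf_eq (MulAut.conj g) x

theorem UniqueInv.subgroup (hU : UniqueInv G) (H : Subgroup G) : UniqueInv H := fun s t hs ht h =>
  Subtype.ext (hU _ _ (by rwa [Subgroup.orderOf_coe]) (by rwa [Subgroup.orderOf_coe]) (congrArg Subtype.val h.eq))

/-- The power of order 2 of an element of even order. -/
theorem orderOf_half [Finite G] {x : G} (h : 2 ∣ orderOf x) : orderOf (x ^ (orderOf x / 2)) = 2 := by
  have hpos := orderOf_pos x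
  rw [orderOf_pow_of_dvd (by omega) (Nat.div_dvd_of_dvd h), Nat.div_div_self h hpos.ne']

theorem not_two_dvd_orderOf_mul [Finite G] (hU : UniqueInv G) {s t : G} (hs : orderOf s = 2) (ht : orderOf t = 2) :
    ¬ 2 ∣ orderOf (s * t) := by
  intro hd
  set z := (s * t) ^ (orderOf (s * t) / 2) with hz
  have hz2 : orderOf z = 2 := orderOf_half hd
  have hsz : Commute s z := by
    have h1 : s * z * s⁻¹ = z⁻¹ := by
      rw [hz, ← conj_pow, ← inv_pow, mul_inv_rev, inv_eq_of_orderOf_two hs, inv_eq_of_orderOf_two ht,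
        ← mul_assoc s s t, mul_self_of_orderOf_two hs, one_mul]
    rw [inv_eq_of_orderOf_two hz2] at h1
    exact mul_inv_eq_iff_eq_mul.mp h1
  have hzs : s = z := hU s z hs hz2 hsz
  have hc : Commute s (s * t) := by
    have h2 : Commute z (s * t) := by rw [hz]; exact Commute.pow_self _ _
    rwa [← hzs] at h2
  have : Commute s t := by
    have h2 := hc.eq
    rw [mul_assoc s t s] at h2
    exact mul_left_cancel h2
  rw [hU s t hs ht this, mul_self_of_orderOf_two ht, orderOf_one] at hd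
  norm_num at hd

end Elements

section Special

variable {G : Type*} [Group G] [Fintype G] (H : Subgroup G) [Fintype H] {f f' : H → ℂ} (D : G → Prop)

theorem indFun_apply_special (hf : IsClassFunction H f) (hD : ∀ h : H, f h ≠ 0 → D h)
    (hTI : ∀ g x : G, x ∈ H → D x → g * x * g⁻¹ ∈ H → D (g * x * g⁻¹) → g ∈ H)
    (h : H) (hDh : D h) : Cfsg.indFun H f (h : G) = f h := by
  rw [Char.indFun_def, ← Finset.sum_filter_of_ne (p := fun x => x ∈ H),
    Finset.sum_congr rfl (g := fun _ => f h), Finset.sum_const, nsmul_eq_mul]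
  · have : (Finset.univ.filter fun x : G => x ∈ H).card = Nat.card H := by
      rw [Nat.card_eq_fintype_card, Fintype.card_subtype]
    rw [this, ← mul_assoc, inv_mul_cancel₀ (by exact_mod_cast Nat.card_pos.ne'), one_mul]
  · intro x hx
    have hx' : x ∈ H := (Finset.mem_filter.1 hx).2
    rw [Char.extendByZero_apply_mem H f (mul_mem (mul_mem (inv_mem hx') h.2) hx')]
    have := hf h ⟨x, hx'⟩⁻¹
    rw [inv_inv] at this
    exact this
  · intro x _ hne
    by_cases hm : x⁻¹ * (h : G) * x ∈ H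
    · rw [Char.extendByZero_apply_mem H f hm] at hne
      have h1 := hTI x⁻¹ h h.2 hDh (by rwa [inv_inv]) (by rw [inv_inv]; exact hD _ hne)
      exact H.inv_mem_iff.mp h1
    · exact absurd (Char.extendByZero_apply_notMem H f hm) hne

theorem classInner_indFun_special (hf' : IsClassFunction H f') (hD : ∀ h : H, f h ≠ 0 → D h)
    (hD' : ∀ h : H, f' h ≠ 0 → D h)
    (hTI : ∀ g x : G, x ∈ H → D x → g * x * g⁻¹ ∈ H → D (g * x * g⁻¹) → g ∈ H) :
    classInner (Cfsg.indFun H f) (Cfsg.indFun H f') = classInner f f' := by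
  rw [Char.classInner_indFun H f (Char.indFun_isClassFunction H f')]
  simp only [Cfsg.classInner]
  congr 1
  refine Finset.sum_congr rfl fun h _ => ?_
  by_cases hf0 : f h = 0
  · rw [hf0, zero_mul, zero_mul]
  · rw [indFun_apply_special H D hf' hD' hTI h (hD h hf0)]

theorem eq_indFun_special (hf : IsClassFunction H f) (hD : ∀ h : H, f h ≠ 0 → D h)
    (hTI : ∀ g x : G, x ∈ H → D x → g * x * g⁻¹ ∈ H → D (g * x * g⁻¹) → g ∈ H)
    {F : G → ℂ} (hF : IsClassFunction G F) (hval : ∀ h : H, D h → F h = f h)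
    (hsupp : ∀ g, F g ≠ 0 → ∃ x : G, x⁻¹ * g * x ∈ H ∧ D (x⁻¹ * g * x)) :
    F = Cfsg.indFun H f := by
  funext g
  by_cases hex : ∃ x : G, x⁻¹ * g * x ∈ H ∧ D (x⁻¹ * g * x)
  · obtain ⟨x, hxH, hxD⟩ := hex
    have e1 := hF g x⁻¹
    have e2 := Char.indFun_isClassFunction H f g x⁻¹
    rw [inv_inv] at e1 e2
    rw [← e1, ← e2]
    exact (hval ⟨_, hxH⟩ hxD).trans (indFun_apply_special H D hf hD hTI ⟨_, hxH⟩ hxD).symm
  · rw [not_exists] at hex
    rw [not_not.mp fun h => (not_exists.mpr hex) (hsupp g h), Char.indFun_def, Finset.sum_eq_zero, mul_zero]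
    intro x _
    by_cases hm : x⁻¹ * g * x ∈ H
    · rw [Char.extendByZero_apply_mem H f hm]
      by_contra h
      exact hex x ⟨hm, hD _ h⟩
    · exact Char.extendByZero_apply_notMem H f hm

end Special

section Coeff

variable {G : Type*} [Group G] [Fintype G]

/-- The multiplicity of `χ` in a generalized character. -/
noncomputable def coeff (θ : G → ℂ) (χ : IrrCharacter G) : ℤ := ⌊(classInner θ (χ : G → ℂ)).re⌋

theorem cast_coeff {θ : G → ℂ} (hθ : IsGeneralizedCharacter G θ) (χ : IrrCharacter G) :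
    (coeff θ χ : ℂ) = classInner θ (χ : G → ℂ) := by
  obtain ⟨n, hn⟩ := (Char.isGeneralizedCharacter_iff.1 hθ).2 _ χ.2
  rw [coeff, hn, Complex.intCast_re, Int.floor_intCast]

theorem eq_sum_coeff {θ : G → ℂ} (hθ : IsGeneralizedCharacter G θ) (g : G) :
    θ g = ∑ χ : IrrCharacter G, (coeff θ χ : ℂ) * (χ : G → ℂ) g := by
  conv_lhs => rw [Char.IsClassFunction.eq_sum_irr (Char.isGeneralizedCharacter_iff.1 hθ).1]
  simp [cast_coeff hθ]

theorem classInner_eq_sum_coeff {θ θ' : G → ℂ} (hθ : IsGeneralizedCharacter G θ)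
    (hθ' : IsGeneralizedCharacter G θ') :
    classInner θ θ' = ((∑ χ : IrrCharacter G, coeff θ χ * coeff θ' χ : ℤ) : ℂ) := by
  rw [Char.classInner_eq_sum_irr (Char.isGeneralizedCharacter_iff.1 hθ).1]
  push_cast
  refine Finset.sum_congr rfl fun χ _ => ?_
  rw [cast_coeff hθ, ← Char.classInner_conj_symm θ' (χ : G → ℂ), ← cast_coeff hθ', map_intCast]

/-- Real value of a character at an involution. -/
noncomputable def reVal (χ : IrrCharacter G) (u : G) : ℝ := ((χ : G → ℂ) u).re

theorem cast_reVal (χ : IrrCharacter G) {u : G} (hu : orderOf u = 2) :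
    (reVal χ u : ℂ) = (χ : G → ℂ) u :=
  Complex.conj_eq_iff_re.mp (by rw [conj_irr, inv_eq_of_orderOf_two hu])

/-- The involution identity. -/
theorem involution_identity (hU : UniqueInv G) {u : G} (hu : orderOf u = 2) {θ : G → ℂ}
    (hθ : IsGeneralizedCharacter G θ) (c : ℝ) (hodd : ∀ x, ¬ 2 ∣ orderOf x → θ x = c) :
    ∑ χ : IrrCharacter G, (coeff θ χ : ℝ) * reVal χ u ^ 2 / (charDegree (χ : G → ℂ) : ℝ) = c := by
  apply Complex.ofReal_injective
  push_cast
  simp only [cast_reVal _ hu, ← irr_one_eq]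
  have hG : (Nat.card G : ℂ) ≠ 0 := CfsgLib.Char.card_ne_zero
  apply mul_left_cancel₀ hG
  have h1 : ∑ x : G, θ (u * (x * u * x⁻¹)) = (Nat.card G : ℂ) * c := by
    rw [Finset.sum_congr rfl fun x _ => hodd _ (not_two_dvd_orderOf_mul hU hu (by rw [orderOf_conj', hu])),
      Finset.sum_const, nsmul_eq_mul, Finset.card_univ, Fintype.card_eq_nat_card]
  rw [← h1]
  simp only [eq_sum_coeff hθ, Finset.mul_sum]
  rw [Finset.sum_comm]
  refine Finset.sum_congr rfl fun χ _ => ?_
  rw [← Finset.mul_sum, sum_conj_mul χ u u]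
  ring

theorem irr_eq_triv_of_ker_top {χ : IrrCharacter G} (h : irrKer χ = ⊤) : χ = trivChar G := by
  have hv : ∀ g, (χ : G → ℂ) g = (charDegree (χ : G → ℂ) : ℂ) := fun g => by
    have : g ∈ irrKer χ := h ▸ Subgroup.mem_top g
    rw [mem_irrKer.1 this, irr_one_eq]
  have h1 := CfsgLib.Char.classInner_irr_self χ.2
  rw [Cfsg.classInner, inv_mul_eq_iff_eq_mul₀ CfsgLib.Char.card_ne_zero, mul_one] at h1
  simp only [hv, Complex.conj_natCast, Finset.sum_const, nsmul_eq_mul, Finset.card_univ,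
    Fintype.card_eq_nat_card] at h1
  have h2 : ((charDegree (χ : G → ℂ) * charDegree (χ : G → ℂ) : ℕ) : ℂ) = ((1 : ℕ) : ℂ) := by
    push_cast
    exact mul_left_cancel₀ CfsgLib.Char.card_ne_zero (h1.trans (mul_one _).symm)
  have h3 : charDegree (χ : G → ℂ) = 1 := (mul_eq_one.mp (Nat.cast_injective h2)).1
  exact Subtype.ext (funext fun g => by rw [hv, h3, Nat.cast_one]; rfl)

/-- An involution acting as `-1` centralizes modulo the kernel. -/
theorem commutator_mem_irrKer {χ : IrrCharacter G} {u : G} (h : (χ : G → ℂ) u = -(χ : G → ℂ) 1) (g : G) :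
    u * g * u⁻¹ * g⁻¹ ∈ irrKer χ := by
  obtain ⟨n, ρ, hρ, he⟩ := χ.2
  have hd : (χ : G → ℂ) 1 = (Module.finrank ℂ (Fin n → ℂ) : ℂ) := by rw [← he]; simp
  obtain ⟨ω, hω, hρu, -⟩ := CfsgLib.Char.exists_scalar_of_norm_char_eq ρ u (by
    rw [show ρ.character u = (χ : G → ℂ) u by rw [← he], h, norm_neg, hd, Complex.norm_natCast])
  rw [mem_irrKer, ← he]
  have hcomm : ρ u * ρ g = ρ g * ρ u := by
    rw [hρu]
    ext v
    simp
  have : ρ (u * g * u⁻¹ * g⁻¹) = ρ 1 := by
    rw [mul_assoc, map_mul, map_mul, hcomm, ← map_mul, ← map_mul]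
    congr 1
    group
  show LinearMap.trace ℂ _ (ρ _) = LinearMap.trace ℂ _ (ρ 1)
  rw [this]

end Coeff

end CfsgLib.BrauerSuzuki
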