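import Cfsg.Agent.Lib.BrauerSuzuki.Setup

/-!
# The derived subgroup of a quaternion Sylow 2-subgroup of order at least 16
-/

set_option autoImplicit false

namespace CfsgLib.BrauerSuzuki

open QuaternionGroup
open scoped commutatorElement

section Quat

variable {N : ℕ} [NeZero N]

theorem commutator_mem_zpowers_two (x y : QuaternionGroup N) :
    ⁅x, y⁆ ∈ Subgroup.zpowers (a (2 : ZMod (2 * N))) := by
  have key : ∀ j : ZMod (2 * N), a (j + j) ∈ Subgroup.zpowers (a (2 : ZMod (2 * N))) := fun j => by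
    refine ⟨(j.val : ℤ), ?_⟩
    show a 2 ^ (j.val : ℤ) = _
    rw [zpow_natCast]
    have : ∀ m : ℕ, (a (2 : ZMod (2 * N))) ^ m = a ((m : ZMod (2 * N)) + (m : ZMod (2 * N))) := fun m => by
      induction m with
      | zero => simp
      | succ m ih => rw [pow_succ, ih, a_mul_a]; congr 1; push_cast; ring
    rw [this, ZMod.natCast_zmod_val]
  have hNN : ((N : ZMod (2 * N)) + N) = 0 := by
    rw [← Nat.cast_add, ← two_mul N]; exact ZMod.natCast_self _
  rcases x with i | i <;> rcases y with j | j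
  · convert key 0 using 1
    rw [commutatorElement_eq_one_iff_mul_comm.mpr (by rw [a_mul_a, a_mul_a, add_comm])]
    simp
  · convert key i using 1
    rw [commutatorElement_def, mul_inv_eq_iff_eq_mul, mul_inv_eq_iff_eq_mul, mul_assoc, a_mul_xa, xa_mul_a, a_mul_xa]
    congr 1; ring
  · convert key (-j) using 1
    rw [commutatorElement_def, mul_inv_eq_iff_eq_mul, mul_inv_eq_iff_eq_mul, mul_assoc, xa_mul_a, a_mul_xa, a_mul_xa]
    congr 1; ring
  · convert key (j - i) using 1
    rw [commutatorElement_def, mul_inv_eq_iff_eq_mul, mul_inv_eq_iff_eq_mul, mul_assoc, xa_mul_xa, xa_mul_xa, a_mul_a]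
    congr 1; ring

theorem a_two_eq_commutator : (a (2 : ZMod (2 * N)) : QuaternionGroup N) = ⁅(a 1 : QuaternionGroup N), (xa 0 : QuaternionGroup N)⁆ := by
  rw [commutatorElement_def, eq_mul_inv_iff_mul_eq, eq_mul_inv_iff_mul_eq, a_mul_xa, a_mul_xa, xa_mul_a]
  congr 1; ring

theorem commute_two_iff (h4 : 4 ≤ 2 * N) (hne : ((4 : ℕ) : ZMod (2 * N)) ≠ 0) (x : QuaternionGroup N) :
    Commute x (a (2 : ZMod (2 * N))) ↔ x ∈ cyclicPart N := by
  rcases x with i | i
  · refine iff_of_true ?_ (a_mem_cyclicPart i)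
    show a i * a _ = a _ * a i
    rw [a_mul_a, a_mul_a, add_comm]
  · refine iff_of_false ?_ (xa_notMem_cyclicPart i)
    intro h
    have h1 : xa i * a (2 : ZMod (2 * N)) = a (2 : ZMod (2 * N)) * xa i := h
    rw [xa_mul_a, a_mul_xa, xa.injEq] at h1
    apply hne
    push_cast
    linear_combination h1

end Quat

/-- In a cyclic group two subgroups of the same finite order are equal. -/
theorem eq_of_card_eq_of_le_cyclic {G : Type*} [Group G] {R A B : Subgroup G} [IsCyclic ↥R] [Finite ↥R]
    (hA : A ≤ R) (hB : B ≤ R) (h : Nat.card A = Nat.card B) : A = B := by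
  classical
  letI : Fintype ↥R := Fintype.ofFinite _
  haveI : Finite A := Finite.of_injective _ (Subgroup.inclusion_injective hA)
  haveI : Finite B := Finite.of_injective _ (Subgroup.inclusion_injective hB)
  have hm : 0 < Nat.card A := Nat.card_pos
  have key : ∀ C : Subgroup G, C ≤ R → Nat.card C = Nat.card A →
      ((C.subgroupOf R : Subgroup ↥R) : Set ↥R) = ↑(Finset.univ.filter fun x : ↥R => x ^ Nat.card A = 1) := by
    intro C hC hcard
    let F := Finset.univ.filter fun x : ↥R => x ∈ C.subgroupOf R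
    have hsub : F ⊆ Finset.univ.filter fun x : ↥R => x ^ Nat.card A = 1 := by
      intro x hx
      have hx' : (x : G) ∈ C := (Finset.mem_filter.1 hx).2
      refine Finset.mem_filter.2 ⟨Finset.mem_univ _, Subtype.ext ?_⟩
      rw [Subgroup.coe_pow, ← hcard]
      haveI : Finite C := Finite.of_injective _ (Subgroup.inclusion_injective hC)
      exact congrArg Subtype.val (pow_card_eq_one' (x := (⟨x, hx'⟩ : C)))
    have hFcard : F.card = Nat.card A := by
      rw [← hcard, ← Nat.card_congr (Subgroup.subgroupOfEquivOfLe hC).toEquiv, Nat.card_eq_fintype_card,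
        Fintype.card_subtype]
    have := Finset.eq_of_subset_of_card_le hsub (by rw [hFcard]; exact IsCyclic.card_pow_eq_one_le hm)
    ext x
    rw [← this]
    simp [F, Subgroup.mem_subgroupOf]
  have e : A.subgroupOf R = B.subgroupOf R := SetLike.coe_injective ((key A hA rfl).trans (key B hB h.symm).symm)
  rw [Subgroup.subgroupOf_inj, inf_eq_left.mpr hA, inf_eq_left.mpr hB] at e
  exact e

section Group

variable {G : Type*} [Group G] [Finite G] {n : ℕ} (S : Sylow 2 G)
  (e : ↥(S : Subgroup G) ≃* QuaternionGroup (2 ^ (n + 2))) {D : Subgroup G}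

theorem derived_eq (hD : D = ⁅(S : Subgroup G), (S : Subgroup G)⁆) :
    D = Subgroup.zpowers ((e.symm (a (2 : ZMod (2 * 2 ^ (n + 2)))) : ↥(S : Subgroup G)) : G) := by
  rw [hD]
  apply le_antisymm
  · rw [Subgroup.commutator_le]
    intro x hx y hy
    obtain ⟨i, hi⟩ := Subgroup.mem_zpowers_iff.mp (commutator_mem_zpowers_two (e ⟨x, hx⟩) (e ⟨y, hy⟩))
    refine Subgroup.mem_zpowers_iff.mpr ⟨i, ?_⟩
    have h := congrArg e.symm hi
    rw [map_zpow, map_commutatorElement, e.symm_apply_apply, e.symm_apply_apply] at h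
    rw [← Subgroup.coe_zpow, h]
    rfl
  · rw [Subgroup.zpowers_le, a_two_eq_commutator, map_commutatorElement]
    exact Subgroup.commutator_mem_commutator (e.symm _).2 (e.symm _).2

theorem orderOf_a_two : orderOf (a (2 : ZMod (2 * 2 ^ (n + 2))) : QuaternionGroup (2 ^ (n + 2))) = 2 ^ (n + 2) := by
  rw [show (2 : ZMod (2 * 2 ^ (n + 2))) = ((2 : ℕ) : ZMod (2 * 2 ^ (n + 2))) by push_cast; rfl, ← a_one_pow,
    orderOf_pow_of_dvd two_ne_zero (by rw [orderOf_a_one]; exact dvd_mul_right 2 _), orderOf_a_one,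
    Nat.mul_div_cancel_left _ two_pos]

include e in
theorem card_derived (hD : D = ⁅(S : Subgroup G), (S : Subgroup G)⁆) : Nat.card D = 2 ^ (n + 2) := by
  rw [derived_eq S e hD, Nat.card_zpowers, Subgroup.orderOf_coe, MulEquiv.orderOf_eq, orderOf_a_two]

include e in
theorem isCyclic_derived (hD : D = ⁅(S : Subgroup G), (S : Subgroup G)⁆) : IsCyclic ↥D := by
  rw [derived_eq S e hD]; exact Subgroup.isCyclic_zpowers _

include e in
/-- An element of order four in the derived subgroup. -/
theorem exists_four_derived (hD : D = ⁅(S : Subgroup G), (S : Subgroup G)⁆) :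
    ∃ y ∈ D, orderOf y = 4 := by
  refine ⟨((e.symm (a (2 : ZMod (2 * 2 ^ (n + 2))))) : G) ^ (2 ^ n), ?_, ?_⟩
  · rw [derived_eq S e hD]; exact Subgroup.pow_mem _ (Subgroup.mem_zpowers _) _
  · have h : orderOf ((e.symm (a (2 : ZMod (2 * 2 ^ (n + 2))))) : G) = 2 ^ (n + 2) := by
      rw [Subgroup.orderOf_coe, MulEquiv.orderOf_eq, orderOf_a_two]
    rw [orderOf_pow_of_dvd (by positivity) (by rw [h]; exact pow_dvd_pow 2 (by omega)), h, pow_add,
      Nat.mul_div_cancel_left _ (by positivity)]
    rfl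

include e in
theorem normalizer_derived_npc (hD : D = ⁅(S : Subgroup G), (S : Subgroup G)⁆) :
    Cfsg.HasNormalPComplement 2 ↥(Subgroup.normalizer (D : Set G)) := by
  obtain ⟨y, hy, hy4⟩ := exists_four_derived S e hD
  haveI := isCyclic_derived S e hD
  refine CfsgLib.Fusion.Basic.npc_of_le ?_ (npc_normalizer_four S e (k := 2 ^ (n + 1)) (pow_succ' 2 (n + 1)) hy4)
  intro g hg
  rw [Subgroup.mem_normalizer_iff_map_conj_eq, MonoidHom.map_zpowers]
  refine eq_of_card_eq_of_le_cyclic (R := D) ?_ (Subgroup.zpowers_le.mpr hy) ?_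
  · exact Subgroup.zpowers_le.mpr ((Subgroup.mem_normalizer_iff.mp hg y).mp hy)
  · rw [Nat.card_zpowers, Nat.card_zpowers]
    exact orderOf_conj' g y

include e in
theorem mem_centralizer_derived_iff (hD : D = ⁅(S : Subgroup G), (S : Subgroup G)⁆) {s : G}
    (hs : s ∈ (S : Subgroup G)) :
    s ∈ Subgroup.centralizer (D : Set G) ↔ e ⟨s, hs⟩ ∈ cyclicPart (2 ^ (n + 2)) := by
  have h8 : 8 ≤ 2 * 2 ^ (n + 2) := by
    have := Nat.one_le_two_pow (n := n)
    rw [pow_add]; omega
  rw [← commute_two_iff (by omega) (by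
    rw [Ne, ZMod.natCast_eq_zero_iff]
    intro h
    have := Nat.le_of_dvd (by norm_num) h
    omega)]
  rw [derived_eq S e hD, Subgroup.zpowers_eq_closure, Subgroup.centralizer_closure,
    Subgroup.mem_centralizer_singleton_iff]
  constructor
  · intro h
    have h' : Commute (⟨s, hs⟩ : ↥(S : Subgroup G)) (e.symm (a (2 : ZMod (2 * 2 ^ (n + 2))))) := Subtype.ext h
    simpa using h'.map e
  · intro h
    have h' := h.map e.symm
    rw [e.symm_apply_apply] at h'
    exact congrArg Subtype.val h'.eq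

include e in
theorem derived_le_zpowers (hD : D = ⁅(S : Subgroup G), (S : Subgroup G)⁆) {y : G}
    (hy : y ∈ Subgroup.centralizer (D : Set G)) (hd : Nat.card D ∣ orderOf y) : D ≤ Subgroup.zpowers y := by
  set w := y ^ (orderOf y / Nat.card D)
  have hpos := orderOf_pos y
  have hw : orderOf w = Nat.card D := by
    rw [orderOf_pow_of_dvd (Nat.div_ne_zero_iff.mpr ⟨Nat.card_pos.ne', Nat.le_of_dvd hpos hd⟩) (Nat.div_dvd_of_dvd hd),
      Nat.div_div_self hd hpos.ne']
  obtain ⟨y4, hy4D, hy4⟩ := exists_four_derived S e hD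
  have hcard := card_derived S e hD
  have hwC : w ∈ Subgroup.centralizer (D : Set G) := Subgroup.pow_mem _ hy _
  have hwN : Subgroup.zpowers w ≤ Subgroup.normalizer (D : Set G) :=
    Subgroup.zpowers_le.mpr (Subgroup.centralizer_le_normalizer _ hwC)
  have hp : IsPGroup 2 ↥(Subgroup.zpowers w ⊔ D) := IsPGroup.to_sup_of_normal_right'
    (IsPGroup.of_card (n := n + 2) (by rw [Nat.card_zpowers, hw, hcard])) (IsPGroup.of_card hcard) hwN
  obtain ⟨g, hg⟩ := exists_conj_mem_sylow S hp
  let f : ↥(Subgroup.zpowers w ⊔ D) →* QuaternionGroup (2 ^ (n + 2)) := MonoidHom.mk'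
    (fun r => e ⟨g * (r : G) * g⁻¹, hg _ r.2⟩) (fun r t => by
      rw [← map_mul]
      congr 1
      apply Subtype.ext
      simp [mul_assoc])
  have hf : Function.Injective f := fun r t h => by
    have := congrArg Subtype.val (e.injective h)
    exact Subtype.ext (mul_left_cancel (mul_right_cancel this))
  have hcom : ∀ r ∈ Subgroup.zpowers w ⊔ D, Commute r y4 := by
    intro r hr
    have hle : Subgroup.zpowers w ⊔ D ≤ Subgroup.centralizer ({y4} : Set G) := by
      haveI := isCyclic_derived S e hD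
      letI := IsCyclic.commGroup (α := ↥D)
      refine sup_le (Subgroup.zpowers_le.mpr ?_) fun d hd => ?_ <;> rw [Subgroup.mem_centralizer_singleton_iff]
      · exact (Subgroup.mem_centralizer_iff.mp hwC y4 hy4D).symm
      · exact congrArg Subtype.val (mul_comm (⟨d, hd⟩ : ↥D) ⟨y4, hy4D⟩)
    exact Subgroup.mem_centralizer_singleton_iff.mp (hle hr)
  haveI : IsCyclic ↥f.range := by
    refine isCyclic_of_commute_order_four (k := 2 ^ (n + 1)) (pow_succ' 2 (n + 1)) (y := f ⟨y4, Subgroup.mem_sup_right hy4D⟩)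
      (by rw [orderOf_injective f hf, Subgroup.orderOf_mk, hy4]) ?_
    rintro _ ⟨r, rfl⟩
    exact Commute.map (show Commute r ⟨y4, _⟩ from Subtype.ext (hcom r r.2).eq) f
  haveI : IsCyclic ↥(Subgroup.zpowers w ⊔ D) := isCyclic_of_injective f.rangeRestrict
    (fun a b h => hf (congrArg Subtype.val h))
  rw [eq_of_card_eq_of_le_cyclic (A := D) (B := Subgroup.zpowers w) (R := Subgroup.zpowers w ⊔ D) le_sup_right le_sup_left
    (by rw [Nat.card_zpowers, hw])]
  exact Subgroup.zpowers_le.mpr (Subgroup.pow_mem _ (Subgroup.mem_zpowers y) _)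

end Group

end CfsgLib.BrauerSuzuki
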