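import Cfsg.Agent.Lib.BrauerSuzuki.Klein
import Cfsg.Agent.Lib.Fusion.Abelian

/-!
# Homocyclic abelian Sylow 2-subgroups of rank two: the normalizer

If the normalizer does not centralize such a Sylow 2-subgroup, some element of it acts on it as a
fixed-point-free automorphism of order three, and the three powers give all the fusion.
-/

set_option autoImplicit false

namespace CfsgLib.BrauerSuzuki.Homocyclic

open Cfsg CfsgLib.Blocks
open scoped Classical

/-- An automorphism of odd order of an abelian 2-group fixing all elements of order at most two is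
trivial. -/
theorem mulAut_eq_one {A : Type*} [CommGroup A] [Finite A] (h2 : IsPGroup 2 A) {α : MulAut A}
    (ho : Odd (orderOf α)) (hfix : ∀ x : A, x ^ 2 = 1 → α x = x) : α = 1 := by
  suffices h : ∀ k, ∀ x : A, x ^ (2 ^ k) = 1 → α x = x by
    ext x
    obtain ⟨k, hk⟩ := h2 x
    exact h k x hk
  intro k
  induction k with
  | zero => intro x hx; rw [pow_zero, pow_one] at hx; rw [hx, map_one]
  | succ k ih =>
    intro x hx
    have h1 : α (x ^ 2) = x ^ 2 := ih _ (by rw [← pow_mul, mul_comm, ← pow_succ]; exact hx)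
    set z := x⁻¹ * α x with hz
    have hz2 : z ^ 2 = 1 := by rw [hz, mul_pow, inv_pow, ← map_pow, h1, inv_mul_cancel]
    have hαx : α x = x * z := by rw [hz, mul_inv_cancel_left]
    have hit : ∀ j : ℕ, (α ^ j) x = x * z ^ j := by
      intro j
      induction j with
      | zero => simp
      | succ j ihj =>
        rw [pow_succ', MulAut.mul_apply, ihj, map_mul, map_pow, hfix z hz2, hαx, pow_succ']
        exact mul_assoc _ _ _
    have h3 := hit (orderOf α)
    rw [pow_orderOf_eq_one, MulAut.one_apply, eq_comm, mul_eq_left] at h3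
    obtain ⟨r, hr⟩ := ho
    rw [hr, pow_succ, pow_mul, hz2, one_pow, one_mul] at h3
    rw [hαx, h3, mul_one]

variable {G : Type*} [Group G] {P : Sylow 2 G}

/-- `n` acts on `P` as a fixed-point-free automorphism of order three which gives all the fusion. -/
structure Rot (P : Sylow 2 G) (n : G) : Prop where
  comm : ∀ x ∈ (P : Subgroup G), ∀ y ∈ (P : Subgroup G), x * y = y * x
  mem : n ∈ Subgroup.normalizer ((P : Subgroup G) : Set G)
  fpf : ∀ x ∈ (P : Subgroup G), n * x * n⁻¹ = x → x = 1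
  cube : ∀ x ∈ (P : Subgroup G), n * (n * (n * x * n⁻¹) * n⁻¹) * n⁻¹ = x
  trans : ∀ g ∈ Subgroup.normalizer ((P : Subgroup G) : Set G),
    (∀ x ∈ (P : Subgroup G), g * x * g⁻¹ = x) ∨ (∀ x ∈ (P : Subgroup G), g * x * g⁻¹ = n * x * n⁻¹) ∨
      ∀ x ∈ (P : Subgroup G), g * x * g⁻¹ = n * (n * x * n⁻¹) * n⁻¹

theorem central_or_rot [Finite G] (hc : ∀ x ∈ (P : Subgroup G), ∀ y ∈ (P : Subgroup G), x * y = y * x)
    (hI : Nat.card {x : ↥(P : Subgroup G) // x ^ 2 = 1 ∧ x ≠ 1} ≤ 3) :
    Subgroup.normalizer ((P : Subgroup G) : Set G) ≤ Subgroup.centralizer ((P : Subgroup G) : Set G) ∨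
      ∃ n : G, Rot P n := by
  haveI := Fact.mk Nat.prime_two
  letI : CommGroup ↥(P : Subgroup G) :=
    { (inferInstance : Group ↥(P : Subgroup G)) with
      mul_comm := fun a b => Subtype.ext (hc a a.2 b b.2) }
  set N := Subgroup.normalizer ((P : Subgroup G) : Set G) with hN
  let ψ : ↥N →* MulAut ↥(P : Subgroup G) := (P : Subgroup G).normalizerMonoidHom
  have hψ : ∀ (g : ↥N) (x : ↥(P : Subgroup G)), ((ψ g x : ↥(P : Subgroup G)) : G) = (g : G) * x * (g : G)⁻¹ :=
    fun g x => rfl
  have hodd : ∀ α ∈ ψ.range, Odd (orderOf α) := by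
    rintro α ⟨g, rfl⟩
    obtain ⟨z, y, -, hzy, -, hreg, ⟨k, hk⟩, -, -⟩ := exists_isPPart (G := ↥N) Nat.prime_two g
    have hzP : (z : G) ∈ (P : Subgroup G) := by
      let Q : Sylow 2 ↥N := P.subtype (Subgroup.le_normalizer)
      haveI : (Q : Subgroup ↥N).Normal := (inferInstance : ((P : Subgroup G).subgroupOf N).Normal)
      obtain ⟨w, hw⟩ := exists_conj_mem_sylow Q (R := Subgroup.zpowers z)
        (IsPGroup.of_card (n := k) (by rw [Nat.card_zpowers, hk]))
      have h := (inferInstance : (Q : Subgroup ↥N).Normal).conj_mem _ (hw z (Subgroup.mem_zpowers z)) w⁻¹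
      rw [show w⁻¹ * (w * z * w⁻¹) * w⁻¹⁻¹ = z by group] at h
      exact Subgroup.mem_subgroupOf.mp h
    have hz1 : ψ z = 1 := by
      ext x
      rw [hψ, MulAut.one_apply, hc _ hzP _ x.2, mul_inv_cancel_right]
    rw [← hzy, map_mul, hz1, one_mul, Nat.odd_iff]
    have := (orderOf_map_dvd ψ y)
    by_contra hne
    exact hreg (dvd_trans (Nat.dvd_of_mod_eq_zero (by omega)) this)
  have hfix : ∀ α ∈ ψ.range, ∀ x : ↥(P : Subgroup G), x ^ 2 = 1 → x ≠ 1 → α x = x → α = 1 := by
    intro α hα a ha2 ha1 hαa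
    refine mulAut_eq_one P.2 (hodd α hα) fun b hb2 => ?_
    by_cases hb1 : b = 1
    · rw [hb1, map_one]
    by_contra hne
    -- the orbit of `b` avoids `a`
    let S := {x : ↥(P : Subgroup G) // x ^ 2 = 1 ∧ x ≠ 1}
    let act : MulAut ↥(P : Subgroup G) → S → S := fun β s => ⟨β s.1, by
      rw [← map_pow, s.2.1, map_one]; exact ⟨rfl, fun h => s.2.2 ((map_eq_one_iff β β.injective).mp h)⟩⟩
    let f : Fin 4 → S := ![⟨a, ha2, ha1⟩, ⟨b, hb2, hb1⟩, act α ⟨b, hb2, hb1⟩, act (α * α) ⟨b, hb2, hb1⟩]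
    have hab : b ≠ a := fun h => hne (by rw [h, hαa])
    have hαab : α b ≠ a := fun h => hab (α.injective (h.trans hαa.symm))
    have hααab : α (α b) ≠ a := fun h => hαab (α.injective (h.trans hαa.symm))
    have hαα : α (α b) ≠ b := by
      intro h
      have h2 : ∀ j : ℕ, (α ^ (2 * j)) b = b := by
        intro j
        induction j with
        | zero => simp
        | succ j ih => rw [mul_add, mul_one, pow_add, MulAut.mul_apply, sq, MulAut.mul_apply, h, ih]
      obtain ⟨r, hr⟩ := hodd α hα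
      have h3 : (α ^ orderOf α) b = b := by rw [pow_orderOf_eq_one, MulAut.one_apply]
      rw [hr, pow_succ', MulAut.mul_apply, h2] at h3
      exact hne h3
    have hinj : Function.Injective f := by
      intro i j hij
      have h := congrArg Subtype.val hij
      fin_cases i <;> fin_cases j <;>
        first
          | rfl
          | exact absurd h hab | exact absurd h (Ne.symm hab)
          | exact absurd h hαab | exact absurd h (Ne.symm hαab)
          | exact absurd h hααab | exact absurd h (Ne.symm hααab)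
          | exact absurd h hαα | exact absurd h (Ne.symm hαα)
          | exact absurd h hne | exact absurd h (Ne.symm hne)
          | exact absurd (α.injective h) hne | exact absurd (α.injective h) (Ne.symm hne)
    have := Nat.card_le_card_of_injective f hinj
    rw [Nat.card_fin] at this
    exact absurd (this.trans hI) (by norm_num)
  by_cases hall : ∀ g : ↥N, ψ g = 1
  · left
    intro g hg
    refine Subgroup.mem_centralizer_iff.mpr fun x hx => ?_
    have h := congrArg (fun α : MulAut ↥(P : Subgroup G) => ((α ⟨x, hx⟩ : ↥(P : Subgroup G)) : G)) (hall ⟨g, hg⟩)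
    simp only [MulAut.one_apply] at h
    rw [hψ] at h
    exact (mul_inv_eq_iff_eq_mul.mp h).symm
  right
  obtain ⟨g, hg⟩ := not_forall.mp hall
  set α := ψ g with hα
  have hαr : α ∈ ψ.range := ⟨g, rfl⟩
  obtain ⟨a, ha2, ha1, haα⟩ : ∃ a : ↥(P : Subgroup G), a ^ 2 = 1 ∧ a ≠ 1 ∧ α a ≠ a := by
    by_contra hno
    push Not at hno
    exact hg (mulAut_eq_one P.2 (hodd α hαr) fun x hx => by
      by_cases hx1 : x = 1
      · rw [hx1, map_one]
      · exact hno x hx hx1)
  have hααa : α (α a) ≠ a := by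
    intro h
    have h2 : ∀ j : ℕ, (α ^ (2 * j)) a = a := by
      intro j
      induction j with
      | zero => simp
      | succ j ih => rw [mul_add, mul_one, pow_add, MulAut.mul_apply, sq, MulAut.mul_apply, h, ih]
    obtain ⟨r, hr⟩ := hodd α hαr
    have h3 : (α ^ orderOf α) a = a := by rw [pow_orderOf_eq_one, MulAut.one_apply]
    rw [hr, pow_succ', MulAut.mul_apply, h2] at h3
    exact haα h3
  have hex : ∀ b : ↥(P : Subgroup G), b ^ 2 = 1 → b ≠ 1 → b = a ∨ b = α a ∨ b = α (α a) := by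
    intro b hb2 hb1
    by_contra hno
    push Not at hno
    let act : MulAut ↥(P : Subgroup G) → {x : ↥(P : Subgroup G) // x ^ 2 = 1 ∧ x ≠ 1} := fun β => ⟨β a, by
      rw [← map_pow, ha2, map_one]; exact ⟨rfl, fun h => ha1 ((map_eq_one_iff β β.injective).mp h)⟩⟩
    let f : Fin 4 → {x : ↥(P : Subgroup G) // x ^ 2 = 1 ∧ x ≠ 1} :=
      ![⟨b, hb2, hb1⟩, ⟨a, ha2, ha1⟩, act α, act (α * α)]
    have hinj : Function.Injective f := by
      intro i j hij
      have h := congrArg Subtype.val hij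
      fin_cases i <;> fin_cases j <;>
        first
          | rfl
          | exact absurd h hno.1 | exact absurd h (Ne.symm hno.1)
          | exact absurd h hno.2.1 | exact absurd h (Ne.symm hno.2.1)
          | exact absurd h hno.2.2 | exact absurd h (Ne.symm hno.2.2)
          | exact absurd h haα | exact absurd h (Ne.symm haα)
          | exact absurd h hααa | exact absurd h (Ne.symm hααa)
          | exact absurd (α.injective h) haα | exact absurd (α.injective h) (Ne.symm haα)
    have := Nat.card_le_card_of_injective f hinj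
    rw [Nat.card_fin] at this
    omega
  have hcube : α * (α * α) = 1 := by
    refine hfix _ (mul_mem hαr (mul_mem hαr hαr)) a ha2 ha1 ?_
    have h2 : (α (α (α a))) ^ 2 = 1 := by rw [← map_pow, ← map_pow, ← map_pow, ha2, map_one, map_one, map_one]
    have h1 : α (α (α a)) ≠ 1 := fun h => ha1
      ((map_eq_one_iff α α.injective).mp ((map_eq_one_iff α α.injective).mp ((map_eq_one_iff α α.injective).mp h)))
    rcases hex _ h2 h1 with h | h | h
    · exact h
    · exact absurd (α.injective h) hααa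
    · exact absurd (α.injective (α.injective h)) haα
  have key : ∀ β ∈ ψ.range, β = 1 ∨ β = α ∨ β = α * α := by
    intro β hβ
    have hb : (β a) ^ 2 = 1 ∧ β a ≠ 1 :=
      ⟨by rw [← map_pow, ha2, map_one], fun h => ha1 ((map_eq_one_iff β β.injective).mp h)⟩
    rcases hex _ hb.1 hb.2 with h | h | h
    · exact Or.inl (hfix β hβ a ha2 ha1 h)
    · refine Or.inr (Or.inl ?_)
      have := hfix (α⁻¹ * β) (mul_mem (inv_mem hαr) hβ) a ha2 ha1
        (by rw [MulAut.mul_apply, h, MulAut.inv_apply, MulEquiv.symm_apply_apply])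
      rwa [inv_mul_eq_one, eq_comm] at this
    · refine Or.inr (Or.inr ?_)
      have := hfix ((α * α)⁻¹ * β) (mul_mem (inv_mem (mul_mem hαr hαr)) hβ) a ha2 ha1
        (by show (α * α).symm (β a) = a; rw [h]; exact MulEquiv.symm_apply_apply (α * α) a)
      rwa [inv_mul_eq_one, eq_comm] at this
  refine ⟨g, hc, g.2, fun x hx h => ?_, fun x hx => ?_, fun k hk => ?_⟩
  · by_contra hx1
    set y : ↥(P : Subgroup G) := ⟨x, hx⟩
    have hy1 : y ≠ 1 := fun h0 => hx1 (congrArg Subtype.val h0)
    have hαy : α y = y := Subtype.ext h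
    obtain ⟨j, hj⟩ := IsPGroup.iff_orderOf.mp P.2 y
    have h2 : 2 ∣ orderOf y := by
      rw [hj]
      refine dvd_pow_self 2 fun h0 => hy1 (orderOf_eq_one_iff.mp (by rw [hj, h0, pow_zero]))
    have ho := orderOf_half h2
    refine hg (hfix α hαr (y ^ (orderOf y / 2)) ?_ ?_ (by rw [map_pow, hαy]))
    · have e := pow_orderOf_eq_one (y ^ (orderOf y / 2)); rwa [ho] at e
    · intro h0; rw [h0, orderOf_one] at ho; omega
  · exact congrArg (fun β : MulAut ↥(P : Subgroup G) => ((β ⟨x, hx⟩ : ↥(P : Subgroup G)) : G)) hcube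
  · rcases key (ψ ⟨k, hk⟩) ⟨⟨k, hk⟩, rfl⟩ with h | h | h
    · exact Or.inl fun x hx => congrArg (fun β : MulAut ↥(P : Subgroup G) => ((β ⟨x, hx⟩ : ↥(P : Subgroup G)) : G)) h
    · exact Or.inr (Or.inl fun x hx => congrArg (fun β : MulAut ↥(P : Subgroup G) => ((β ⟨x, hx⟩ : ↥(P : Subgroup G)) : G)) h)
    · exact Or.inr (Or.inr fun x hx => congrArg (fun β : MulAut ↥(P : Subgroup G) => ((β ⟨x, hx⟩ : ↥(P : Subgroup G)) : G)) h)

namespace Rot

variable {n : G} (h : Rot P n)
include h

theorem conj_mem {x : G} (hx : x ∈ (P : Subgroup G)) : n * x * n⁻¹ ∈ (P : Subgroup G) :=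
  (Subgroup.mem_normalizer_iff.mp h.mem x).mp hx

theorem conj_ne {x : G} (hx : x ∈ (P : Subgroup G)) (hx1 : x ≠ 1) :
    n * x * n⁻¹ ≠ x ∧ n * (n * x * n⁻¹) * n⁻¹ ≠ x ∧ n * (n * x * n⁻¹) * n⁻¹ ≠ n * x * n⁻¹ := by
  have h1 : n * x * n⁻¹ ≠ x := fun e => hx1 (h.fpf x hx e)
  refine ⟨h1, fun e => h1 ?_, fun e => h1 (mul_left_cancel (mul_right_cancel e))⟩
  have := h.cube x hx
  rwa [e] at this

theorem fus [Finite G] {g x : G} (hx : x ∈ (P : Subgroup G)) (hgx : g * x * g⁻¹ ∈ (P : Subgroup G)) :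
    g * x * g⁻¹ = x ∨ g * x * g⁻¹ = n * x * n⁻¹ ∨ g * x * g⁻¹ = n * (n * x * n⁻¹) * n⁻¹ := by
  haveI := Fact.mk Nat.prime_two
  haveI : IsMulCommutative ↥(P : Subgroup G) := ⟨⟨fun a b => Subtype.ext (h.comm a a.2 b b.2)⟩⟩
  obtain ⟨k, hk, e⟩ := Sylow.conj_eq_normalizer_conj_of_mem P x g⁻¹ hx (by rwa [inv_inv])
  rw [inv_inv] at e
  rw [e]
  rcases h.trans k⁻¹ (inv_mem hk) with h' | h' | h'
  · left; simpa using h' x hx
  · right; left; simpa using h' x hx
  · right; right; simpa using h' x hx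

theorem sylow_le_centralizer {x : G} (hx : x ∈ (P : Subgroup G)) :
    (P : Subgroup G) ≤ Subgroup.centralizer ({x} : Set G) := fun y hy =>
  Subgroup.mem_centralizer_singleton_iff.mpr (h.comm y hy x hx)

theorem npc_centralizer [Finite G] {x : G} (hx : x ∈ (P : Subgroup G)) (hx1 : x ≠ 1) :
    Cfsg.HasNormalPComplement 2 ↥(Subgroup.centralizer ({x} : Set G)) := by
  haveI := Fact.mk Nat.prime_two
  refine CfsgLib.Fusion.Abelian.npc_of_normalizer_le_centralizer (P.subtype (h.sylow_le_centralizer hx))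
    fun g hg => Subgroup.mem_centralizer_iff.mpr fun y hy => Subtype.ext ?_
  have hgN : (g : G) ∈ Subgroup.normalizer ((P : Subgroup G) : Set G) := by
    refine Subgroup.mem_normalizer_iff.mpr fun u => ⟨fun hu => ?_, fun hu => ?_⟩
    · have := (Subgroup.mem_normalizer_iff.mp hg ⟨u, h.sylow_le_centralizer hx hu⟩).mp
        (Subgroup.mem_subgroupOf.mpr hu)
      exact Subgroup.mem_subgroupOf.mp this
    · have hu' := h.sylow_le_centralizer hx hu
      have huC : u ∈ Subgroup.centralizer ({x} : Set G) := by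
        have h2 := mul_mem (mul_mem (inv_mem g.2) hu') g.2
        rwa [show (g : G)⁻¹ * ((g : G) * u * (g : G)⁻¹) * g = u by group] at h2
      have := (Subgroup.mem_normalizer_iff.mp hg ⟨u, huC⟩).mpr (Subgroup.mem_subgroupOf.mpr hu)
      exact Subgroup.mem_subgroupOf.mp this
  have hgx : (g : G) * x * (g : G)⁻¹ = x :=
    mul_inv_eq_iff_eq_mul.mpr (Subgroup.mem_centralizer_singleton_iff.mp g.2)
  have hy' : (y : G) ∈ (P : Subgroup G) := Subgroup.mem_subgroupOf.mp hy
  show (y : G) * (g : G) = (g : G) * (y : G)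
  rcases h.trans g hgN with h' | h' | h'
  · exact (mul_inv_eq_iff_eq_mul.mp (h' y hy')).symm
  · exact absurd ((h' x hx).symm.trans hgx) (h.conj_ne hx hx1).1
  · exact absurd ((h' x hx).symm.trans hgx) (h.conj_ne hx hx1).2.1

end Rot

end CfsgLib.BrauerSuzuki.Homocyclic
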