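import Cfsg.Agent.Lib.BrauerSuzuki.HomocyclicLocal
import Cfsg.Agent.Lib.Blocks.Section
import Cfsg.Agent.Lib.Blocks.NormalP
import Cfsg.Agent.S0936

/-!
# Functions of the two-part for a homocyclic Sylow 2-subgroup
-/

set_option autoImplicit false

namespace CfsgLib.BrauerSuzuki.Homocyclic

open Cfsg CfsgLib.Blocks
open scoped Classical ComplexConjugate

variable {G : Type*} [Group G] [Fintype G] {P : Sylow 2 G}

/-- A two-part of `g`. -/
noncomputable def twoPart (g : G) : G := (exists_isPPart (G := G) Nat.prime_two g).choose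

theorem twoPart_spec (g : G) : IsPPart 2 g (twoPart g) :=
  (exists_isPPart (G := G) Nat.prime_two g).choose_spec.choose_spec.1

theorem twoPart_pow (g : G) : ∃ k, orderOf (twoPart g) = 2 ^ k :=
  (exists_isPPart (G := G) Nat.prime_two g).choose_spec.choose_spec.2.2.2.2.1

theorem twoPart_eq {g z : G} (h : IsPPart 2 g z) : twoPart g = z :=
  isPPart_unique Nat.prime_two (twoPart_spec g) h

theorem twoPart_mul {z y : G} (hzy : Commute z y) {k : ℕ} (hz : orderOf z = 2 ^ k) (hy : ¬ 2 ∣ orderOf y) :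
    twoPart (z * y) = z := twoPart_eq (isPPart_mul hzy hz hy)

theorem twoPart_conj (u g : G) : twoPart (u * g * u⁻¹) = u * twoPart g * u⁻¹ :=
  twoPart_eq (isPPart_conj (twoPart_spec g) u)

/-- Invariance under fusion in `P`. -/
def FInv (P : Sylow 2 G) (f : G → ℂ) : Prop :=
  ∀ g x : G, x ∈ (P : Subgroup G) → g * x * g⁻¹ ∈ (P : Subgroup G) → f (g * x * g⁻¹) = f x

theorem exists_conj_twoPart (P : Sylow 2 G) (g : G) :
    ∃ u : G, u * twoPart g * u⁻¹ ∈ (P : Subgroup G) := by
  haveI := Fact.mk Nat.prime_two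
  obtain ⟨k, hk⟩ := twoPart_pow g
  obtain ⟨u, hu⟩ := exists_conj_mem_sylow P (R := Subgroup.zpowers (twoPart g))
    (IsPGroup.of_card (n := k) (by rw [Nat.card_zpowers, hk]))
  exact ⟨u, hu _ (Subgroup.mem_zpowers _)⟩

/-- `f` of a conjugate in `P` of the two-part. -/
noncomputable def sFun (P : Sylow 2 G) (f : G → ℂ) (g : G) : ℂ :=
  f ((exists_conj_twoPart P g).choose * twoPart g * (exists_conj_twoPart P g).choose⁻¹)

theorem sFun_eq {f : G → ℂ} (hf : FInv P f) {g u : G} (hu : u * twoPart g * u⁻¹ ∈ (P : Subgroup G)) :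
    sFun P f g = f (u * twoPart g * u⁻¹) := by
  unfold sFun
  set w := (exists_conj_twoPart P g).choose
  have hw := (exists_conj_twoPart P g).choose_spec
  rw [← hf (w * u⁻¹) _ hu (by rwa [show w * u⁻¹ * (u * twoPart g * u⁻¹) * (w * u⁻¹)⁻¹ = w * twoPart g * w⁻¹ by group]),
    show w * u⁻¹ * (u * twoPart g * u⁻¹) * (w * u⁻¹)⁻¹ = w * twoPart g * w⁻¹ by group]

theorem sFun_isClassFunction {f : G → ℂ} (hf : FInv P f) : IsClassFunction G (sFun P f) := fun x g => by
  obtain ⟨u, hu⟩ := exists_conj_twoPart P x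
  have e : u * g⁻¹ * twoPart (g * x * g⁻¹) * (u * g⁻¹)⁻¹ = u * twoPart x * u⁻¹ := by
    rw [twoPart_conj]; group
  rw [sFun_eq hf hu, sFun_eq hf (u := u * g⁻¹) (by rwa [e]), e]

theorem sFun_coe {f : G → ℂ} (hf : FInv P f) (x : ↥(P : Subgroup G)) : sFun P f (x : G) = f x := by
  obtain ⟨k, hk⟩ := IsPGroup.iff_orderOf.mp P.2 x
  have e : twoPart (x : G) = x := by
    have := twoPart_mul (Commute.one_right (x : G)) (by rw [Subgroup.orderOf_coe, hk]) (by rw [orderOf_one]; norm_num)
    rwa [mul_one] at this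
  rw [sFun_eq hf (u := 1) (by rw [one_mul, inv_one, mul_one, e]; exact x.2), one_mul, inv_one, mul_one, e]

theorem sFun_of_odd {f : G → ℂ} (hf : FInv P f) {g : G} (hg : ¬ 2 ∣ orderOf g) : sFun P f g = f 1 := by
  have e : twoPart g = 1 := by
    have := twoPart_mul (Commute.one_left g) (k := 0) (by rw [orderOf_one, pow_zero]) hg
    rwa [one_mul] at this
  rw [sFun_eq hf (u := 1) (by rw [e, one_mul, inv_one, mul_one]; exact one_mem _), e, one_mul, inv_one, mul_one]

theorem gc_sFun {f : G → ℂ} (hf : FInv P f)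
    (hg : IsGeneralizedCharacter ↥(P : Subgroup G) fun x => f x) : IsGeneralizedCharacter G (sFun P f) := by
  haveI := Fact.mk Nat.prime_two
  refine CfsgLib.CharDeep.Brauer.isGeneralizedCharacter_of_elementary (sFun_isClassFunction hf)
    fun p hp E hE => ?_
  haveI := isNilpotent_of_isElementary hp hE
  obtain ⟨T⟩ : Nonempty (Sylow 2 ↥E) := inferInstance
  obtain ⟨π, hπ, hker⟩ := exists_retraction npc_of_isNilpotent T
  haveI hTn : (T : Subgroup ↥E).Normal := by
    have := (Group.isNilpotent_of_finite_tfae (G := ↥E)).out 0 3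
    exact this.mp inferInstance 2 inferInstance T
  obtain ⟨u, hu⟩ := exists_conj_mem_sylow P (T.2.map E.subtype)
  let φ : ↥(T : Subgroup ↥E) →* ↥(P : Subgroup G) := MonoidHom.mk'
    (fun q => ⟨u * ((q : ↥E) : G) * u⁻¹, hu _ ⟨_, q.2, rfl⟩⟩) (fun q r => Subtype.ext (by simp [mul_assoc]))
  have heq : (fun x : ↥E => sFun P f (x : G)) = (fun x : ↥(P : Subgroup G) => f x) ∘ (φ.comp π) := by
    funext x
    obtain ⟨z, y, -, hzy, hcomm, hreg, ⟨k, hk⟩, -, -⟩ := exists_isPPart (G := ↥E) Nat.prime_two x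
    have hzT : z ∈ (T : Subgroup ↥E) := by
      obtain ⟨w, hw⟩ := exists_conj_mem_sylow T (R := Subgroup.zpowers z)
        (IsPGroup.of_card (n := k) (by rw [Nat.card_zpowers, hk]))
      have := hTn.conj_mem _ (hw z (Subgroup.mem_zpowers z)) w⁻¹
      rwa [show w⁻¹ * (w * z * w⁻¹) * w⁻¹⁻¹ = z by group] at this
    have hy1 : π y = 1 := by
      obtain ⟨j, hj⟩ := IsPGroup.iff_orderOf.mp T.2 (π y)
      by_contra hne
      have hj0 : j ≠ 0 := fun h0 => hne (orderOf_eq_one_iff.mp (by rw [hj, h0, pow_zero]))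
      exact hreg (((dvd_pow_self 2 hj0).trans (dvd_of_eq hj.symm)).trans (orderOf_map_dvd π y))
    have hπx : ((π x : ↥(T : Subgroup ↥E)) : ↥E) = z := by
      rw [← hzy, map_mul, hy1, mul_one]
      exact congrArg Subtype.val (hπ ⟨z, hzT⟩)
    have h2 : twoPart (x : G) = (z : G) := by
      rw [← hzy, Subgroup.coe_mul]
      exact twoPart_mul (congrArg Subtype.val hcomm.eq) (by rw [Subgroup.orderOf_coe, hk]) (by rwa [Subgroup.orderOf_coe])
    have hm : u * (z : G) * u⁻¹ ∈ (P : Subgroup G) := hu _ ⟨z, hzT, rfl⟩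
    rw [sFun_eq hf (u := u) (by rw [h2]; exact hm), h2]
    show f (u * (z : G) * u⁻¹) = f (u * (((π x : ↥(T : Subgroup ↥E)) : ↥E) : G) * u⁻¹)
    rw [hπx]
  rw [heq]
  exact gc_comp hg _

/-- The sum over a fibre of the two-part map. -/
theorem sum_fiber (F : G → ℂ) {z : G} {k : ℕ} (hz : orderOf z = 2 ^ k) :
    ∑ u : G with twoPart u = z, F u
      = ∑ s : Subgroup.centralizer ({z} : Set G) with IsPRegular 2 s, F (z * (s : G)) := by
  symm
  refine Finset.sum_bij (fun s _ => z * (s : G)) ?_ ?_ ?_ fun s _ => rfl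
  · intro s hs
    refine Finset.mem_filter.2 ⟨Finset.mem_univ _, twoPart_mul
      (Subgroup.mem_centralizer_singleton_iff.1 s.2).symm hz ?_⟩
    rw [Subgroup.orderOf_coe]; exact (Finset.mem_filter.1 hs).2
  · exact fun s _ s' _ h => Subtype.ext (mul_left_cancel h)
  · intro u hu
    obtain ⟨y, he, hc, -, hy⟩ := twoPart_spec u
    rw [(Finset.mem_filter.1 hu).2] at he hc
    refine ⟨⟨y, Subgroup.mem_centralizer_singleton_iff.2 hc.eq.symm⟩, Finset.mem_filter.2 ⟨Finset.mem_univ _, ?_⟩, he⟩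
    show ¬ 2 ∣ orderOf _
    rwa [← Subgroup.orderOf_coe]

/-- The number of 2-regular elements of the centralizer of `z`. -/
noncomputable def regCard (z : G) : ℕ :=
  (Finset.univ.filter fun s : Subgroup.centralizer ({z} : Set G) => IsPRegular 2 s).card

theorem card_filter_conj (x s : G) :
    (Finset.univ.filter fun g : G => g * x * g⁻¹ = s).card
      = if IsConj x s then Nat.card (Subgroup.centralizer ({s} : Set G)) else 0 := by
  split_ifs with hc
  · obtain ⟨w, hw⟩ := isConj_iff.1 hc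
    rw [Nat.card_eq_fintype_card, Fintype.card_subtype]
    refine Finset.card_bij' (fun v _ => v * w⁻¹) (fun v _ => v * w) ?_ ?_ ?_ ?_
    · intro v hv
      simp only [Finset.mem_filter, Finset.mem_univ, true_and, Subgroup.mem_centralizer_singleton_iff] at hv ⊢
      refine mul_inv_eq_iff_eq_mul.1 ?_
      rw [← hw]
      calc v * w⁻¹ * (w * x * w⁻¹) * (v * w⁻¹)⁻¹ = v * x * v⁻¹ := by group
        _ = w * x * w⁻¹ := hv.trans hw.symm
    · intro v hv
      simp only [Finset.mem_filter, Finset.mem_univ, true_and, Subgroup.mem_centralizer_singleton_iff] at hv ⊢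
      calc v * w * x * (v * w)⁻¹ = v * (w * x * w⁻¹) * v⁻¹ := by group
        _ = s := by rw [hw, hv, mul_inv_cancel_right]
    · intro v _; simp
    · intro v _; simp
  · rw [Finset.card_eq_zero, Finset.filter_eq_empty_iff]
    exact fun g _ hg => hc (isConj_iff.2 ⟨g, hg⟩)

section Rot

variable {n : G} (h : Rot P n)
include h

theorem regCard_mul {z : G} (hz : ∃ k, orderOf z = 2 ^ k) (hz1 : z ≠ 1) :
    (regCard z : ℂ) * Nat.card (P : Subgroup G) = Nat.card (Subgroup.centralizer ({z} : Set G)) := by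
  haveI := Fact.mk Nat.prime_two
  obtain ⟨k, hk⟩ := hz
  obtain ⟨u, hu⟩ := exists_conj_mem_sylow P (R := Subgroup.zpowers z)
    (IsPGroup.of_card (n := k) (by rw [Nat.card_zpowers, hk]))
  have hx := hu z (Subgroup.mem_zpowers z)
  set x := u * z * u⁻¹ with hxd
  have hx1 : x ≠ 1 := fun e => hz1 (conj_eq_one_iff.mp e)
  let e : ↥(Subgroup.centralizer ({z} : Set G)) ≃ ↥(Subgroup.centralizer ({x} : Set G)) :=
    (MulAut.conj u).toEquiv.subtypeEquiv fun c => by
      rw [Subgroup.mem_centralizer_singleton_iff, Subgroup.mem_centralizer_singleton_iff]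
      show c * z = z * c ↔ u * c * u⁻¹ * x = x * (u * c * u⁻¹)
      rw [hxd]
      constructor
      · intro e; calc u * c * u⁻¹ * (u * z * u⁻¹) = u * (c * z) * u⁻¹ := by group
          _ = u * (z * c) * u⁻¹ := by rw [e]
          _ = _ := by group
      · intro e
        refine mul_left_cancel (a := u) (mul_right_cancel (b := u⁻¹) ?_)
        calc u * (c * z) * u⁻¹ = u * c * u⁻¹ * (u * z * u⁻¹) := by group
          _ = _ := e
          _ = _ := by group
  have hreg : regCard z = regCard x := by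
    unfold regCard
    refine Finset.card_equiv e fun s => ?_
    rw [Finset.mem_filter, Finset.mem_filter]
    refine and_congr (by simp) ?_
    show ¬ 2 ∣ orderOf s ↔ ¬ 2 ∣ orderOf (e s)
    rw [← Subgroup.orderOf_coe s, ← Subgroup.orderOf_coe (e s),
      show ((e s : G)) = u * (s : G) * u⁻¹ from rfl, orderOf_conj']
  rw [hreg, Nat.card_congr e]
  let C := Subgroup.centralizer ({x} : Set G)
  let T : Sylow 2 ↥C := P.subtype (h.sylow_le_centralizer hx)
  obtain ⟨π, hπ, hker⟩ := exists_retraction (h.npc_centralizer hx hx1) T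
  have hk' : regCard x = Nat.card π.ker := by
    rw [regCard, Nat.card_eq_fintype_card, Fintype.card_subtype]
    refine congrArg Finset.card (Finset.filter_congr fun s _ => ?_)
    refine ⟨fun hs => ?_, fun hs => ?_⟩
    · obtain ⟨j, hj⟩ := IsPGroup.iff_orderOf.mp T.2 (π s)
      rw [MonoidHom.mem_ker]
      by_contra hne
      have hj0 : j ≠ 0 := fun h0 => hne (orderOf_eq_one_iff.mp (by rw [hj, h0, pow_zero]))
      exact hs (((dvd_pow_self 2 hj0).trans (dvd_of_eq hj.symm)).trans (orderOf_map_dvd π s))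
    · exact (Nat.Prime.coprime_iff_not_dvd Nat.prime_two).mp (hker s hs).symm
  have hidx : π.ker.index = Nat.card ↥(P : Subgroup G) := by
    rw [Subgroup.index_ker, (MonoidHom.range_eq_top (f := π)).mpr fun q => ⟨q, hπ q⟩, Subgroup.card_top]
    exact Nat.card_congr (Subgroup.subgroupOfEquivOfLe (h.sylow_le_centralizer hx)).toEquiv
  rw [hk', ← hidx, ← Nat.cast_mul, Subgroup.card_mul_index]

theorem card_conj_inter {x : G} (hx : x ∈ (P : Subgroup G)) (hx1 : x ≠ 1) :
    (Finset.univ.filter fun y : ↥(P : Subgroup G) => IsConj x (y : G)).card = 3 := by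
  have h1 := h.conj_mem hx
  have h2 := h.conj_mem h1
  obtain ⟨d1, d2, d3⟩ := h.conj_ne hx hx1
  refine Finset.card_eq_three.2 ⟨⟨x, hx⟩, ⟨_, h1⟩, ⟨_, h2⟩, fun e => d1 (congrArg Subtype.val e).symm,
    fun e => d2 (congrArg Subtype.val e).symm, fun e => d3 (congrArg Subtype.val e).symm, ?_⟩
  ext y
  simp only [Finset.mem_filter, Finset.mem_univ, true_and, Finset.mem_insert, Finset.mem_singleton]
  constructor
  · intro hc
    obtain ⟨g, hg⟩ := isConj_iff.1 hc
    rcases h.fus hx (g := g) (by rw [hg]; exact y.2) with e | e | e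
    · exact Or.inl (Subtype.ext (hg.symm.trans e))
    · exact Or.inr (Or.inl (Subtype.ext (hg.symm.trans e)))
    · exact Or.inr (Or.inr (Subtype.ext (hg.symm.trans e)))
  · rintro (rfl | rfl | rfl)
    · exact IsConj.refl _
    · exact isConj_iff.2 ⟨n, rfl⟩
    · exact isConj_iff.2 ⟨n * n, by simp [mul_assoc]⟩

/-- The inner product of a function of the two-part with a function constant on its fibres. -/
theorem classInner_sFun {f : G → ℂ} (hf : FInv P f) (hf1 : f 1 = 0) {Ψ : G → ℂ}
    (hΨ : IsClassFunction G Ψ)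
    (hconst : ∀ z : G, (∃ k, orderOf z = 2 ^ k) → z ≠ 1 →
      ∀ s : Subgroup.centralizer ({z} : Set G), IsPRegular 2 s → Ψ (z * (s : G)) = Ψ z) :
    classInner (sFun P f) Ψ
      = ((3 * Nat.card (P : Subgroup G) : ℕ) : ℂ)⁻¹ * ∑ x : ↥(P : Subgroup G), f x * conj (Ψ x) := by
  set S : Finset G := Finset.univ.filter fun z => ∃ k, orderOf z = 2 ^ k with hS
  set Φ : G → ℂ := fun g => sFun P f g * conj (Ψ g) with hΦ
  have hΦc : IsClassFunction G Φ := fun x g => by
    simp only [Φ, sFun_isClassFunction hf x g, hΨ x g]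
  have hΦP : ∀ x : ↥(P : Subgroup G), Φ x = f x * conj (Ψ x) := fun x => by
    simp only [Φ, sFun_coe hf]
  have hΦ1 : Φ 1 = 0 := by
    have := hΦP 1
    simp only [OneMemClass.coe_one] at this
    rw [this, hf1, zero_mul]
  -- the sum over the sections
  have hA : ∑ g : G, Φ g = ∑ z ∈ S, Φ z * regCard z := by
    rw [← Finset.sum_fiberwise_of_maps_to (g := twoPart) (t := S)
      (fun g _ => Finset.mem_filter.2 ⟨Finset.mem_univ _, twoPart_pow g⟩)]
    refine Finset.sum_congr rfl fun z hz => ?_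
    obtain ⟨k, hk⟩ := (Finset.mem_filter.1 hz).2
    rw [sum_fiber Φ hk]
    by_cases hz1 : z = 1
    · subst hz1
      rw [hΦ1, zero_mul, Finset.sum_eq_zero]
      intro s hs
      rw [one_mul]
      simp only [Φ]
      rw [sFun_of_odd hf (by rw [Subgroup.orderOf_coe]; exact (Finset.mem_filter.1 hs).2), hf1, zero_mul]
    · rw [Finset.sum_congr rfl (g := fun _ => Φ z) fun s hs => ?_, Finset.sum_const, nsmul_eq_mul,
        mul_comm]
      · rfl
      · have hcomm : Commute z (s : G) := (Subgroup.mem_centralizer_singleton_iff.1 s.2).symm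
        have hsr : ¬ 2 ∣ orderOf (s : G) := by
          rw [Subgroup.orderOf_coe]; exact (Finset.mem_filter.1 hs).2
        have e1 : twoPart (z * (s : G)) = z := twoPart_mul hcomm hk hsr
        have e2 : twoPart z = z := by
          have := twoPart_mul (Commute.one_right z) hk (by rw [orderOf_one]; norm_num)
          rwa [mul_one] at this
        have e3 : sFun P f (z * (s : G)) = sFun P f z := by
          obtain ⟨u, hu⟩ := exists_conj_twoPart P z
          rw [sFun_eq hf hu, sFun_eq hf (u := u) (by rw [e1]; rwa [e2] at hu), e1, e2]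
        simp only [Φ, e3, hconst z ⟨k, hk⟩ hz1 s (Finset.mem_filter.1 hs).2]
  -- double counting
  have hB : (Nat.card G : ℂ) * ∑ x : ↥(P : Subgroup G), Φ x
      = ∑ z ∈ S, Φ z * ((3 * Nat.card (P : Subgroup G) : ℕ) : ℂ) * regCard z := by
    have e : ∀ x : ↥(P : Subgroup G), (Nat.card G : ℂ) * Φ x
        = ∑ z ∈ S, ((Finset.univ.filter fun g : G => g * (x : G) * g⁻¹ = z).card : ℂ) * Φ z := by
      intro x
      obtain ⟨k, hk⟩ := IsPGroup.iff_orderOf.mp P.2 x
      calc (Nat.card G : ℂ) * Φ x = ∑ g : G, Φ (g * (x : G) * g⁻¹) := by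
            rw [Finset.sum_congr rfl fun g _ => hΦc (x : G) g, Finset.sum_const, Finset.card_univ,
              Fintype.card_eq_nat_card, nsmul_eq_mul]
        _ = _ := by
            rw [← Finset.sum_fiberwise_of_maps_to (g := fun g : G => g * (x : G) * g⁻¹) (t := S)
              (fun g _ => Finset.mem_filter.2 ⟨Finset.mem_univ _, k, by
                rw [orderOf_conj', Subgroup.orderOf_coe, hk]⟩)]
            refine Finset.sum_congr rfl fun z _ => ?_
            rw [Finset.sum_congr rfl (g := fun _ => Φ z) fun g hg => by rw [(Finset.mem_filter.1 hg).2],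
              Finset.sum_const, nsmul_eq_mul]
    rw [Finset.mul_sum, Finset.sum_congr rfl fun x _ => e x, Finset.sum_comm]
    refine Finset.sum_congr rfl fun z hz => ?_
    rw [← Finset.sum_mul]
    by_cases hz1 : z = 1
    · rw [hz1, hΦ1]; ring
    obtain ⟨k, hk⟩ := (Finset.mem_filter.1 hz).2
    obtain ⟨u, hu⟩ := exists_conj_mem_sylow P (R := Subgroup.zpowers z)
      (IsPGroup.of_card (n := k) (by rw [Nat.card_zpowers, hk]))
    have hx0 := hu z (Subgroup.mem_zpowers z)
    have hc : IsConj z (u * z * u⁻¹) := isConj_iff.2 ⟨u, rfl⟩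
    have hcnt : ((∑ x : ↥(P : Subgroup G), (Finset.univ.filter fun g : G => g * (x : G) * g⁻¹ = z).card : ℕ) : ℂ)
        = ((3 * Nat.card (Subgroup.centralizer ({z} : Set G)) : ℕ) : ℂ) := by
      congr 1
      rw [Finset.sum_congr rfl fun (x : ↥(P : Subgroup G)) _ => card_filter_conj (x : G) z, Finset.sum_ite,
        Finset.sum_const_zero, add_zero, Finset.sum_const, smul_eq_mul]
      congr 1
      rw [← card_conj_inter h hx0 fun e => hz1 (conj_eq_one_iff.mp e)]
      refine congrArg Finset.card (Finset.filter_congr fun y _ => ?_)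
      exact ⟨fun e => (e.trans hc).symm, fun e => e.symm.trans hc.symm⟩
    push_cast at hcnt
    rw [hcnt, ← regCard_mul h ⟨k, hk⟩ hz1]
    push_cast
    ring
  rw [Cfsg.classInner, show ∑ g : G, sFun P f g * conj (Ψ g) = ∑ g : G, Φ g from rfl, hA,
    Finset.sum_congr rfl fun x _ => (hΦP x).symm, inv_mul_eq_iff_eq_mul₀ CfsgLib.Char.card_ne_zero,
    mul_left_comm, hB, Finset.mul_sum]
  refine Finset.sum_congr rfl fun z _ => ?_
  have h3 : ((3 * Nat.card (P : Subgroup G) : ℕ) : ℂ) ≠ 0 := by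
    have := (Nat.card_pos (α := ↥(P : Subgroup G))).ne'
    exact_mod_cast mul_ne_zero three_ne_zero this
  field_simp

variable {M : Ideal AlgInt} (hM : IsPModular 2 M)
include hM

theorem apply_section {χ : IrrCharacter G} (hχ : χ ∈ principalBlock M G) {z : G}
    (hz : ∃ k, orderOf z = 2 ^ k) (hz1 : z ≠ 1) (s : Subgroup.centralizer ({z} : Set G))
    (hs : IsPRegular 2 s) : (χ : G → ℂ) (z * (s : G)) = (χ : G → ℂ) z := by
  haveI := Fact.mk Nat.prime_two
  obtain ⟨k, hk⟩ := hz
  obtain ⟨u, hu⟩ := exists_conj_mem_sylow P (R := Subgroup.zpowers z)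
    (IsPGroup.of_card (n := k) (by rw [Nat.card_zpowers, hk]))
  have hx := hu z (Subgroup.mem_zpowers z)
  set x := u * z * u⁻¹ with hxd
  have hnpc := h.npc_centralizer hx fun e => hz1 (conj_eq_one_iff.mp e)
  have hxs : u * (s : G) * u⁻¹ ∈ Subgroup.centralizer ({x} : Set G) := by
    rw [Subgroup.mem_centralizer_singleton_iff, hxd]
    have := Subgroup.mem_centralizer_singleton_iff.mp s.2
    calc u * (s : G) * u⁻¹ * (u * z * u⁻¹) = u * ((s : G) * z) * u⁻¹ := by group
      _ = u * (z * (s : G)) * u⁻¹ := by rw [this]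
      _ = _ := by group
  have key := principalBlock_apply_section hM (x := x) ⟨k, by rw [hxd, orderOf_conj', hk]⟩ hχ
    (Cfsg.pResidual 2 ↥(Subgroup.centralizer ({x} : Set G)))
    ((Nat.Prime.coprime_iff_not_dvd Nat.prime_two).mp (CfsgLib.Fusion.Basic.npc_iff_coprime.mp hnpc).symm)
    (y := ⟨_, hxs⟩)
    (CfsgLib.Fusion.Basic.mem_pResidual_of_coprime (by
      rw [Subgroup.orderOf_mk, orderOf_conj', Subgroup.orderOf_coe]
      exact ((Nat.Prime.coprime_iff_not_dvd Nat.prime_two).mpr hs).symm))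
  simp only [hxd, irr_conj_apply] at key
  rwa [show u * z * u⁻¹ * (u * (s : G) * u⁻¹) = u * (z * (s : G)) * u⁻¹ by group, irr_conj_apply] at key

theorem sum_section_eq_zero {χ : IrrCharacter G} (hχ : χ ∉ principalBlock M G) {z : G}
    (hz : ∃ k, orderOf z = 2 ^ k) (hz1 : z ≠ 1) :
    ∑ s : Subgroup.centralizer ({z} : Set G) with IsPRegular 2 s, (χ : G → ℂ) (z * (s : G)) = 0 := by
  haveI := Fact.mk Nat.prime_two
  obtain ⟨k, hk⟩ := hz
  set C := Subgroup.centralizer ({z} : Set G) with hC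
  obtain ⟨u, hu⟩ := exists_conj_mem_sylow P (R := Subgroup.zpowers z)
    (IsPGroup.of_card (n := k) (by rw [Nat.card_zpowers, hk]))
  have hnpc : Cfsg.HasNormalPComplement 2 ↥C := by
    have hx1 : u * z * u⁻¹ ≠ 1 := fun e => hz1 (conj_eq_one_iff.mp e)
    have := h.npc_centralizer (hu z (Subgroup.mem_zpowers z)) hx1
    let ψ : ↥C →* ↥(Subgroup.centralizer ({u * z * u⁻¹} : Set G)) := MonoidHom.mk'
      (fun c => ⟨u * (c : G) * u⁻¹, Subgroup.mem_centralizer_singleton_iff.mpr (by
        have := Subgroup.mem_centralizer_singleton_iff.mp c.2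
        calc u * (c : G) * u⁻¹ * (u * z * u⁻¹) = u * ((c : G) * z) * u⁻¹ := by group
          _ = u * (z * (c : G)) * u⁻¹ := by rw [this]
          _ = _ := by group)⟩) (fun a b => Subtype.ext (by simp [mul_assoc]))
    exact CfsgLib.Fusion.Basic.npc_of_injective ψ
      (fun a b e => Subtype.ext (mul_left_cancel (mul_right_cancel (congrArg Subtype.val e)))) this
  set b := principalBlock M ↥C
  have hb : IsPBlock M b := isPBlock_principalBlock
  obtain ⟨B₀, hind⟩ := exists_isInducedBlock_centralizer_singleton hM (x := z) ⟨k, hk⟩ hb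
  have hprin : IsInducedBlock M C b (principalBlock M G) :=
    (Cfsg.Agent.S0936.result 2 M hM C b ⟨B₀, hind⟩).mpr rfl
  have hB : IsPBlock M (blockOf M (χ : G → ℂ)) := isPBlock_blockOf χ
  have hnot : ¬ IsInducedBlock M C b (blockOf M (χ : G → ℂ)) := fun h' =>
    hχ (IsInducedBlock.unique hM h' hprin ▸ SameBlock_refl hM _)
  have h0 := blockPart_section_eq_zero hM (x := z) ⟨k, hk⟩ hB (SameBlock_refl hM _) hb hnot (y := 1)
    (by rw [orderOf_one]; norm_num)
  have hker : ∀ s : ↥C, IsPRegular 2 s → blockCoeff b s = blockCoeff b 1 := by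
    intro s hs
    have hsN : s ∈ Cfsg.pResidual 2 ↥C := CfsgLib.Fusion.Basic.mem_pResidual_of_coprime
      ((Nat.Prime.coprime_iff_not_dvd Nat.prime_two).mpr hs).symm
    rw [blockCoeff_eq_fourierInv, blockCoeff_eq_fourierInv, fourierInv, fourierInv]
    congr 1
    refine Finset.sum_congr rfl fun ψ _ => ?_
    by_cases hψ : ψ ∈ b
    · have hk2 := le_irrKer_of_sameBlock hM (N := Cfsg.pResidual 2 ↥C) inferInstance
        ((Nat.Prime.coprime_iff_not_dvd Nat.prime_two).mp (CfsgLib.Fusion.Basic.npc_iff_coprime.mp hnpc).symm)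
        (χ := trivChar ↥C) hψ (fun _ _ => mem_irrKer.2 rfl) (inv_mem hsN)
      rw [mem_irrKer.1 hk2, inv_one]
    · rw [blockInd_of_notMem hψ, zero_mul, zero_mul]
  set ϑ : ↥C → ℂ := fun c => (χ : G → ℂ) (z * (c : G))
  have e : blockPart b ϑ 1 = ∑ c : ↥C, ϑ c * blockCoeff b c := by
    rw [blockPart_eq_sum]
    simp only [Cfsg.classInner, blockCoeff_eq_fourierInv, fourierInv, Finset.mul_sum, Finset.sum_mul,
      irr_one_eq, ← conj_irr]
    rw [Finset.sum_comm]
    exact Finset.sum_congr rfl fun c _ => Finset.sum_congr rfl fun φ _ => by ring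
  rw [e, ← Finset.sum_filter_add_sum_filter_not Finset.univ (fun c : ↥C => IsPRegular 2 c),
    Finset.sum_eq_zero (s := Finset.univ.filter fun c : ↥C => ¬ IsPRegular 2 c) fun c hc => by
      rw [IsPBlock.blockCoeff_eq_zero hM hb (not_isPRegular.1 (Finset.mem_filter.1 hc).2), mul_zero],
    add_zero, Finset.sum_congr rfl fun c hc => by rw [hker c (Finset.mem_filter.1 hc).2],
    ← Finset.sum_mul, mul_eq_zero] at h0
  exact h0.resolve_right (blockCoeff_one_ne_zero hM hb)

/-- Only the principal block occurs in a function of the two-part vanishing at the identity. -/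
theorem classInner_sFun_eq_zero {f : G → ℂ} (hf : FInv P f) (hf1 : f 1 = 0) {χ : IrrCharacter G}
    (hχ : χ ∉ principalBlock M G) : classInner (sFun P f) (χ : G → ℂ) = 0 := by
  rw [Cfsg.classInner, ← Finset.sum_fiberwise_of_maps_to (g := twoPart)
    (t := Finset.univ.filter fun z : G => ∃ k, orderOf z = 2 ^ k)
    (fun g _ => Finset.mem_filter.2 ⟨Finset.mem_univ _, twoPart_pow g⟩), Finset.sum_eq_zero, mul_zero]
  intro z hz
  obtain ⟨k, hk⟩ := (Finset.mem_filter.1 hz).2
  rw [sum_fiber _ hk]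
  by_cases hz1 : z = 1
  · subst hz1
    refine Finset.sum_eq_zero fun s hs => ?_
    rw [one_mul, sFun_of_odd hf (by rw [Subgroup.orderOf_coe]; exact (Finset.mem_filter.1 hs).2), hf1, zero_mul]
  obtain ⟨u, hu⟩ := exists_conj_twoPart P z
  have e2 : twoPart z = z := by
    have := twoPart_mul (Commute.one_right z) hk (by rw [orderOf_one]; norm_num)
    rwa [mul_one] at this
  refine (Finset.sum_congr rfl (g := fun (s : ↥(Subgroup.centralizer ({z} : Set G))) => f (u * z * u⁻¹) * conj ((χ : G → ℂ) (z * (s : G)))) fun s hs => ?_).trans ?_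
  · have e1 : twoPart (z * (s : G)) = z := twoPart_mul (Subgroup.mem_centralizer_singleton_iff.1 s.2).symm hk
      (by rw [Subgroup.orderOf_coe]; exact (Finset.mem_filter.1 hs).2)
    rw [sFun_eq hf (u := u) (by rw [e1]; rwa [e2] at hu), e1]
  · rw [← Finset.mul_sum, ← map_sum, sum_section_eq_zero h hM hχ ⟨k, hk⟩ hz1, map_zero, mul_zero]

end Rot

end CfsgLib.BrauerSuzuki.Homocyclic
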