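import Cfsg.Agent.Lib.BrauerSuzuki.Setup

/-!
# Brauer-Suzuki: Sylow 2-subgroups of order at least 16

The exceptional characters of the normalizer of a cyclic subgroup of order 4.
-/

set_option autoImplicit false

namespace CfsgLib.BrauerSuzuki

open Cfsg CfsgLib.Blocks
open scoped Classical ComplexConjugate

/-- Coefficients with small square sum. -/
theorem unit_coeff {ι : Type*} (s : Finset ι) (c : ι → ℤ) (k : ℕ) (hk : k ≤ 3)
    (h : ∑ i ∈ s, c i * c i = (k : ℤ)) :
    (∀ i ∈ s, c i ≠ 0 → c i = 1 ∨ c i = -1) ∧ (s.filter fun i => c i ≠ 0).card = k := by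
  have hle : ∀ i ∈ s, c i * c i ≤ 3 := fun i hi =>
    (Finset.single_le_sum (fun j _ => mul_self_nonneg (c j)) hi).trans (by rw [h]; exact_mod_cast hk)
  have hu : ∀ i ∈ s, c i ≠ 0 → c i = 1 ∨ c i = -1 := fun i hi h0 => by
    have h1 := hle i hi
    have : -2 < c i ∧ c i < 2 := ⟨by nlinarith, by nlinarith⟩
    omega
  refine ⟨hu, ?_⟩
  have : ∑ i ∈ s, c i * c i = ((s.filter fun i => c i ≠ 0).card : ℤ) := by
    rw [← Finset.sum_filter_of_ne (p := fun i => c i ≠ 0) (fun i _ hne => left_ne_zero_of_mul hne),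
      Finset.sum_congr rfl (g := fun _ => (1 : ℤ)) fun i hi => ?_, Finset.sum_const, nsmul_eq_mul, mul_one]
    rcases hu i (Finset.mem_filter.1 hi).1 (Finset.mem_filter.1 hi).2 with h' | h' <;> rw [h'] <;> rfl
  exact_mod_cast this.symm.trans h

variable {G : Type*} [Group G] [Fintype G]

/-- The exceptional generalized character. -/
theorem exists_theta16 {N k : ℕ} [NeZero N] (hN : N = 2 * k) (h4 : 4 ∣ N) (hpow : ∃ j : ℕ, N = 2 ^ j)
    (S : Sylow 2 G) (e : ↥(S : Subgroup G) ≃* QuaternionGroup N) :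
    ∃ (θ : G → ℂ) (A B : IrrCharacter G), IsGeneralizedCharacter G θ ∧ A ≠ trivChar G ∧ B ≠ trivChar G ∧ A ≠ B ∧
      (coeff θ A = 1 ∨ coeff θ A = -1) ∧ (coeff θ B = 1 ∨ coeff θ B = -1) ∧ (∀ g, ¬ 4 ∣ orderOf g → θ g = 0) ∧
      ∀ F : IrrCharacter G → ℂ, ∑ χ : IrrCharacter G, (coeff θ χ : ℂ) * F χ =
        F (trivChar G) + ((coeff θ A : ℂ) * F A + (coeff θ B : ℂ) * F B) := by
  set y := yEl S e k with hydef
  have hy : orderOf y = 4 := orderOf_yEl S e hN
  set u := y ^ 2 with hudef
  have hu : orderOf u = 2 := by rw [hudef, orderOf_pow_of_dvd two_ne_zero (by rw [hy]; norm_num), hy]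
  have hU := uniqueInv_of_quaternion S e
  obtain ⟨π, hπ, -, hπy⟩ := exists_proj S e hN hpow
  let Ny := Subgroup.normalizer (Subgroup.zpowers y : Set G)
  set f : ↥Ny → ℂ := psiQ ∘ π with hf
  have hfg : IsGeneralizedCharacter ↥Ny f := gc_comp (gc_psiQ (dvd_trans (by norm_num) h4)) π
  have hfc : IsClassFunction ↥Ny f := (Char.isGeneralizedCharacter_iff.1 hfg).1
  set D : G → Prop := fun x => y ∈ Subgroup.zpowers x
  have hD : ∀ h : ↥Ny, f h ≠ 0 → D h := fun h hne => (hπy h).mpr (psiQ_ne_zero h4 hne)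
  have hTI : ∀ g x : G, x ∈ Ny → D x → g * x * g⁻¹ ∈ Ny → D (g * x * g⁻¹) → g ∈ Ny :=
    fun g x _ h1 _ h2 => mem_normalizer_zpowers_of_TI hy h1 h2
  set θ := Cfsg.indFun Ny f with hθ
  have hθg : IsGeneralizedCharacter G θ := Char.IsGeneralizedCharacter.indFun Ny hfg
  obtain ⟨hn3, hn1⟩ := psiQ_inner (N := N) h4
  have h3 : classInner θ θ = 3 := by
    rw [hθ, classInner_indFun_special Ny D hfc hD hD hTI, hf, Char.classInner_comp_surjective π hπ, hn3]
  have h1 : classInner θ ((trivChar G : IrrCharacter G) : G → ℂ) = 1 := by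
    rw [hθ, Char.classInner_indFun Ny f (Char.IsIrrCharacter.isClassFunction (trivChar G).2)]
    show classInner (psiQ ∘ π) ((fun _ => (1 : ℂ)) ∘ π) = 1
    rw [Char.classInner_comp_surjective π hπ, hn1]
  have hzero : ∀ g : G, ¬ 4 ∣ orderOf g → θ g = 0 := by
    intro g hg
    rw [hθ, Char.indFun_def, Finset.sum_eq_zero, mul_zero]
    intro x _
    by_cases hm : x⁻¹ * g * x ∈ Ny
    · rw [Char.extendByZero_apply_mem Ny f hm]
      by_contra hne
      have h2 := orderOf_dvd_of_mem_zpowers (hD _ hne)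
      rw [hy] at h2
      have h5 : orderOf (x⁻¹ * g * x) = orderOf g := by
        have := orderOf_conj' x⁻¹ g
        rwa [inv_inv] at this
      exact hg (h5 ▸ h2)
    · exact Char.extendByZero_apply_notMem Ny f hm
  set c := coeff θ with hcdef
  have hc0 : c (trivChar G) = 1 := by
    have := cast_coeff hθg (trivChar G)
    rw [h1] at this
    exact_mod_cast this
  have hsq : ∑ χ : IrrCharacter G, c χ * c χ = 3 := by
    have := classInner_eq_sum_coeff hθg hθg
    rw [h3] at this
    exact_mod_cast this.symm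
  have hrest : ∑ χ ∈ Finset.univ.erase (trivChar G), c χ * c χ = ((2 : ℕ) : ℤ) := by
    rw [← Finset.add_sum_erase _ _ (Finset.mem_univ (trivChar G)), hc0] at hsq
    push_cast
    omega
  obtain ⟨hunit, hcard⟩ := unit_coeff _ c 2 (by norm_num) hrest
  obtain ⟨A, B, hAB, hS⟩ := Finset.card_eq_two.1 hcard
  have hA : A ∈ (Finset.univ.erase (trivChar G)).filter fun χ => c χ ≠ 0 := by rw [hS]; simp
  have hB : B ∈ (Finset.univ.erase (trivChar G)).filter fun χ => c χ ≠ 0 := by rw [hS]; simp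
  have hexp : ∀ F : IrrCharacter G → ℂ, ∑ χ : IrrCharacter G, (c χ : ℂ) * F χ =
      F (trivChar G) + ((c A : ℂ) * F A + (c B : ℂ) * F B) := by
    intro F
    rw [← Finset.add_sum_erase _ _ (Finset.mem_univ (trivChar G)), hc0, Int.cast_one, one_mul,
      ← Finset.sum_filter_of_ne (p := fun χ => c χ ≠ 0), hS, Finset.sum_pair hAB]
    intro χ _ hne h
    simp [h] at hne
  exact ⟨θ, A, B, hθg, (Finset.mem_erase.1 (Finset.mem_filter.1 hA).1).1,
    (Finset.mem_erase.1 (Finset.mem_filter.1 hB).1).1, hAB,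
    hunit A (Finset.mem_filter.1 hA).1 (Finset.mem_filter.1 hA).2,
    hunit B (Finset.mem_filter.1 hB).1 (Finset.mem_filter.1 hB).2, hzero, hexp⟩

theorem exists_char_of_order16 {N k : ℕ} [NeZero N] (hN : N = 2 * k) (h4 : 4 ∣ N) (hpow : ∃ j : ℕ, N = 2 ^ j)
    (S : Sylow 2 G) (e : ↥(S : Subgroup G) ≃* QuaternionGroup N) :
    ∃ χ : IrrCharacter G, χ ≠ trivChar G ∧ (χ : G → ℂ) (yEl S e k ^ 2) = (χ : G → ℂ) 1 := by
  set y := yEl S e k with hydef
  have hy : orderOf y = 4 := orderOf_yEl S e hN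
  set u := y ^ 2 with hudef
  have hu : orderOf u = 2 := by rw [hudef, orderOf_pow_of_dvd two_ne_zero (by rw [hy]; norm_num), hy]
  have hU := uniqueInv_of_quaternion S e
  obtain ⟨θ, A, B, hθg, hAne', -, -, hcA, hcB, hzero, hexpC⟩ := exists_theta16 hN h4 hpow S e
  set c := coeff θ with hcdef
  have hexp : ∀ F : IrrCharacter G → ℝ, ∑ χ : IrrCharacter G, (c χ : ℝ) * F χ =
      F (trivChar G) + ((c A : ℝ) * F A + (c B : ℝ) * F B) := by
    intro F
    apply Complex.ofReal_injective
    push_cast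
    exact hexpC fun χ => (F χ : ℂ)
  -- the three relations
  have hdeg : ∑ χ : IrrCharacter G, (c χ : ℝ) * (charDegree (χ : G → ℂ) : ℝ) = 0 := by
    apply Complex.ofReal_injective
    push_cast
    simp only [← irr_one_eq]
    rw [← eq_sum_coeff hθg, hzero 1 (by rw [orderOf_one]; norm_num)]
  have hval : ∑ χ : IrrCharacter G, (c χ : ℝ) * reVal χ u = 0 := by
    apply Complex.ofReal_injective
    push_cast
    simp only [cast_reVal _ hu]
    rw [← eq_sum_coeff hθg, hzero u (by rw [hu]; norm_num)]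
  have hid := involution_identity hU hu hθg 0 (fun x hx => by
    rw [hzero x fun h => hx (dvd_trans (by norm_num) h)]; simp)
  simp only [mul_div_assoc] at hid
  rw [hexp] at hdeg hval hid
  have hd1 : ((charDegree ((trivChar G : IrrCharacter G) : G → ℂ) : ℝ)) = 1 := by
    apply Complex.ofReal_injective
    push_cast
    rw [← irr_one_eq]
    rfl
  have hv1 : reVal (trivChar G) u = 1 := Complex.one_re
  rw [hd1] at hdeg hid
  rw [hv1] at hval hid
  have hAne : A ≠ trivChar G := hAne'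
  refine ⟨A, hAne, ?_⟩
  have hp : 0 < (charDegree (A : G → ℂ) : ℝ) := by exact_mod_cast charDegree_pos A
  have hq : 0 < (charDegree (B : G → ℂ) : ℝ) := by exact_mod_cast charDegree_pos B
  suffices reVal A u = (charDegree (A : G → ℂ) : ℝ) by
    rw [← cast_reVal A hu, this, irr_one_eq]
    simp
  set dA := (charDegree (A : G → ℂ) : ℝ)
  set dB := (charDegree (B : G → ℂ) : ℝ)
  set vA := reVal A u
  set vB := reVal B u
  set eA := (c A : ℝ)
  set eB := (c B : ℝ)
  have heA : eA * eA = 1 := by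
    rcases hcA with h | h <;>
      simp [eA, h]
  have heB : eB * eB = 1 := by
    rcases hcB with h | h <;>
      simp [eB, h]
  field_simp at hid
  have hX : eA * vA - eA * dA = 0 := by
    have key : (eA * vA - eA * dA) ^ 2 = 0 := by
      have h1 : eB * vB = -1 - eA * vA := by linarith
      have h2 : eB * dB = -1 - eA * dA := by linarith
      have hid' : (eA * dA) * (eB * dB) + (eA * vA) ^ 2 * (eB * dB) + (eB * vB) ^ 2 * (eA * dA) = 0 := by
        linear_combination (eA * eB) * hid + (eA * vA ^ 2 * eB * dB - eA * vA ^ 2 * dB * eB) * heA +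
          (eA * vB ^ 2 * dA * eB - eA * vB ^ 2 * eB * dA) * heB
      rw [h1, h2] at hid'
      linear_combination -hid'
    exact pow_eq_zero_iff two_ne_zero |>.mp key
  have : eA * (vA - dA) = 0 := by linarith
  rcases mul_eq_zero.mp this with h | h
  · rw [h, mul_zero] at heA; exact absurd heA zero_ne_one
  · linarith

end CfsgLib.BrauerSuzuki
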