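import Cfsg.Agent.Lib.BrauerSuzuki.OrderFun
import Cfsg.Agent.Lib.BrauerSuzuki.Order16
import Cfsg.Agent.Lib.BrauerSuzuki.PrincipalSection
import Cfsg.Agent.Lib.Blocks.Height
import Cfsg.Agent.Lib.Blocks.Parts

/-!
# The principal 2-block for Klein four Sylow subgroups and one class of involutions
-/

set_option autoImplicit false

namespace CfsgLib.BrauerSuzuki

open Cfsg CfsgLib.Blocks
open scoped Classical ComplexConjugate

/-- `4` on elements of even order. -/
noncomputable def evenF (G : Type*) [Group G] : G → ℂ := fun x => if 2 ∣ orderOf x then 4 else 0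

variable {G : Type*} [Group G] [Fintype G] (P : Sylow 2 G) (hP : IsKleinFour (P : Subgroup G))

include hP in
theorem sq_eq_one_of_two_elem {x : G} (hx : ∃ j, orderOf x = 2 ^ j) : x * x = 1 := by
  obtain ⟨j, hj⟩ := hx
  obtain ⟨g, hg⟩ := exists_conj_mem_sylow P (R := Subgroup.zpowers x)
    (IsPGroup.of_card (n := j) (by rw [Nat.card_zpowers, hj]))
  have h1 := congrArg Subtype.val (hP.mul_self (⟨_, hg x (Subgroup.mem_zpowers x)⟩ : ↥(P : Subgroup G)))
  have h2 : g * x * g⁻¹ * (g * x * g⁻¹) = 1 := h1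
  rwa [show g * x * g⁻¹ * (g * x * g⁻¹) = g * (x * x) * g⁻¹ by group, conj_eq_one_iff] at h2

include hP in
theorem not_four_dvd (x : G) : ¬ 4 ∣ orderOf x := fun h => by
  have hpos := orderOf_pos x
  have hw : orderOf (x ^ (orderOf x / 4)) = 4 := by
    rw [orderOf_pow_of_dvd (by have := Nat.le_of_dvd hpos h; omega) (Nat.div_dvd_of_dvd h),
      Nat.div_div_self h hpos.ne']
  have h2 := orderOf_dvd_of_pow_eq_one (show (x ^ (orderOf x / 4)) ^ 2 = 1 by
    rw [sq]; exact sq_eq_one_of_two_elem P hP ⟨2, hw⟩)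
  rw [hw] at h2
  norm_num at h2

include hP in
theorem npc_centralizer_involution {z : G} (hz : orderOf z = 2) :
    Cfsg.HasNormalPComplement 2 ↥(Subgroup.centralizer ({z} : Set G)) := by
  haveI := Fact.mk Nat.prime_two
  set C := Subgroup.centralizer ({z} : Set G)
  obtain ⟨T⟩ : Nonempty (Sylow 2 ↥C) := inferInstance
  refine CfsgLib.Fusion.Alperin.npc_of_frobenius T fun Q hQ g hg ho => ?_
  refine Subgroup.mem_centralizer_iff.mpr fun x hx => ?_
  have hzC : z ∈ C := Subgroup.mem_centralizer_singleton_iff.mpr rfl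
  -- the two elements and `z` lie in a four group
  let R : Subgroup G := (T : Subgroup ↥C).map C.subtype ⊔ Subgroup.zpowers z
  have hR : IsPGroup 2 ↥R := by
    refine IsPGroup.to_sup_of_normal_right' (T.2.map _) (IsPGroup.of_card (n := 1) (by rw [Nat.card_zpowers, hz, pow_one])) ?_
    refine (Subgroup.map_subtype_le _).trans (le_trans ?_ (Subgroup.centralizer_le_normalizer _))
    rw [Subgroup.zpowers_eq_closure, Subgroup.centralizer_closure]
  have hle : Nat.card R ≤ 4 := by
    obtain ⟨w, hw⟩ := exists_conj_mem_sylow P hR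
    have := Nat.card_le_card_of_injective (fun r : R => (⟨_, hw r r.2⟩ : ↥(P : Subgroup G))) fun r s h =>
      Subtype.ext (mul_left_cancel (mul_right_cancel (congrArg Subtype.val h)))
    rwa [hP.card_four] at this
  have hgx : g * x * g⁻¹ ∈ Q := (Subgroup.mem_normalizer_iff.mp hg x).mp hx
  have hzR : z ∈ R := Subgroup.mem_sup_right (Subgroup.mem_zpowers z)
  have hxR : (x : G) ∈ R := Subgroup.mem_sup_left ⟨x, hQ hx, rfl⟩
  have hyR : ((g * x * g⁻¹ : ↥C) : G) ∈ R := Subgroup.mem_sup_left ⟨_, hQ hgx, rfl⟩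
  have hgz : ∀ c : ↥C, (c : G) * z = z * (c : G) := fun c => Subgroup.mem_centralizer_singleton_iff.mp c.2
  by_cases hx1 : (x : G) = 1 ∨ (x : G) = z
  · apply Subtype.ext
    rcases hx1 with h | h
    · show (x : G) * g = g * (x : G); rw [h, one_mul, mul_one]
    · show (x : G) * g = g * (x : G); rw [h, hgz g]
  rw [not_or] at hx1
  set y : G := ((g * x * g⁻¹ : ↥C) : G) with hy
  have hy' : y = (g : G) * (x : G) * (g : G)⁻¹ := rfl
  have hy1 : y ≠ 1 := fun h => hx1.1 (conj_eq_one_iff.mp (hy' ▸ h))
  have hyz : y ≠ z := fun h => hx1.2 (by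
    rw [hy'] at h
    calc (x : G) = (g : G)⁻¹ * ((g : G) * x * (g : G)⁻¹) * g := by group
      _ = z := by rw [h, mul_assoc, ← hgz g, inv_mul_cancel_left])
  have hz1 : z ≠ 1 := fun h => by rw [h, orderOf_one] at hz; omega
  have hcases : y = (x : G) ∨ y = z * (x : G) := by
    by_contra hn
    rw [not_or] at hn
    have hxx : z * (x : G) ∈ R := mul_mem hzR hxR
    let f : Fin 5 → R := ![1, ⟨z, hzR⟩, ⟨(x : G), hxR⟩, ⟨z * (x : G), hxx⟩, ⟨y, hyR⟩]
    have hzx1 : z * (x : G) ≠ 1 := fun h => hx1.2 (by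
      rw [mul_eq_one_iff_eq_inv'] at h
      rw [h, inv_eq_of_orderOf_two hz])
    have hzxz : z * (x : G) ≠ z := fun h => hx1.1 (by rwa [mul_eq_left] at h)
    have hzxx : z * (x : G) ≠ (x : G) := fun h => hz1 (by rwa [mul_eq_right] at h)
    have hinj : Function.Injective f := by
      intro i j hij
      have h := congrArg Subtype.val hij
      fin_cases i <;> fin_cases j <;>
        first
          | rfl
          | exact absurd h (Ne.symm hz1) | exact absurd h hz1
          | exact absurd h (Ne.symm hx1.1) | exact absurd h hx1.1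
          | exact absurd h (Ne.symm hzx1) | exact absurd h hzx1
          | exact absurd h (Ne.symm hy1) | exact absurd h hy1
          | exact absurd h (Ne.symm hx1.2) | exact absurd h hx1.2
          | exact absurd h (Ne.symm hzxz) | exact absurd h hzxz
          | exact absurd h (Ne.symm hyz) | exact absurd h hyz
          | exact absurd h (Ne.symm hzxx) | exact absurd h hzxx
          | exact absurd h (Ne.symm hn.1) | exact absurd h hn.1
          | exact absurd h (Ne.symm hn.2) | exact absurd h hn.2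
    have := Nat.card_le_card_of_injective f hinj
    rw [Nat.card_fin] at this
    omega
  apply Subtype.ext
  show (x : G) * (g : G) = (g : G) * (x : G)
  have hc2 : Commute ((g : G) ^ 2) (x : G) := by
    refine mul_inv_eq_iff_eq_mul.mp ?_
    have e : (g : G) ^ 2 * (x : G) * ((g : G) ^ 2)⁻¹ = (g : G) * y * (g : G)⁻¹ := by rw [hy', sq]; group
    rw [e]
    rcases hcases with h | h
    · rw [h]; exact hy'.symm.trans h
    · rw [h, show (g : G) * (z * (x : G)) * (g : G)⁻¹ = ((g : G) * z) * (x : G) * (g : G)⁻¹ by group, hgz g,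
        show z * (g : G) * (x : G) * (g : G)⁻¹ = z * ((g : G) * (x : G) * (g : G)⁻¹) by group, ← hy', h,
        ← mul_assoc, mul_self_of_orderOf_two hz, one_mul]
  obtain ⟨m, hm⟩ := exists_pow_eq_self_of_coprime (x := (g : G)) (n := 2)
    (by rw [Subgroup.orderOf_coe]; exact ho.symm)
  exact (hm ▸ hc2.pow_left m : Commute (g : G) (x : G)).eq.symm

include hP in
theorem gc_evenF : IsGeneralizedCharacter G (evenF G) := by
  haveI := Fact.mk Nat.prime_two
  refine CfsgLib.CharDeep.Brauer.isGeneralizedCharacter_of_elementary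
    (fun x g => by simp only [evenF, orderOf_conj']) fun p hp E hE => ?_
  haveI := isNilpotent_of_isElementary hp hE
  obtain ⟨T⟩ : Nonempty (Sylow 2 ↥E) := inferInstance
  obtain ⟨π, -, hπ⟩ := exists_retraction npc_of_isNilpotent T
  have hk : ∀ g, π g = 1 → Odd (orderOf g) := fun g hg => Nat.coprime_two_right.mp (hπ g hg)
  obtain ⟨g, hg⟩ := exists_conj_mem_sylow P (T.2.map E.subtype)
  let f : ↥(T : Subgroup ↥E) →* ↥(P : Subgroup G) := MonoidHom.mk'
    (fun q => ⟨g * ((q : ↥E) : G) * g⁻¹, hg _ ⟨_, q.2, rfl⟩⟩) (fun q r => Subtype.ext (by simp [mul_assoc]))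
  have hf : Function.Injective f := fun q r h =>
    Subtype.ext (Subtype.ext (mul_left_cancel (mul_right_cancel (congrArg Subtype.val h))))
  letI : Fintype ↥(P : Subgroup G) := Fintype.ofFinite _
  let R : ↥(P : Subgroup G) → ℂ := fun q => if q = 1 then 4 else 0
  have hR : IsGeneralizedCharacter ↥(P : Subgroup G) R := by
    have e : R = Cfsg.indFun (⊥ : Subgroup ↥(P : Subgroup G)) (fun _ => (1 : ℂ)) := by
      funext q
      rw [Char.indFun_def, Subgroup.card_bot, Nat.cast_one, inv_one, one_mul]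
      by_cases hq : q = 1
      · rw [Finset.sum_congr rfl (g := fun _ => (1 : ℂ)) fun x _ => Char.extendByZero_apply_mem _ _ (by simp [hq])]
        simp only [R, hq, if_true, Finset.sum_const, nsmul_eq_mul, mul_one, Finset.card_univ,
          Fintype.card_eq_nat_card, hP.card_four]
        norm_num
      · simp only [R, hq, if_false]
        refine (Finset.sum_eq_zero fun x _ => Char.extendByZero_apply_notMem _ _ fun h => hq ?_).symm
        rw [Subgroup.mem_bot] at h
        calc q = x * (x⁻¹ * q * x) * x⁻¹ := by group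
          _ = 1 := by rw [h]; group
    rw [e]
    exact Char.IsGeneralizedCharacter.indFun _ gc_one
  have heq : (fun x : ↥E => evenF G x) = 4 • (fun _ : ↥E => (1 : ℂ)) - R ∘ (f.comp π) := by
    funext x
    have h2 : 2 ∣ orderOf x ↔ π x ≠ 1 := by
      constructor
      · intro h h1
        exact Nat.not_even_iff_odd.mpr (hk x h1) (even_iff_two_dvd.mpr h)
      · intro h
        obtain ⟨j, hj⟩ := IsPGroup.iff_orderOf.mp T.2 (π x)
        have hj0 : j ≠ 0 := fun h0 => h (orderOf_eq_one_iff.mp (by rw [hj, h0, pow_zero]))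
        exact ((dvd_pow_self 2 hj0).trans (dvd_of_eq hj.symm)).trans (orderOf_map_dvd π x)
    simp only [evenF, Subgroup.orderOf_coe, h2, R, Function.comp_apply, MonoidHom.comp_apply, Pi.sub_apply,
      Pi.smul_apply, map_eq_one_iff f hf]
    by_cases h : π x = 1 <;> simp [h]
  rw [heq]
  exact gc_sub (gc_nsmul gc_one 4) (gc_comp hR _)

variable (hone : ∀ s t : G, orderOf s = 2 → orderOf t = 2 → IsConj s t)

include hP hone in
theorem classInner_evenF_one : classInner (evenF G) (fun _ => 1) = 1 := by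
  haveI := Fact.mk Nat.prime_two
  obtain ⟨z, hz⟩ : ∃ z : G, orderOf z = 2 := exists_prime_orderOf_dvd_card' 2
    (dvd_trans (by rw [hP.card_four]; norm_num) (Subgroup.card_subgroup_dvd_card (P : Subgroup G)))
  set C := Subgroup.centralizer ({z} : Set G)
  obtain ⟨T⟩ : Nonempty (Sylow 2 ↥C) := inferInstance
  obtain ⟨π, hπ, hπk⟩ := exists_retraction (npc_centralizer_involution P hP hz) T
  have hzT : (⟨z, Subgroup.mem_centralizer_singleton_iff.mpr rfl⟩ : ↥C) ∈ (T : Subgroup ↥C) := by
    obtain ⟨w, hw⟩ := exists_conj_mem_sylow T (R := Subgroup.zpowers (⟨z, Subgroup.mem_centralizer_singleton_iff.mpr rfl⟩ : ↥C))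
      (IsPGroup.of_card (n := 1) (by rw [Nat.card_zpowers, Subgroup.orderOf_mk, hz, pow_one]))
    have h := hw _ (Subgroup.mem_zpowers _)
    have e : w * (⟨z, Subgroup.mem_centralizer_singleton_iff.mpr rfl⟩ : ↥C) * w⁻¹ = ⟨z, Subgroup.mem_centralizer_singleton_iff.mpr rfl⟩ := by
      apply Subtype.ext
      show (w : G) * z * (w : G)⁻¹ = z
      rw [Subgroup.mem_centralizer_singleton_iff.mp w.2, mul_inv_cancel_right]
    rwa [e] at h
  set zT : ↥(T : Subgroup ↥C) := ⟨_, hzT⟩ with hzTdef
  have hzT1 : zT ≠ 1 := fun h => by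
    have : z = 1 := congrArg (fun q : ↥(T : Subgroup ↥C) => ((q : ↥C) : G)) h
    rw [this, orderOf_one] at hz
    omega
  have hT2 : ∀ q : ↥(T : Subgroup ↥C), q * q = 1 := fun q => by
    obtain ⟨j, hj⟩ := IsPGroup.iff_orderOf.mp T.2 q
    exact Subtype.ext (Subtype.ext (sq_eq_one_of_two_elem P hP ⟨j, by rw [Subgroup.orderOf_coe, Subgroup.orderOf_coe, hj]⟩))
  let D : G → Prop := fun x => z ∈ Subgroup.zpowers x
  let F : ↥(T : Subgroup ↥C) → ℂ := fun q => if q = zT then 4 else 0
  have hiff : ∀ c : ↥C, D c ↔ π c = zT := by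
    intro c
    constructor
    · intro h
      obtain ⟨i, hi⟩ := Subgroup.mem_zpowers_iff.mp h
      have hi' : c ^ i = (zT : ↥C) := Subtype.ext (by rw [Subgroup.coe_zpow]; exact hi)
      have h2 : π c ^ i = zT := by rw [← map_zpow, hi', hπ]
      rcases Int.even_or_odd i with ⟨r, hr⟩ | ⟨r, hr⟩
      · rw [hr, zpow_add, ← (Commute.refl (π c)).mul_zpow, hT2, one_zpow] at h2
        exact absurd h2.symm hzT1
      · rw [hr, zpow_add, two_mul, zpow_add, ← (Commute.refl (π c)).mul_zpow, hT2, one_zpow, one_mul, zpow_one] at h2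
        exact h2
    · intro h
      set k := c * ((zT : ↥C))⁻¹ with hk
      have hk1 : π k = 1 := by rw [hk, map_mul, map_inv, hπ, h, mul_inv_cancel]
      have ho : Odd (orderOf k) := Nat.coprime_two_right.mp (hπk k hk1)
      have hcomm : Commute k (zT : ↥C) := by
        apply Subtype.ext
        exact Subgroup.mem_centralizer_singleton_iff.mp k.2
      have : c ^ orderOf k = (zT : ↥C) := by
        have hc : c = k * (zT : ↥C) := by rw [hk, inv_mul_cancel_right]
        obtain ⟨r, hr⟩ := ho
        conv_lhs => rw [hc, hcomm.mul_pow, pow_orderOf_eq_one, one_mul, hr, pow_succ, pow_mul, (show (zT : ↥C) ^ 2 = 1 by rw [sq]; exact congrArg Subtype.val (hT2 zT)), one_pow, one_mul]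
      show z ∈ Subgroup.zpowers (c : G)
      have := congrArg Subtype.val this
      rw [Subgroup.coe_pow] at this
      exact (show (c : G) ^ orderOf k = z from this) ▸ Subgroup.pow_mem _ (Subgroup.mem_zpowers _) _
  have hfD : ∀ c : ↥C, (F ∘ π) c ≠ 0 → D c := fun c h => (hiff c).mpr (by
    by_contra hn; exact h (if_neg hn))
  have hfc : IsClassFunction ↥C (F ∘ π) := fun x g => by
    show F (π (g * x * g⁻¹)) = F (π x)
    have hT : ∀ a b : ↥(T : Subgroup ↥C), a * b * a⁻¹ = b := fun a b => by
      have hi : ∀ q : ↥(T : Subgroup ↥C), q⁻¹ = q := fun q => inv_eq_of_mul_eq_one_right (hT2 q)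
      calc a * b * a⁻¹ = (a * b) * a := by rw [hi a]
        _ = (a * b)⁻¹ * a := by rw [hi (a * b)]
        _ = b⁻¹ := by group
        _ = b := hi b
    rw [map_mul, map_mul, map_inv, hT]
  have hhalf : ∀ x : G, D x → x ^ (orderOf x / 2) = z := by
    intro x hx
    have h2 : 2 ∣ orderOf x := hz ▸ orderOf_dvd_of_mem_zpowers hx
    have hcyc : Subgroup.zpowers (x ^ (orderOf x / 2)) = Subgroup.zpowers z :=
      Subgroup.eq_of_le_of_card_ge ?_ ?_
    · have hw : x ^ (orderOf x / 2) ∈ Subgroup.zpowers z := hcyc ▸ Subgroup.mem_zpowers _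
      obtain ⟨i, hi⟩ := Subgroup.mem_zpowers_iff.mp hw
      have ho := orderOf_half h2
      rcases Int.even_or_odd i with ⟨r, hr⟩ | ⟨r, hr⟩
      · rw [hr, zpow_add, ← (Commute.refl z).mul_zpow, mul_self_of_orderOf_two hz, one_zpow] at hi
        rw [← hi, orderOf_one] at ho; omega
      · rw [hr, zpow_add, two_mul, zpow_add, ← (Commute.refl z).mul_zpow, mul_self_of_orderOf_two hz, one_zpow, one_mul, zpow_one] at hi
        exact hi.symm
    · refine Subgroup.zpowers_le.mpr ?_
      obtain ⟨i, hi⟩ := mem_powers_iff_mem_zpowers.mpr hx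
      simp only at hi
      by_cases hdiv : (orderOf x / 2) ∣ i
      · obtain ⟨q, rfl⟩ := hdiv
        rw [pow_mul] at hi
        have ho := orderOf_half h2
        rcases Nat.even_or_odd q with ⟨r, rfl⟩ | ⟨r, rfl⟩
        · rw [← two_mul, pow_mul, sq, mul_self_of_orderOf_two ho, one_pow] at hi
          rw [← hi, orderOf_one] at hz; omega
        · rw [pow_succ, pow_mul, sq, mul_self_of_orderOf_two ho, one_pow, one_mul] at hi
          rw [hi]; exact Subgroup.mem_zpowers z
      · refine absurd ?_ hdiv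
        have : x ^ (i * 2) = 1 := by rw [pow_mul, hi, sq, mul_self_of_orderOf_two hz]
        have hd := orderOf_dvd_of_pow_eq_one this
        obtain ⟨m, hm⟩ := h2
        rw [hm, Nat.mul_div_cancel_left m two_pos]
        rw [hm, mul_comm i 2] at hd
        exact Nat.dvd_of_mul_dvd_mul_left two_pos hd
    · rw [Nat.card_zpowers, Nat.card_zpowers, hz, orderOf_half h2]
  have hTI : ∀ g x : G, x ∈ C → D x → g * x * g⁻¹ ∈ C → D (g * x * g⁻¹) → g ∈ C := by
    intro g x _ hx _ hgx
    have e1 := hhalf _ hgx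
    rw [orderOf_conj', conj_pow, hhalf x hx] at e1
    exact Subgroup.mem_centralizer_singleton_iff.mpr (mul_inv_eq_iff_eq_mul.mp e1)
  have key : evenF G = Cfsg.indFun C (F ∘ π) := by
    refine eq_indFun_special C D hfc hfD hTI (fun x g => by simp only [evenF, orderOf_conj']) (fun c hc => ?_) fun x hx => ?_
    · have h2 : 2 ∣ orderOf (c : G) := hz ▸ orderOf_dvd_of_mem_zpowers hc
      rw [evenF, if_pos h2]
      exact (if_pos ((hiff c).mp hc)).symm
    · have h2 : 2 ∣ orderOf x := by by_contra h; exact hx (if_neg h)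
      obtain ⟨w, hw⟩ := isConj_iff.mp (hone _ _ (orderOf_half h2) hz)
      refine ⟨w⁻¹, ?_, ?_⟩ <;> rw [inv_inv]
      · refine Subgroup.mem_centralizer_singleton_iff.mpr ?_
        have : Commute (w * x * w⁻¹) (w * x ^ (orderOf x / 2) * w⁻¹) := by
          rw [← conj_pow]; exact Commute.self_pow _ _
        rw [hw] at this
        exact this.eq
      · show z ∈ Subgroup.zpowers (w * x * w⁻¹)
        rw [← hw, ← conj_pow]
        exact Subgroup.pow_mem _ (Subgroup.mem_zpowers _) _
  letI : Fintype ↥(T : Subgroup ↥C) := Fintype.ofFinite _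
  rw [key, Char.classInner_indFun C _ (fun _ _ => rfl)]
  show classInner (F ∘ π) ((fun _ => (1 : ℂ)) ∘ π) = 1
  rw [Char.classInner_comp_surjective π (fun q => ⟨q, hπ q⟩), Cfsg.classInner]
  simp only [F, map_one, mul_one, Finset.sum_ite_eq', Finset.mem_univ, if_true]
  have hcard : Nat.card ↥(T : Subgroup ↥C) = 4 := by
    obtain ⟨g, hg⟩ := exists_conj_mem_sylow P (R := Subgroup.zpowers z)
      (IsPGroup.of_card (n := 1) (by rw [Nat.card_zpowers, hz, pow_one]))
    have hPC : (P : Subgroup G) ≤ (Subgroup.centralizer ({g * z * g⁻¹} : Set G)) := fun s hs =>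
      Subgroup.mem_centralizer_singleton_iff.mpr (congrArg Subtype.val
        (Commute.eq (show Commute (⟨s, hs⟩ : ↥(P : Subgroup G)) ⟨_, hg z (Subgroup.mem_zpowers z)⟩ from by
          haveI := hP
          exact mul_comm_of_exponent_two (IsKleinFour.exponent_two) _ _)))
    let φ : ↥(P : Subgroup G) →* ↥C := MonoidHom.mk' (fun s => ⟨g⁻¹ * (s : G) * g,
      Subgroup.mem_centralizer_singleton_iff.mpr (by
        have h := Subgroup.mem_centralizer_singleton_iff.mp (hPC s.2)
        calc g⁻¹ * (s : G) * g * z = g⁻¹ * ((s : G) * (g * z * g⁻¹)) * g := by group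
          _ = g⁻¹ * (g * z * g⁻¹ * (s : G)) * g := by rw [h]
          _ = _ := by group)⟩) (fun s t => Subtype.ext (by simp [mul_assoc]))
    have hφ : Function.Injective φ := fun s t h =>
      Subtype.ext (mul_left_cancel (mul_right_cancel (congrArg Subtype.val h)))
    refine le_antisymm ?_ ?_
    · obtain ⟨w, hw⟩ := exists_conj_mem_sylow P (T.2.map C.subtype)
      have := Nat.card_le_card_of_injective
        (fun r : ↥(T : Subgroup ↥C) => (⟨_, hw _ ⟨(r : ↥C), r.2, rfl⟩⟩ : ↥(P : Subgroup G))) fun r s h =>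
        Subtype.ext (Subtype.ext (mul_left_cancel (mul_right_cancel (congrArg Subtype.val h))))
      rwa [hP.card_four] at this
    · obtain ⟨w, hw⟩ := exists_conj_mem_sylow T (R := φ.range)
        (IsPGroup.of_card (n := 2) (by rw [← Nat.card_congr (MonoidHom.ofInjective hφ).toEquiv, hP.card_four]; rfl))
      have := Nat.card_le_card_of_injective
        (fun r : ↥φ.range => (⟨_, hw r r.2⟩ : ↥(T : Subgroup ↥C))) fun r s h =>
        Subtype.ext (mul_left_cancel (mul_right_cancel (congrArg Subtype.val h)))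
      rwa [← Nat.card_congr (MonoidHom.ofInjective hφ).toEquiv, hP.card_four] at this
  rw [hcard]
  norm_num

variable {M : Ideal AlgInt} (hM : IsPModular 2 M)

include hP hone hM in
theorem klein_block :
    (∀ χ : IrrCharacter G, χ ∈ principalBlock M G ↔ coeff (evenF G) χ ≠ 0) ∧
      ∀ χ ∈ principalBlock M G, ∀ z : G, orderOf z = 2 →
        (χ : G → ℂ) z = (coeff (evenF G) χ : ℂ) ∧ (4 : ℤ) ∣ (charDegree (χ : G → ℂ) : ℤ) - coeff (evenF G) χ := by
  haveI := Fact.mk Nat.prime_two
  have hG : (Nat.card G : ℂ) ≠ 0 := CfsgLib.Char.card_ne_zero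
  have hg := gc_evenF P hP
  set c := coeff (evenF G)
  have h4 : (pPartCard 2 G : ℂ) = 4 := by
    have h : Nat.card (P : Subgroup G) = pPartCard 2 G := P.card_eq_multiplicity
    rw [← h, hP.card_four]; norm_num
  set n := ∑ x : G with 2 ∣ orderOf x, (1 : ℂ) with hn
  have hn4 : 4 * n = (Nat.card G : ℂ) := by
    have h := classInner_evenF_one P hP hone
    rw [Cfsg.classInner, inv_mul_eq_iff_eq_mul₀ hG, mul_one] at h
    rw [← h, hn, Finset.mul_sum, Finset.sum_filter]
    simp [evenF]
  have hcm : ∀ χ : IrrCharacter G, (c χ : ℂ) * Nat.card G = 4 * ∑ x : G with 2 ∣ orderOf x, (χ : G → ℂ) x⁻¹ := by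
    intro χ
    rw [cast_coeff hg, Cfsg.classInner]
    field_simp
    rw [Finset.mul_sum, Finset.sum_filter]
    exact Finset.sum_congr rfl fun x _ => by rw [conj_irr, evenF]; split_ifs <;> ring
  -- values on elements of even order
  have hval : ∀ χ ∈ principalBlock M G, ∀ z : G, orderOf z = 2 → ∀ x : G, 2 ∣ orderOf x →
      (χ : G → ℂ) x = (χ : G → ℂ) z := by
    intro χ hχ z hz x hx
    obtain ⟨x2, x', -, hxx, hcomm, hreg, ⟨j, hj⟩, -, -⟩ := exists_isPPart Nat.prime_two x
    have hx2 : orderOf x2 = 2 := by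
      have h1 := orderOf_dvd_of_pow_eq_one (show x2 ^ 2 = 1 by rw [sq]; exact sq_eq_one_of_two_elem P hP ⟨j, hj⟩)
      rcases (Nat.dvd_prime Nat.prime_two).mp h1 with h | h
      · rw [orderOf_eq_one_iff.mp h, one_mul] at hxx
        exact absurd (hxx.symm ▸ hx) hreg
      · exact h
    have hnpc := npc_centralizer_involution P hP hx2
    have hx'C : x' ∈ Subgroup.centralizer ({x2} : Set G) := Subgroup.mem_centralizer_singleton_iff.mpr hcomm.eq.symm
    have h := principalBlock_apply_section hM (x := x2) ⟨j, hj⟩ hχ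
      (Cfsg.pResidual 2 ↥(Subgroup.centralizer ({x2} : Set G)))
      ((Nat.Prime.coprime_iff_not_dvd Nat.prime_two).mp (CfsgLib.Fusion.Basic.npc_iff_coprime.mp hnpc).symm)
      (y := ⟨x', hx'C⟩)
      (CfsgLib.Fusion.Basic.mem_pResidual_of_coprime (by
        rw [Subgroup.orderOf_mk]; exact ((Nat.Prime.coprime_iff_not_dvd Nat.prime_two).mpr hreg).symm))
    rw [show x2 * ((⟨x', hx'C⟩ : ↥(Subgroup.centralizer ({x2} : Set G))) : G) = x from hxx] at h
    obtain ⟨w, hw⟩ := isConj_iff.mp (hone x2 z hx2 hz)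
    rw [h, ← hw, irr_conj_apply]
  have hcval : ∀ χ ∈ principalBlock M G, ∀ z : G, orderOf z = 2 → (χ : G → ℂ) z = (c χ : ℂ) := by
    intro χ hχ z hz
    have h := hcm χ
    rw [Finset.sum_congr rfl (g := fun _ => (χ : G → ℂ) z * 1) fun x hx => by
      rw [hval χ hχ z hz x⁻¹ (by rw [orderOf_inv]; exact (Finset.mem_filter.1 hx).2), mul_one],
      ← Finset.mul_sum, ← hn] at h
    apply mul_right_cancel₀ hG
    linear_combination -h - (χ : G → ℂ) z * hn4
  have hr : ∀ χ : IrrCharacter G, regInt 2 (trivChar G) χ = 4 * (if trivChar G = χ then 1 else 0) - c χ := by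
    intro χ
    have hs := sum_mul_inv (trivChar G) χ
    have e1 : ∀ g : G, ((trivChar G : IrrCharacter G) : G → ℂ) g = 1 := fun _ => rfl
    simp only [e1, one_mul] at hs
    rw [← Finset.sum_filter_add_sum_filter_not Finset.univ (fun x : G => 2 ∣ orderOf x)] at hs
    have hreg : (regInt 2 (trivChar G) χ : ℂ) * Nat.card G = 4 * ∑ x : G with ¬ 2 ∣ orderOf x, (χ : G → ℂ) x⁻¹ := by
      rw [cast_regInt Nat.prime_two, regInner, h4]
      have : (Finset.univ.filter fun x : G => IsPRegular 2 x) = Finset.univ.filter fun x : G => ¬ 2 ∣ orderOf x :=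
        Finset.filter_congr fun x _ => Iff.rfl
      rw [this]
      simp only [e1, one_mul]
      field_simp
    apply Int.cast_injective (α := ℂ)
    apply mul_right_cancel₀ hG
    have hc' := hcm χ
    by_cases hd : trivChar G = χ
    · rw [if_pos hd] at hs ⊢
      push_cast
      linear_combination hreg + hc' + 4 * hs
    · rw [if_neg hd] at hs ⊢
      push_cast
      linear_combination hreg + hc' + 4 * hs
  have hB := isPBlock_principalBlock (G := G) (M := M)
  have htB : trivChar G ∈ principalBlock M G := trivChar_mem_principalBlock hM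
  have hdeg : degVal 2 (trivChar G) = minDegVal 2 (principalBlock M G) := by
    have h0 : degVal 2 (trivChar G) = 0 := by
      have : charDegree ((trivChar G : IrrCharacter G) : G → ℂ) = 1 := by
        show ⌊((1 : ℂ)).re⌋₊ = 1
        simp
      simp [degVal, this]
    have := minDegVal_le (p := 2) htB
    omega
  refine ⟨fun χ => ?_, fun χ hχ z hz => ⟨hcval χ hχ z hz, ?_⟩⟩
  · by_cases ht : trivChar G = χ
    · subst ht
      refine iff_of_true htB ?_
      have := cast_coeff hg (trivChar G)
      rw [show classInner (evenF G) ((trivChar G : IrrCharacter G) : G → ℂ) = classInner (evenF G) (fun _ => 1) from rfl,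
        classInner_evenF_one P hP hone] at this
      have h1 : c (trivChar G) = 1 := by exact_mod_cast this
      rw [h1]; norm_num
    constructor
    · intro hχ h0
      have := regInt_ne_zero_of_min hM hB htB hdeg hχ
      rw [hr, if_neg ht, h0] at this
      norm_num at this
    · intro h0
      by_contra hn'
      have := IsPBlock.regInner_eq_zero hM hB htB hn'
      rw [← cast_regInt Nat.prime_two] at this
      have h' : regInt 2 (trivChar G) χ = 0 := by exact_mod_cast this
      rw [hr, if_neg ht] at h'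
      omega
  · letI : Fintype ↥(P : Subgroup G) := Fintype.ofFinite _
    obtain ⟨k, hk⟩ := CfsgLib.Char.IsCharacter.classInner_nat
      (CfsgLib.Char.IsCharacter.restrict (Char.IsIrrCharacter.isCharacter χ.2) (P : Subgroup G)) CfsgLib.Char.isCharacter_one
    rw [Cfsg.classInner, inv_mul_eq_iff_eq_mul₀ CfsgLib.Char.card_ne_zero, hP.card_four] at hk
    simp only [map_one, mul_one] at hk
    rw [← Finset.add_sum_erase _ _ (Finset.mem_univ (1 : ↥(P : Subgroup G))),
      Finset.sum_congr rfl (f := fun q : ↥(P : Subgroup G) => (χ : G → ℂ) (q : G)) (g := fun _ => (c χ : ℂ)) fun q hq => hcval χ hχ (q : G) (by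
        rw [Subgroup.orderOf_coe]
        exact orderOf_eq_prime (by rw [sq]; exact hP.mul_self q) (Finset.mem_erase.1 hq).1),
      Finset.sum_const, Finset.card_erase_of_mem (Finset.mem_univ _), Finset.card_univ,
      Fintype.card_eq_nat_card, hP.card_four, OneMemClass.coe_one, irr_one_eq] at hk
    refine ⟨(k : ℤ) - c χ, ?_⟩
    have h' : ((charDegree (χ : G → ℂ) : ℤ) : ℂ) + 3 * (c χ : ℂ) = ((4 * (k : ℤ) : ℤ) : ℂ) := by
      push_cast
      rw [nsmul_eq_mul] at hk
      linear_combination hk
    have h'' : (charDegree (χ : G → ℂ) : ℤ) + 3 * c χ = 4 * (k : ℤ) := by exact_mod_cast h'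
    linarith

include hP hone in
theorem classInner_evenF_self : classInner (evenF G) (evenF G) = 4 := by
  have h : classInner (evenF G) (evenF G) = 4 * classInner (evenF G) (fun _ => 1) := by
    simp only [Cfsg.classInner, Finset.mul_sum]
    refine Finset.sum_congr rfl fun x _ => ?_
    simp only [evenF]
    split_ifs <;> simp only [map_ofNat, map_zero, map_one, mul_zero, zero_mul] <;> ring
  rw [h, classInner_evenF_one P hP hone, mul_one]

end CfsgLib.BrauerSuzuki
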