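import Cfsg.Agent.Lib.BrauerSuzuki.Q8Local

/-!
# The three generalized characters of norm 3 of the centralizer of the involution
-/

set_option autoImplicit false

namespace CfsgLib.BrauerSuzuki

open Cfsg CfsgLib.Blocks QuaternionGroup
open scoped Classical ComplexConjugate

section Norms

variable {G : Type*} [Group G] [Fintype G] {S : Sylow 2 G}
  {e : ↥(S : Subgroup G) ≃* QuaternionGroup 2}

theorem classInner_thetaF_self (hfus : Fus S e) : classInner (thetaF G) (thetaF G) = 4 := by
  have h : classInner (thetaF G) (thetaF G) = 4 * classInner (thetaF G) (fun _ => 1) := by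
    simp only [Cfsg.classInner, Finset.mul_sum]
    refine Finset.sum_congr rfl fun x _ => ?_
    simp only [thetaF]
    split_ifs <;> simp only [map_ofNat, map_zero, map_one, mul_zero, zero_mul] <;> ring
  rw [h, classInner_thetaF_one S e hfus, mul_one]

theorem classInner_alphaF_self (hfus : Fus S e) : classInner (alphaF G) (alphaF G) = 3 := by
  have h : classInner (alphaF G) (alphaF G) = 4 - classInner (thetaF G) (fun _ => 1) := by
    have hc : ∀ x : G, alphaF G x * conj (alphaF G x) = 4 - thetaF G x * conj (1 : ℂ) := fun x => by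
      simp only [alphaF, thetaF]
      split_ifs <;> simp only [map_ofNat, map_zero, map_one, map_neg] <;> ring
    simp only [Cfsg.classInner, hc, Finset.sum_sub_distrib, Finset.sum_const, nsmul_eq_mul,
      Finset.card_univ, Fintype.card_eq_nat_card, mul_sub]
    rw [← mul_assoc, inv_mul_cancel₀ CfsgLib.Char.card_ne_zero, one_mul]
  rw [h, classInner_thetaF_one S e hfus]
  norm_num

theorem classInner_thetaF_alphaF : classInner (thetaF G) (alphaF G) = 0 := by
  simp only [Cfsg.classInner]
  rw [Finset.sum_eq_zero fun x _ => ?_, mul_zero]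
  simp only [alphaF, thetaF]
  split_ifs <;> simp

theorem classInner_triv (θ : G → ℂ) :
    classInner θ ((trivChar G : IrrCharacter G) : G → ℂ) = classInner θ (fun _ => 1) := rfl

theorem coeff_intSum (c : IrrCharacter G → ℤ) (χ : IrrCharacter G) :
    coeff (fun y => ∑ ψ : IrrCharacter G, (c ψ : ℂ) * (ψ : G → ℂ) y) χ = c χ := by
  have h := cast_coeff (isGeneralizedCharacter_intSum c) χ
  have h2 := coeff_eq_of_sum_eq (c := fun ψ => (c ψ : ℂ)) (fun y => rfl) χ
  rw [Cfsg.classInner] at h
  simp only [conj_irr] at h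
  exact_mod_cast h.trans h2.symm

end Norms

section Beta

variable {H : Type*} [Group H] [Fintype H] {S : Sylow 2 H}
  {e : ↥(S : Subgroup H) ≃* QuaternionGroup 2} {M : Ideal AlgInt}

/-- The coefficients of a signed combination of three irreducible characters. -/
noncomputable def triCoeff (χ₀ χ₁ χ₂ : IrrCharacter H) (a b : ℤ) (ψ : IrrCharacter H) : ℤ :=
  (if ψ = χ₀ then 1 else 0) + (if ψ = χ₁ then a else 0) + (if ψ = χ₂ then b else 0)

theorem sum_triCoeff {R : Type*} [CommRing R] (χ₀ χ₁ χ₂ : IrrCharacter H) (a b : ℤ)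
    (F : IrrCharacter H → R) :
    ∑ ψ : IrrCharacter H, (triCoeff χ₀ χ₁ χ₂ a b ψ : R) * F ψ = F χ₀ + (a : R) * F χ₁ + (b : R) * F χ₂ := by
  simp [triCoeff, add_mul, ite_mul, Finset.sum_add_distrib]

theorem exists_beta (hfus : Fus S e) (hc : ∀ x, Commute (uEl S e) x) :
    ∃ β : Fin 3 → H → ℂ, ∀ i, IsGeneralizedCharacter H (β i) ∧ (∀ x, ¬ 2 ∣ orderOf x → β i x = 0) ∧
      classInner (β i) (fun _ => 1) = 1 ∧ classInner (β i) (β i) = 3 ∧
      classInner (β i) (thetaF H) = 2 ∧ classInner (β i) (alphaF H) = -1 ∧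
      ∀ k, i ≠ k → classInner (β i) (β k) = 1 := by
  obtain ⟨M, hM⟩ := exists_isPModular Nat.prime_two
  set c := coeff (thetaF H) with hcdef
  set a := coeff (alphaF H) with hadef
  set t := trivChar H with htdef
  have hgt := gc_thetaF S e
  have hga := gc_alphaF S e
  have ht0 : c t = 1 := by
    have := cast_coeff hgt t
    rw [classInner_triv, classInner_thetaF_one S e hfus] at this
    exact_mod_cast this
  have ha0 : a t = 0 := by
    have := cast_coeff hga t
    rw [classInner_triv, classInner_alphaF_one hc] at this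
    exact_mod_cast this
  have hP' : ∑ χ ∈ Finset.univ.erase t, c χ * c χ = ((3 : ℕ) : ℤ) := by
    have h := classInner_eq_sum_coeff hgt hgt
    rw [classInner_thetaF_self hfus] at h
    have h' : ∑ χ : IrrCharacter H, c χ * c χ = 4 := by exact_mod_cast h.symm
    rw [← Finset.add_sum_erase _ _ (Finset.mem_univ t), ht0] at h'
    push_cast
    omega
  have hE' : ∑ χ ∈ Finset.univ.erase t, a χ * a χ = ((3 : ℕ) : ℤ) := by
    have h := classInner_eq_sum_coeff hga hga
    rw [classInner_alphaF_self hfus] at h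
    have h' : ∑ χ : IrrCharacter H, a χ * a χ = 3 := by exact_mod_cast h.symm
    rw [← Finset.add_sum_erase _ _ (Finset.mem_univ t), ha0] at h'
    push_cast
    omega
  obtain ⟨hPu, hPc⟩ := unit_coeff _ c 3 le_rfl hP'
  obtain ⟨hEu, hEc⟩ := unit_coeff _ a 3 le_rfl hE'
  let P := (Finset.univ.erase t).filter fun χ => c χ ≠ 0
  let E := (Finset.univ.erase t).filter fun χ => a χ ≠ 0
  let ep := (Finset.equivFinOfCardEq (s := P) hPc).symm
  let ee := (Finset.equivFinOfCardEq (s := E) hEc).symm
  let p : Fin 3 → IrrCharacter H := fun i => (ep i : IrrCharacter H)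
  let q : Fin 3 → IrrCharacter H := fun i => (ee i : IrrCharacter H)
  have hp : ∀ i, p i ≠ t ∧ (c (p i) = 1 ∨ c (p i) = -1) ∧ sgn hc (p i) = 1 ∧ a (p i) = 0 := fun i => by
    obtain ⟨h1, h2⟩ := Finset.mem_filter.1 (ep i).2
    exact ⟨(Finset.mem_erase.1 h1).1, hPu _ h1 h2, (row_triv hc _).2.1 h2⟩
  have hq : ∀ i, q i ≠ t ∧ (a (q i) = 1 ∨ a (q i) = -1) ∧ sgn hc (q i) = -1 ∧ c (q i) = 0 := fun i => by
    obtain ⟨h1, h2⟩ := Finset.mem_filter.1 (ee i).2
    exact ⟨(Finset.mem_erase.1 h1).1, hEu _ h1 h2, (row_triv hc _).2.2 h2⟩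
  have hpinj : Function.Injective p := Subtype.val_injective.comp ep.injective
  have hqinj : Function.Injective q := Subtype.val_injective.comp ee.injective
  have hpq : ∀ i j, p i ≠ q j := fun i j h => by
    have h1 := (hp i).2.2.1
    rw [h, (hq j).2.2.1] at h1
    norm_num at h1
  have hPeq : ∀ χ, χ ≠ t → c χ ≠ 0 → ∃ i, p i = χ := fun χ h1 h2 =>
    ⟨ep.symm ⟨χ, Finset.mem_filter.2 ⟨Finset.mem_erase.2 ⟨h1, Finset.mem_univ _⟩, h2⟩⟩, by simp [p]⟩
  have hEeq : ∀ χ, χ ≠ t → a χ ≠ 0 → ∃ i, q i = χ := fun χ h1 h2 =>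
    ⟨ee.symm ⟨χ, Finset.mem_filter.2 ⟨Finset.mem_erase.2 ⟨h1, Finset.mem_univ _⟩, h2⟩⟩, by simp [q]⟩
  have hB := isPBlock_principalBlock (G := H) (M := M)
  have htB : t ∈ principalBlock M H := trivChar_mem_principalBlock hM
  have hdeg : degVal 2 t = minDegVal 2 (principalBlock M H) := by
    have h0 : degVal 2 t = 0 := by
      have : charDegree ((trivChar H : IrrCharacter H) : H → ℂ) = 1 := by
        show ⌊((1 : ℂ)).re⌋₊ = 1
        simp
      simp [degVal, htdef, this]
    have := minDegVal_le (p := 2) htB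
    omega
  -- the row of the trivial character
  have hr0 : ∀ χ, regInt 2 t χ = 4 * (if t = χ then 1 else 0) - c χ + 2 * a χ := fun χ => (row_triv hc χ).1
  have hr0t : regInt 2 t t = 3 := by rw [hr0, if_pos rfl, ht0, ha0]; norm_num
  have hr0p : ∀ i, regInt 2 t (p i) = -c (p i) := fun i => by
    rw [hr0, if_neg (hp i).1.symm, (hp i).2.2.2]; ring
  have hr0q : ∀ i, regInt 2 t (q i) = 2 * a (q i) := fun i => by
    rw [hr0, if_neg (hq i).1.symm, (hq i).2.2.2]; ring
  have hz : ∀ χ ψ : IrrCharacter H, χ ∈ principalBlock M H → ψ ∉ principalBlock M H → regInt 2 χ ψ = 0 := by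
    intro χ ψ h1 h2
    have := IsPBlock.regInner_eq_zero hM hB h1 h2
    rw [← cast_regInt Nat.prime_two] at this
    exact_mod_cast this
  have hpB : ∀ i, p i ∈ principalBlock M H := fun i => by
    by_contra h
    have := hz t _ htB h
    rw [hr0p] at this
    rcases (hp i).2.1 with h' | h' <;> omega
  have hqB : ∀ i, q i ∈ principalBlock M H := fun i => by
    by_contra h
    have := hz t _ htB h
    rw [hr0q] at this
    rcases (hq i).2.1 with h' | h' <;> omega
  have hB0 : ∀ χ, χ ∈ principalBlock M H → χ = t ∨ (∃ i, p i = χ) ∨ ∃ i, q i = χ := by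
    intro χ hχ
    by_cases h : χ = t
    · exact Or.inl h
    have hne := regInt_ne_zero_of_min hM hB htB hdeg hχ
    rw [hr0, if_neg (Ne.symm h)] at hne
    by_cases h1 : c χ = 0
    · by_cases h2 : a χ = 0
      · rw [h1, h2] at hne; norm_num at hne
      · exact Or.inr (Or.inr (hEeq χ h h2))
    · exact Or.inr (Or.inl (hPeq χ h h1))
  -- orthogonality inside the principal block
  have hpp : ∀ i k, regInt 2 (p i) (p k) = 4 * (if i = k then 1 else 0) - c (p i) * c (p k) := by
    intro i k
    have := orth_principal hc hfus hM (hpB i) (hpB k)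
    rw [(hp i).2.2.1, (hp k).2.2.1] at this
    simp only [hpinj.eq_iff, ← hcdef] at this
    linarith
  have hqq : ∀ i k, regInt 2 (q i) (q k) = 4 * (if i = k then 1 else 0) := by
    intro i k
    have := orth_principal hc hfus hM (hqB i) (hqB k)
    rw [(hq i).2.2.1, (hq k).2.2.1] at this
    simp only [hqinj.eq_iff, ← hcdef, (hq i).2.2.2, (hq k).2.2.2] at this
    linarith
  have hsupp : ∀ F : IrrCharacter H → ℤ, (∀ χ, χ ∉ principalBlock M H → F χ = 0) →
      ∑ χ : IrrCharacter H, F χ = F t + (∑ i, F (p i) + ∑ j, F (q j)) := by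
    intro F hF
    let f : Unit ⊕ (Fin 3 ⊕ Fin 3) → IrrCharacter H := Sum.elim (fun _ => t) (Sum.elim p q)
    have hinj : Function.Injective f := by
      rintro (x | x | x) (y | y | y) h <;> simp only [f, Sum.elim_inl, Sum.elim_inr] at h
      · rfl
      · exact absurd h.symm (hp y).1
      · exact absurd h.symm (hq y).1
      · exact absurd h (hp x).1
      · rw [hpinj h]
      · exact absurd h (hpq x y)
      · exact absurd h (hq x).1
      · exact absurd h.symm (hpq y x)
      · rw [hqinj h]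
    rw [← Fintype.sum_of_injective f hinj (fun x => F (f x)) F ?_ (fun _ => rfl)]
    · simp [f, Fintype.sum_sum_type]
    · intro χ hχ
      refine hF χ fun h => hχ ?_
      rcases hB0 χ h with rfl | ⟨i, rfl⟩ | ⟨i, rfl⟩
      exacts [⟨Sum.inl (), rfl⟩, ⟨Sum.inr (Sum.inl i), rfl⟩, ⟨Sum.inr (Sum.inr i), rfl⟩]
  -- squares of the matrix
  have hsq : ∀ χ φ : IrrCharacter H, χ ∈ principalBlock M H →
      ∑ ψ : IrrCharacter H, regInt 2 χ ψ * regInt 2 ψ φ = 8 * regInt 2 χ φ := by
    intro χ φ hχ
    apply Int.cast_injective (α := ℂ)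
    push_cast
    simp only [cast_regInt Nat.prime_two]
    have h := sum_regInner_sq hM (IsPBlock.isLocalOn hM hB) χ φ
    rw [blockInd_of_mem hχ, mul_one, pPartCard_eq S e] at h
    rw [← h]
    refine Finset.sum_congr rfl fun ψ _ => ?_
    by_cases hψ : ψ ∈ principalBlock M H
    · rw [blockInd_of_mem hψ, one_mul]
    · rw [IsPBlock.regInner_eq_zero hM hB hχ hψ]; ring
  have hrow : ∀ k, ∑ j, a (q j) * regInt 2 (p k) (q j) = -2 * c (p k) := by
    intro k
    have h := hsq (p k) t (hpB k)
    rw [hsupp _ fun ψ hψ => by rw [hz _ ψ (hpB k) hψ, zero_mul]] at h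
    simp only [regInt_comm (p := 2) _ t, hr0t, hr0p, hr0q, hpp] at h
    rcases (hp 0).2.1 with h0 | h0 <;> rcases (hp 1).2.1 with h1 | h1 <;> rcases (hp 2).2.1 with h2 | h2 <;>
      fin_cases k <;> simp [Fin.sum_univ_three, h0, h1, h2] at h ⊢ <;> linarith
  have hbb : ∀ i k, ∑ j, regInt 2 (p i) (q j) * regInt 2 (p k) (q j) =
      16 * (if i = k then 1 else 0) - 4 * (c (p i) * c (p k)) := by
    intro i k
    have h := hsq (p i) (p k) (hpB i)
    rw [hsupp _ fun ψ hψ => by rw [hz _ ψ (hpB i) hψ, zero_mul]] at h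
    simp only [regInt_comm (p := 2) (p i) t, regInt_comm (p := 2) (q _) (p k), hr0p, hpp] at h
    rcases (hp 0).2.1 with h0 | h0 <;> rcases (hp 1).2.1 with h1 | h1 <;> rcases (hp 2).2.1 with h2 | h2 <;>
      fin_cases i <;> fin_cases k <;> simp [Fin.sum_univ_three, h0, h1, h2] at h ⊢ <;> linarith
  have hcc : ∀ i, c (p i) * c (p i) = 1 := fun i => by rcases (hp i).2.1 with h | h <;> rw [h] <;> rfl
  have haa : ∀ i, a (q i) * a (q i) = 1 := fun i => by rcases (hq i).2.1 with h | h <;> rw [h] <;> rfl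
  have hb2 : ∀ i j, regInt 2 (p i) (q j) = 2 ∨ regInt 2 (p i) (q j) = -2 := by
    intro i j
    have h := hbb i i
    rw [if_pos rfl, hcc, Fin.sum_univ_three] at h
    obtain ⟨h1, h2, h3⟩ := sq_sum_twelve (x := regInt 2 (p i) (q 0)) (y := regInt 2 (p i) (q 1))
      (z := regInt 2 (p i) (q 2)) (by rw [sq, sq, sq]; linarith)
    fin_cases j <;> assumption
  let w : Fin 3 → Fin 3 → ℤ := fun i j => regInt 2 (p i) (q j) / 2 * (c (p i) * a (q j))
  have hw2 : ∀ i j, regInt 2 (p i) (q j) = 2 * (w i j * (c (p i) * a (q j))) := fun i j => by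
    have he : 2 * (regInt 2 (p i) (q j) / 2) = regInt 2 (p i) (q j) := by
      rcases hb2 i j with h | h <;> rw [h] <;> rfl
    calc regInt 2 (p i) (q j) = 2 * (regInt 2 (p i) (q j) / 2) * ((c (p i) * c (p i)) * (a (q j) * a (q j))) := by
          rw [hcc, haa, he]; ring
      _ = _ := by ring
  obtain ⟨σ, hσ, hwσ⟩ := exists_perm_of_signs w (fun i j => by
      rcases hb2 i j with h | h <;> rcases (hp i).2.1 with h' | h' <;> rcases (hq j).2.1 with h'' | h'' <;>
        simp [w, h, h', h''])
    (fun i => by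
      have h := hrow i
      have h' : ∑ j, a (q j) * regInt 2 (p i) (q j) = 2 * c (p i) * ∑ j, w i j := by
        rw [Finset.mul_sum]
        exact Finset.sum_congr rfl fun j _ => by rw [hw2 i j]; linear_combination (2 * (w i j) * c (p i)) * haa j
      rw [h'] at h
      rcases (hp i).2.1 with h0 | h0 <;> rw [h0] at h <;> linarith)
    (fun i k hik => by
      have h := hbb i k
      rw [if_neg hik] at h
      have h' : ∑ j, regInt 2 (p i) (q j) * regInt 2 (p k) (q j) = 4 * (c (p i) * c (p k)) * ∑ j, w i j * w k j := by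
        rw [Finset.mul_sum]
        exact Finset.sum_congr rfl fun j _ => by
          rw [hw2 i j, hw2 k j]; linear_combination (4 * w i j * w k j * c (p i) * c (p k)) * haa j
      rw [h'] at h
      rcases (hp i).2.1 with h0 | h0 <;> rcases (hp k).2.1 with h1 | h1 <;> rw [h0, h1] at h <;> linarith)
  let v : Fin 3 → IrrCharacter H → ℤ := fun i => triCoeff t (p i) (q (σ i)) (c (p i)) (-a (q (σ i)))
  let β : Fin 3 → H → ℂ := fun i y => ∑ ψ : IrrCharacter H, (v i ψ : ℂ) * (ψ : H → ℂ) y
  have hg : ∀ i, IsGeneralizedCharacter H (β i) := fun i => isGeneralizedCharacter_intSum _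
  have hcoeff : ∀ i χ, coeff (β i) χ = v i χ := fun i χ => coeff_intSum _ χ
  have hinner : ∀ i (θ : H → ℂ), IsGeneralizedCharacter H θ → classInner (β i) θ =
      ((coeff θ t + c (p i) * coeff θ (p i) + (-a (q (σ i))) * coeff θ (q (σ i)) : ℤ) : ℂ) := by
    intro i θ hθ
    rw [classInner_eq_sum_coeff (hg i) hθ]
    congr 1
    simp only [hcoeff]
    exact sum_triCoeff t (p i) (q (σ i)) (c (p i)) (-a (q (σ i))) (coeff θ)
  refine ⟨β, fun i => ⟨hg i, fun x hx => ?_, ?_, ?_, ?_, ?_, fun k hik => ?_⟩⟩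
  · have hcomb : ∀ ψ, regInt 2 t ψ + c (p i) * regInt 2 (p i) ψ + (-a (q (σ i))) * regInt 2 (q (σ i)) ψ = 0 := by
      intro ψ
      by_cases hψ : ψ ∈ principalBlock M H
      · rcases hB0 ψ hψ with rfl | ⟨k, rfl⟩ | ⟨j, rfl⟩
        · rw [hr0t, regInt_comm (p i), regInt_comm (q (σ i)), hr0p, hr0q]
          linear_combination -hcc i - 2 * haa (σ i)
        · rw [hr0p, hpp, regInt_comm (q (σ i)), hw2, hwσ]
          by_cases h : i = k
          · subst h
            rw [if_pos rfl, if_pos rfl]
            linear_combination (-c (p i)) * hcc i - 2 * c (p i) * haa (σ i)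
          · rw [if_neg h, if_neg fun h' => h (hσ h')]
            linear_combination (-c (p k)) * hcc i + 2 * c (p k) * haa (σ i)
        · rw [hr0q, hqq, hw2, hwσ]
          by_cases h : σ i = j
          · subst h
            rw [if_pos rfl, if_pos rfl]
            linear_combination 2 * a (q (σ i)) * hcc i
          · rw [if_neg h, if_neg (Ne.symm h)]
            linear_combination (-2 * a (q j)) * hcc i
      · rw [hz t ψ htB hψ, hz _ ψ (hpB i) hψ, hz _ ψ (hqB (σ i)) hψ]; ring
    have hsum : ∀ χ ∈ principalBlock M H,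
        ∑ ψ : IrrCharacter H, (regInt 2 χ ψ : ℂ) * (ψ : H → ℂ) x = 8 * (χ : H → ℂ) x := by
      intro χ hχ
      have h := sum_regInner_mul hM (IsPBlock.isLocalOn hM hB) χ x
      rw [if_pos (show IsPRegular 2 x from hx), blockInd_of_mem hχ, mul_one, pPartCard_eq S e] at h
      rw [← h]
      refine Finset.sum_congr rfl fun ψ _ => ?_
      rw [cast_regInt Nat.prime_two]
      by_cases hψ : ψ ∈ principalBlock M H
      · rw [blockInd_of_mem hψ, one_mul]
      · rw [IsPBlock.regInner_eq_zero hM hB hχ hψ]; ring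
    have h8 : 8 * β i x = 0 := by
      simp only [β, v]
      rw [sum_triCoeff (R := ℂ) t (p i) (q (σ i)) (c (p i)) (-a (q (σ i))) (fun ψ => (ψ : H → ℂ) x), mul_add, mul_add,
        mul_left_comm, mul_left_comm (8 : ℂ) ((-a (q (σ i)) : ℤ) : ℂ), ← hsum t htB, ← hsum _ (hpB i),
        ← hsum _ (hqB (σ i)), Finset.mul_sum, Finset.mul_sum, ← Finset.sum_add_distrib, ← Finset.sum_add_distrib]
      refine Finset.sum_eq_zero fun ψ _ => ?_
      have := congrArg (fun z : ℤ => (z : ℂ) * (ψ : H → ℂ) x) (hcomb ψ)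
      push_cast at this ⊢
      linear_combination this
    exact (mul_eq_zero.mp h8).resolve_left (by norm_num)
  · rw [← classInner_triv, ← cast_coeff (hg i), hcoeff]
    simp [v, triCoeff, (hp i).1.symm, (hq (σ i)).1.symm, ← htdef]
  · rw [hinner i _ (hg i), hcoeff, hcoeff, hcoeff]
    simp only [v, triCoeff, (hp i).1, (hq (σ i)).1, (hp i).1.symm, (hq (σ i)).1.symm, hpq i (σ i),
      (hpq i (σ i)).symm, if_true, if_false]
    have h : (1 + 0 + 0 + c (p i) * (0 + c (p i) + 0) + -a (q (σ i)) * (0 + 0 + -a (q (σ i))) : ℤ) = 3 := by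
      linear_combination hcc i + haa (σ i)
    rw [h]; norm_num
  · rw [hinner i _ hgt, ← hcdef, ht0, (hq (σ i)).2.2.2, hcc]
    norm_num
  · rw [hinner i _ hga, ← hadef, ha0, (hp i).2.2.2, neg_mul, haa]
    norm_num
  · rw [hinner i _ (hg k), hcoeff, hcoeff, hcoeff]
    simp [v, triCoeff, (hp i).1, (hq (σ i)).1, (hp k).1.symm, (hq (σ k)).1.symm, hpq i (σ k),
      (hpq k (σ i)).symm, hpinj.eq_iff, hik, hqinj.eq_iff, hσ.eq_iff]

end Beta

end CfsgLib.BrauerSuzuki

namespace CfsgLib.BrauerSuzuki

open Cfsg CfsgLib.Blocks QuaternionGroup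
open scoped Classical

variable {H : Type*} [Group H] [Fintype H] {S : Sylow 2 H}
  {e : ↥(S : Subgroup H) ≃* QuaternionGroup 2} {M : Ideal AlgInt}

/-- The principal block has seven characters when the involution is central and `Fus` holds. -/
theorem card_principalBlock (hM : IsPModular 2 M) (hfus : Fus S e) (hc : ∀ x, Commute (uEl S e) x) :
    Nat.card (principalBlock M H) = 7 := by
  have hgt := gc_thetaF S e
  have hga := gc_alphaF S e
  set t := trivChar H with htdef
  set c := coeff (thetaF H) with hcdef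
  set a := coeff (alphaF H) with hadef
  have ht0 : c t = 1 := by
    have := cast_coeff hgt t
    rw [classInner_triv, classInner_thetaF_one S e hfus] at this
    exact_mod_cast this
  have ha0 : a t = 0 := by
    have := cast_coeff hga t
    rw [classInner_triv, classInner_alphaF_one hc] at this
    exact_mod_cast this
  have hP' : ∑ χ ∈ Finset.univ.erase t, c χ * c χ = ((3 : ℕ) : ℤ) := by
    have h := classInner_eq_sum_coeff hgt hgt
    rw [classInner_thetaF_self hfus] at h
    have h' : ∑ χ : IrrCharacter H, c χ * c χ = 4 := by exact_mod_cast h.symm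
    rw [← Finset.add_sum_erase _ _ (Finset.mem_univ t), ht0] at h'
    push_cast
    omega
  have hE' : ∑ χ ∈ Finset.univ.erase t, a χ * a χ = ((3 : ℕ) : ℤ) := by
    have h := classInner_eq_sum_coeff hga hga
    rw [classInner_alphaF_self hfus] at h
    have h' : ∑ χ : IrrCharacter H, a χ * a χ = 3 := by exact_mod_cast h.symm
    rw [← Finset.add_sum_erase _ _ (Finset.mem_univ t), ha0] at h'
    push_cast
    omega
  obtain ⟨hPu, hPc⟩ := unit_coeff _ c 3 le_rfl hP'
  obtain ⟨hEu, hEc⟩ := unit_coeff _ a 3 le_rfl hE'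
  have hB := isPBlock_principalBlock (G := H) (M := M)
  have htB : t ∈ principalBlock M H := trivChar_mem_principalBlock hM
  have hdeg : degVal 2 t = minDegVal 2 (principalBlock M H) := by
    have h0 : degVal 2 t = 0 := by
      have : charDegree ((trivChar H : IrrCharacter H) : H → ℂ) = 1 := by
        show ⌊((1 : ℂ)).re⌋₊ = 1
        simp
      simp [degVal, htdef, this]
    have := minDegVal_le (p := 2) htB
    omega
  have hmem : ∀ χ, χ ∈ principalBlock M H ↔ (χ = t ∨ c χ ≠ 0 ∨ a χ ≠ 0) := by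
    intro χ
    obtain ⟨hr, hct, hat⟩ := row_triv hc χ
    rw [← hcdef, ← hadef, ← htdef] at hr
    rw [← hcdef, ← hadef] at hct hat
    constructor
    · intro hχ
      by_contra hn
      push Not at hn
      have := regInt_ne_zero_of_min hM hB htB hdeg hχ
      rw [hr, if_neg (Ne.symm hn.1), hn.2.1, hn.2.2] at this
      norm_num at this
    · intro h
      by_contra hn
      have := IsPBlock.regInner_eq_zero hM hB htB hn
      rw [← cast_regInt Nat.prime_two] at this
      have h0 : regInt 2 t χ = 0 := by exact_mod_cast this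
      rw [hr] at h0
      by_cases h1 : t = χ
      · rw [if_pos h1, ← h1, ht0, ha0] at h0; norm_num at h0
      rw [if_neg h1] at h0
      rcases h with h | h | h
      · exact h1 h.symm
      · have := (hct h).2; rw [this] at h0; omega
      · have := (hat h).2; rw [this] at h0; omega
  let P := (Finset.univ.erase t).filter fun χ => c χ ≠ 0
  let E := (Finset.univ.erase t).filter fun χ => a χ ≠ 0
  have hdisj : Disjoint P E := Finset.disjoint_filter.2 fun χ _ h1 h2 => h2 ((row_triv hc χ).2.1 h1).2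
  have hset : (principalBlock M H).toFinset = insert t (P ∪ E) := by
    ext χ
    rw [Set.mem_toFinset, hmem, Finset.mem_insert, Finset.mem_union]
    by_cases h : χ = t
    · simp [h]
    · simp [P, E, h]
  rw [Nat.card_eq_card_toFinset, hset, Finset.card_insert_of_notMem (by simp [P, E]),
    Finset.card_union_of_disjoint hdisj]
  show P.card + E.card + 1 = 7
  rw [hPc, hEc]

end CfsgLib.BrauerSuzuki
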