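import Cfsg.Agent.Lib.BrauerSuzuki.Q8Beta

/-!
# Brauer-Suzuki for quaternion groups of order 8: all elements of order 4 conjugate

The exceptional generalized characters are induced from the centralizer of the involution.
-/

set_option autoImplicit false

namespace CfsgLib.BrauerSuzuki

open Cfsg CfsgLib.Blocks QuaternionGroup
open scoped Classical ComplexConjugate

theorem eq_zero_of_weighted {a b k u v : ℝ} (ha : 0 < a) (hb : 0 < b) (hk : 0 < k)
    (h : u ^ 2 / a + v ^ 2 / b + (-(u + v)) ^ 2 / (-(a + b + k)) = 0) : u = 0 ∧ v = 0 := by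
  have hs : (0 : ℝ) < a + b + k := by linarith
  field_simp at h
  have h2 : (u * b - v * a) ^ 2 + k * (u ^ 2 * b + v ^ 2 * a) = 0 := by linarith
  have h3 : u ^ 2 * b + v ^ 2 * a = 0 := by
    nlinarith [mul_nonneg hk.le (add_nonneg (mul_nonneg (sq_nonneg u) hb.le) (mul_nonneg (sq_nonneg v) ha.le)),
      sq_nonneg (u * b - v * a), mul_nonneg (sq_nonneg u) hb.le, mul_nonneg (sq_nonneg v) ha.le]
  have hu : u ^ 2 * b = 0 := by nlinarith [mul_nonneg (sq_nonneg u) hb.le, mul_nonneg (sq_nonneg v) ha.le]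
  have hv : v ^ 2 * a = 0 := by linarith
  exact ⟨by simpa [hb.ne'] using hu, by simpa [ha.ne'] using hv⟩

/-- `u` and `v` are equal on two positive weights. -/
theorem eq_of_two_pos {X₀ X₁ X₂ x₀ x₁ x₂ : ℝ} (h0 : 0 < X₀) (h1 : 0 < X₁)
    (hX : X₀ + X₁ + X₂ = -1) (hx : x₀ + x₁ + x₂ = -1)
    (hid : x₀ ^ 2 / X₀ + x₁ ^ 2 / X₁ + x₂ ^ 2 / X₂ = -1) : x₀ = X₀ := by
  have h2 : X₂ < 0 := by linarith
  have key : (x₀ - X₀) ^ 2 / X₀ + (x₁ - X₁) ^ 2 / X₁ + (x₂ - X₂) ^ 2 / X₂ = 0 := by
    have e : ∀ x X : ℝ, X ≠ 0 → (x - X) ^ 2 / X = x ^ 2 / X - 2 * x + X := fun x X hne => by field_simp; ring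
    rw [e _ _ h0.ne', e _ _ h1.ne', e _ _ h2.ne]
    linarith
  rw [show x₂ - X₂ = -((x₀ - X₀) + (x₁ - X₁)) by linarith, show X₂ = -(X₀ + X₁ + 1) by linarith] at key
  linarith [(eq_zero_of_weighted h0 h1 one_pos key).1]

/-- `u` and `-v` are equal on two negative weights. -/
theorem eq_of_two_neg {Y₀ Y₁ Y₂ y₀ y₁ y₂ : ℝ} (h1 : Y₁ < 0) (h2 : Y₂ < 0)
    (hY : Y₀ + Y₁ + Y₂ = 2) (hy : y₀ + y₁ + y₂ = -2)
    (hid : y₀ ^ 2 / Y₀ + y₁ ^ 2 / Y₁ + y₂ ^ 2 / Y₂ = 2) : y₁ = -Y₁ := by
  have h0 : 0 < Y₀ := by linarith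
  have key : (y₀ + Y₀) ^ 2 / Y₀ + (y₁ + Y₁) ^ 2 / Y₁ + (y₂ + Y₂) ^ 2 / Y₂ = 0 := by
    have e : ∀ x X : ℝ, X ≠ 0 → (x + X) ^ 2 / X = x ^ 2 / X + 2 * x + X := fun x X hne => by field_simp; ring
    rw [e _ _ h0.ne', e _ _ h1.ne, e _ _ h2.ne]
    linarith
  have k2 : (y₁ + Y₁) ^ 2 / (-Y₁) + (y₂ + Y₂) ^ 2 / (-Y₂) +
      (-((y₁ + Y₁) + (y₂ + Y₂))) ^ 2 / (-((-Y₁) + (-Y₂) + 2)) = 0 := by
    rw [show -((y₁ + Y₁) + (y₂ + Y₂)) = y₀ + Y₀ by linarith, show (-((-Y₁) + (-Y₂) + 2) : ℝ) = -Y₀ by linarith,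
      div_neg, div_neg, div_neg]
    linarith
  linarith [(eq_zero_of_weighted (neg_pos.2 h1) (neg_pos.2 h2) two_pos k2).1]

variable {G : Type*} [Group G] [Fintype G] {S : Sylow 2 G}
  {e : ↥(S : Subgroup G) ≃* QuaternionGroup 2}

theorem classInner_alphaF_one_global (hfus : Fus S e) : classInner (alphaF G) (fun _ => 1) = 0 := by
  let H := cU S e
  let D : G → Prop := fun x => 2 ∣ orderOf x
  let f : ↥H → ℂ := fun h => 2 - alphaF ↥H h
  have hD : ∀ h : ↥H, f h ≠ 0 → D h := fun h hne => by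
    by_contra hn
    rw [show D h = (2 ∣ orderOf (h : G)) from rfl, Subgroup.orderOf_coe] at hn
    exact hne (by simp [f, alphaF_of_odd hn])
  have hfc : IsClassFunction ↥H f := fun x g => by simp only [f, alphaF_isClassFunction x g]
  have hTI : ∀ g x : G, x ∈ H → D x → g * x * g⁻¹ ∈ H → D (g * x * g⁻¹) → g ∈ H :=
    fun g x hx h2 hgx _ => mem_cU_of_even S e hx h2 hgx
  have key : (fun x : G => 2 - alphaF G x) = Cfsg.indFun H f := by
    refine eq_indFun_special H D hfc hD hTI (fun x g => by simp only [alphaF_isClassFunction x g]) ?_ ?_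
    · intro h _
      simp only [f, alphaF_coe]
    · intro g hg
      have h2 : 2 ∣ orderOf g := by by_contra hn; exact hg (by simp [alphaF_of_odd hn])
      obtain ⟨x, hx⟩ := exists_conj_mem_cU S e h2
      refine ⟨x, hx, ?_⟩
      show 2 ∣ orderOf (x⁻¹ * g * x)
      have := orderOf_conj' x⁻¹ g
      rw [inv_inv] at this
      rwa [this]
  have hlin : ∀ {K : Type _} [Group K] [Fintype K] (F : K → ℂ),
      classInner (fun x => 2 - F x) (fun _ => 1) = 2 - classInner F (fun _ => 1) := by
    intro K _ _ F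
    simp only [Cfsg.classInner, map_one, mul_one, Finset.sum_sub_distrib, Finset.sum_const, nsmul_eq_mul,
      Finset.card_univ, Fintype.card_eq_nat_card, mul_sub]
    rw [← mul_assoc, inv_mul_cancel₀ CfsgLib.Char.card_ne_zero, one_mul]
  have h1 : classInner (fun x : G => 2 - alphaF G x) (fun _ => 1) = classInner f (fun _ => 1) := by
    rw [key, Char.classInner_indFun H f (fun _ _ => rfl)]
  rw [hlin, hlin, classInner_alphaF_one (S := sU S e) (e := eU S e) (uEl_central S e)] at h1
  linear_combination -h1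

theorem exists_induced_beta (hfus : Fus S e) :
    ∃ B : Fin 3 → G → ℂ, ∀ i, IsGeneralizedCharacter G (B i) ∧ B i 1 = 0 ∧
      classInner (B i) (fun _ => 1) = 1 ∧ classInner (B i) (B i) = 3 ∧
      classInner (B i) (thetaF G) = 2 ∧ classInner (B i) (alphaF G) = -1 ∧
      ∀ k, i ≠ k → classInner (B i) (B k) = 1 := by
  let H := cU S e
  obtain ⟨β, hβ⟩ := exists_beta (fus_cU S e hfus) (uEl_central S e)
  let D : G → Prop := fun x => 2 ∣ orderOf x
  have hD : ∀ i, ∀ h : ↥H, β i h ≠ 0 → D h := fun i h hne => by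
    by_contra hn
    rw [show D h = (2 ∣ orderOf (h : G)) from rfl, Subgroup.orderOf_coe] at hn
    exact hne ((hβ i).2.1 h hn)
  have hTI : ∀ g x : G, x ∈ H → D x → g * x * g⁻¹ ∈ H → D (g * x * g⁻¹) → g ∈ H :=
    fun g x hx h2 hgx _ => mem_cU_of_even S e hx h2 hgx
  refine ⟨fun i => Cfsg.indFun H (β i), fun i => ?_⟩
  obtain ⟨hg, h0, h1, h3, hθ, hα, hik⟩ := hβ i
  refine ⟨Char.IsGeneralizedCharacter.indFun H hg, ?_, ?_, ?_, ?_, ?_, fun k hne => ?_⟩
  · show Cfsg.indFun H (β i) 1 = 0
    rw [Char.indFun_def, Finset.sum_eq_zero, mul_zero]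
    intro x _
    rw [Char.extendByZero_apply_mem H (β i) (by simp)]
    refine h0 _ ?_
    rw [← Subgroup.orderOf_coe]
    simp
  · rw [Char.classInner_indFun H (β i) (fun _ _ => rfl)]; exact h1
  · rw [classInner_indFun_special H D (Char.isGeneralizedCharacter_iff.1 hg).1 (hD i) (hD i) hTI]; exact h3
  · rw [Char.classInner_indFun H (β i) thetaF_isClassFunction, ← hθ]
    congr 1; funext h; exact thetaF_coe H h
  · rw [Char.classInner_indFun H (β i) alphaF_isClassFunction, ← hα]
    congr 1; funext h; exact alphaF_coe H h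
  · rw [classInner_indFun_special H D (Char.isGeneralizedCharacter_iff.1 (hβ k).1).1 (hD i) (hD k) hTI]
    exact hik k hne

theorem sum_supp {R : Type*} [CommRing R] {c : IrrCharacter G → ℤ} {p : Fin 3 → IrrCharacter G}
    (hp : Function.Injective p) (hpt : ∀ i, p i ≠ trivChar G)
    (hs : ∀ χ, χ ≠ trivChar G → c χ ≠ 0 → ∃ i, p i = χ) (F : IrrCharacter G → R) :
    ∑ χ : IrrCharacter G, (c χ : R) * F χ =
      (c (trivChar G) : R) * F (trivChar G) + ∑ i, (c (p i) : R) * F (p i) := by
  rw [← Finset.add_sum_erase _ _ (Finset.mem_univ (trivChar G))]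
  congr 1
  rw [← Finset.sum_image (g := p) (f := fun χ => (c χ : R) * F χ) fun x _ y _ h => hp h]
  refine (Finset.sum_subset (fun χ hχ => ?_) fun χ hχ hn => ?_).symm
  · obtain ⟨i, -, rfl⟩ := Finset.mem_image.1 hχ
    exact Finset.mem_erase.2 ⟨hpt i, Finset.mem_univ _⟩
  · have : c χ = 0 := by
      by_contra h
      obtain ⟨i, rfl⟩ := hs χ (Finset.mem_erase.1 hχ).1 h
      exact hn (Finset.mem_image.2 ⟨i, Finset.mem_univ _, rfl⟩)
    rw [this]; simp

theorem image_eq_of_card {c : IrrCharacter G → ℤ} {p : Fin 3 → IrrCharacter G}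
    (hcard : ((Finset.univ.erase (trivChar G)).filter fun χ => c χ ≠ 0).card = 3)
    (hp : Function.Injective p) (hpt : ∀ i, p i ≠ trivChar G) (hc : ∀ i, c (p i) ≠ 0) :
    ∀ χ, χ ≠ trivChar G → c χ ≠ 0 → ∃ i, p i = χ := by
  intro χ h1 h2
  have heq : Finset.univ.image p = (Finset.univ.erase (trivChar G)).filter fun χ => c χ ≠ 0 := by
    refine Finset.eq_of_subset_of_card_le (fun x hx => ?_) ?_
    · obtain ⟨i, -, rfl⟩ := Finset.mem_image.1 hx
      exact Finset.mem_filter.2 ⟨Finset.mem_erase.2 ⟨hpt i, Finset.mem_univ _⟩, hc i⟩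
    · rw [hcard, Finset.card_image_of_injective _ hp]; rfl
  have : χ ∈ Finset.univ.image p :=
    heq ▸ Finset.mem_filter.2 ⟨Finset.mem_erase.2 ⟨h1, Finset.mem_univ _⟩, h2⟩
  obtain ⟨i, -, hi⟩ := Finset.mem_image.1 this
  exact ⟨i, hi⟩

theorem exists_char_of_fus (hfus : Fus S e) :
    ∃ χ : IrrCharacter G, χ ≠ trivChar G ∧
      ((χ : G → ℂ) (uEl S e) = (χ : G → ℂ) 1 ∨ (χ : G → ℂ) (uEl S e) = -(χ : G → ℂ) 1) := by
  obtain ⟨B, hB⟩ := exists_induced_beta hfus
  set u := uEl S e with hudef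
  have hu : orderOf u = 2 := orderOf_uEl S e
  set c := coeff (thetaF G) with hcdef
  set a := coeff (alphaF G) with hadef
  have hgt := gc_thetaF S e
  have hga := gc_alphaF S e
  set t := trivChar G with htdef
  have ht0 : c t = 1 := by
    have := cast_coeff hgt t
    rw [classInner_triv, classInner_thetaF_one S e hfus] at this
    exact_mod_cast this
  have ha0 : a t = 0 := by
    have := cast_coeff hga t
    rw [classInner_triv, classInner_alphaF_one_global hfus] at this
    exact_mod_cast this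
  have hP' : ∑ χ ∈ Finset.univ.erase t, c χ * c χ = ((3 : ℕ) : ℤ) := by
    have h := classInner_eq_sum_coeff hgt hgt
    rw [classInner_thetaF_self hfus] at h
    have h' : ∑ χ : IrrCharacter G, c χ * c χ = 4 := by exact_mod_cast h.symm
    rw [← Finset.add_sum_erase _ _ (Finset.mem_univ t), ht0] at h'
    push_cast
    omega
  have hE' : ∑ χ ∈ Finset.univ.erase t, a χ * a χ = ((3 : ℕ) : ℤ) := by
    have h := classInner_eq_sum_coeff hga hga
    rw [classInner_alphaF_self hfus] at h
    have h' : ∑ χ : IrrCharacter G, a χ * a χ = 3 := by exact_mod_cast h.symm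
    rw [← Finset.add_sum_erase _ _ (Finset.mem_univ t), ha0] at h'
    push_cast
    omega
  obtain ⟨hPu, hPc⟩ := unit_coeff _ c 3 le_rfl hP'
  obtain ⟨hEu, hEc⟩ := unit_coeff _ a 3 le_rfl hE'
  have hstr : ∀ i, ∃ p s : IrrCharacter G, p ≠ t ∧ s ≠ t ∧ p ≠ s ∧ (c p = 1 ∨ c p = -1) ∧ c s = 0 ∧
      coeff (B i) p = c p ∧ (coeff (B i) s = 1 ∨ coeff (B i) s = -1) ∧
      ∀ χ, χ ≠ t → coeff (B i) χ ≠ 0 → χ = p ∨ χ = s := by
    intro i
    obtain ⟨hg, -, h1, h3, h2, -, -⟩ := hB i
    have hb0 : coeff (B i) t = 1 := by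
      have := cast_coeff hg t
      rw [classInner_triv, h1] at this
      exact_mod_cast this
    have hsq : ∑ χ ∈ Finset.univ.erase t, coeff (B i) χ * coeff (B i) χ = ((2 : ℕ) : ℤ) := by
      have h := classInner_eq_sum_coeff hg hg
      rw [h3] at h
      have h' : ∑ χ : IrrCharacter G, coeff (B i) χ * coeff (B i) χ = 3 := by exact_mod_cast h.symm
      rw [← Finset.add_sum_erase _ _ (Finset.mem_univ t), hb0] at h'
      push_cast
      omega
    obtain ⟨hbu, hbc⟩ := unit_coeff _ (coeff (B i)) 2 (by norm_num) hsq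
    obtain ⟨A, A', hne, hS⟩ := Finset.card_eq_two.1 hbc
    have hA : A ∈ (Finset.univ.erase t).filter fun χ => coeff (B i) χ ≠ 0 := by rw [hS]; simp
    have hA' : A' ∈ (Finset.univ.erase t).filter fun χ => coeff (B i) χ ≠ 0 := by rw [hS]; simp
    have hdot : coeff (B i) A * c A + coeff (B i) A' * c A' = 1 := by
      have h := classInner_eq_sum_coeff hg hgt
      rw [h2] at h
      have h' : ∑ χ : IrrCharacter G, coeff (B i) χ * c χ = 2 := by exact_mod_cast h.symm
      rw [← Finset.add_sum_erase _ _ (Finset.mem_univ t), hb0, ht0,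
        ← Finset.sum_filter_of_ne (p := fun χ => coeff (B i) χ ≠ 0) (fun χ _ h => left_ne_zero_of_mul h),
        hS, Finset.sum_pair hne] at h'
      linarith
    have hcu : ∀ x, x ≠ t → c x = 0 ∨ c x = 1 ∨ c x = -1 := fun x hx => by
      by_cases h : c x = 0
      · exact Or.inl h
      · exact Or.inr (hPu x (Finset.mem_erase.2 ⟨hx, Finset.mem_univ _⟩) h)
    have hAt := (Finset.mem_erase.1 (Finset.mem_filter.1 hA).1).1
    have hA't := (Finset.mem_erase.1 (Finset.mem_filter.1 hA').1).1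
    have hmem : ∀ χ, χ ≠ t → coeff (B i) χ ≠ 0 → χ = A ∨ χ = A' := fun χ h1 h2 => by
      have : χ ∈ (Finset.univ.erase t).filter fun χ => coeff (B i) χ ≠ 0 :=
        Finset.mem_filter.2 ⟨Finset.mem_erase.2 ⟨h1, Finset.mem_univ _⟩, h2⟩
      rw [hS] at this
      simpa using this
    have hbA := hbu A (Finset.mem_filter.1 hA).1 (Finset.mem_filter.1 hA).2
    have hbA' := hbu A' (Finset.mem_filter.1 hA').1 (Finset.mem_filter.1 hA').2
    by_cases hc0 : c A = 0
    · refine ⟨A', A, hA't, hAt, hne.symm, ?_, hc0, ?_, hbA, fun χ h1 h2 => (hmem χ h1 h2).symm⟩ <;>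
      · rcases hbA' with h | h <;> rcases hcu A' hA't with h' | h' | h' <;>
          rw [h, h', hc0] at hdot <;> simp at hdot ⊢ <;> simp [h, h']
    · have hc0' : c A' = 0 := by
        rcases hbA with h | h <;> rcases hbA' with g | g <;> rcases hcu A hAt with h' | h' | h' <;>
          rcases hcu A' hA't with g' | g' | g' <;> (rw [h, h', g, g'] at hdot; omega)
      refine ⟨A, A', hAt, hA't, hne, ?_, hc0', ?_, hbA', hmem⟩ <;>
      · rcases hbA with h | h <;> rcases hcu A hAt with h' | h' | h' <;>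
          rw [h, h', hc0'] at hdot <;> simp at hdot ⊢ <;> simp [h, h']
  choose p s hpt hst hps hcp hcs hbp hbs hmem using hstr
  have hexp : ∀ {R : Type} [CommRing R] (i : Fin 3) (F : IrrCharacter G → R),
      ∑ χ : IrrCharacter G, (coeff (B i) χ : R) * F χ =
        F t + (c (p i) : R) * F (p i) + (coeff (B i) (s i) : R) * F (s i) := by
    intro R _ i F
    have hb0 : coeff (B i) t = 1 := by
      have := cast_coeff (hB i).1 t
      rw [classInner_triv, (hB i).2.2.1] at this
      exact_mod_cast this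
    rw [← Finset.add_sum_erase _ _ (Finset.mem_univ t), hb0, Int.cast_one, one_mul, add_assoc]
    congr 1
    rw [← Finset.sum_subset (s₁ := {p i, s i}), Finset.sum_pair (hps i), hbp]
    · intro χ hχ
      rcases Finset.mem_insert.1 hχ with rfl | hχ
      · exact Finset.mem_erase.2 ⟨hpt i, Finset.mem_univ _⟩
      · rw [Finset.mem_singleton] at hχ
        exact hχ ▸ Finset.mem_erase.2 ⟨hst i, Finset.mem_univ _⟩
    · intro χ hχ hn
      have : coeff (B i) χ = 0 := by
        by_contra h
        exact hn (by rcases hmem i χ (Finset.mem_erase.1 hχ).1 h with h' | h' <;> simp [h'])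
      rw [this]; simp
  have hdeg1 : (charDegree ((trivChar G : IrrCharacter G) : G → ℂ) : ℤ) = 1 := by
    have h : (charDegree ((trivChar G : IrrCharacter G) : G → ℂ) : ℂ) = 1 := by rw [← irr_one_eq]; rfl
    exact_mod_cast h
  have hdeg : ∀ i, 1 + c (p i) * (charDegree (p i : G → ℂ) : ℤ) +
      coeff (B i) (s i) * (charDegree (s i : G → ℂ) : ℤ) = 0 := by
    intro i
    have h := hexp (R := ℤ) i fun χ => (charDegree (χ : G → ℂ) : ℤ)
    rw [hdeg1] at h
    simp only [Int.cast_id] at h
    rw [← h]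
    apply Int.cast_injective (α := ℂ)
    push_cast
    rw [← (hB i).2.1, eq_sum_coeff (hB i).1 1]
    simp only [← irr_one_eq]
  have hpair : ∀ i k, i ≠ k →
      c (p i) * coeff (B k) (p i) + coeff (B i) (s i) * coeff (B k) (s i) = 0 := by
    intro i k hne
    have h := classInner_eq_sum_coeff (hB i).1 (hB k).1
    rw [(hB i).2.2.2.2.2.2 k hne] at h
    have h' : ∑ χ : IrrCharacter G, coeff (B i) χ * coeff (B k) χ = 1 := by exact_mod_cast h.symm
    have h2 := hexp (R := ℤ) i (coeff (B k))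
    simp only [Int.cast_id] at h2
    have hb0 : coeff (B k) t = 1 := by
      have := cast_coeff (hB k).1 t
      rw [classInner_triv, (hB k).2.2.1] at this
      exact_mod_cast this
    rw [h', hb0] at h2
    linarith
  have hsp : ∀ i k, s i ≠ p k := fun i k h => by
    have h1 := hcs i
    rw [h] at h1
    rcases hcp k with h' | h' <;> omega
  have hpinj : Function.Injective p := by
    intro i k h
    by_contra hne
    have h1 := hpair i k hne
    rw [h, hbp k] at h1
    have hs0 : s i = s k := by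
      by_contra hs
      have : coeff (B k) (s i) = 0 := by
        by_contra h'
        rcases hmem k _ (hst i) h' with h'' | h''
        exacts [hsp i k h'', hs h'']
      rw [this] at h1
      rcases hcp k with h' | h' <;> rw [h'] at h1 <;> omega
    rw [hs0] at h1
    have d1 := hdeg i
    have d2 := hdeg k
    rw [h, hs0] at d1
    have hd := charDegree_pos (s k)
    rcases hcp k with hk | hk <;> rcases hbs i with hi | hi <;> rcases hbs k with hk' | hk' <;>
      rw [hs0] at hi <;> rw [hk, hi, hk'] at h1 <;> rw [hk, hi] at d1 <;> rw [hk, hk'] at d2 <;> omega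
  have hsinj : Function.Injective s := by
    intro i k h
    by_contra hne
    have h1 := hpair i k hne
    have : coeff (B k) (p i) = 0 := by
      by_contra h'
      rcases hmem k _ (hpt i) h' with h'' | h''
      exacts [hne (hpinj h''), hsp k i h''.symm]
    rw [this, h] at h1
    rcases hbs i with hi | hi <;> rcases hbs k with hk' | hk' <;> rw [h] at hi <;> rw [hi, hk'] at h1 <;> omega
  have hPimg := image_eq_of_card hPc hpinj hpt fun i => by rcases hcp i with h | h <;> omega
  have hαsum : ∀ i, c (p i) * a (p i) + coeff (B i) (s i) * a (s i) = -1 := by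
    intro i
    have h := classInner_eq_sum_coeff (hB i).1 hga
    rw [(hB i).2.2.2.2.2.1] at h
    have h' : ∑ χ : IrrCharacter G, coeff (B i) χ * a χ = -1 := by exact_mod_cast h.symm
    have h2 := hexp (R := ℤ) i a
    simp only [Int.cast_id] at h2
    rw [h', ha0] at h2
    linarith
  have hca : ∑ i, c (p i) * a (p i) = 0 := by
    have h := classInner_eq_sum_coeff hgt hga
    rw [classInner_thetaF_alphaF] at h
    have h' : ∑ χ : IrrCharacter G, c χ * a χ = 0 := by exact_mod_cast h.symm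
    have h2 := sum_supp (R := ℤ) hpinj hpt hPimg a
    simp only [Int.cast_id] at h2
    rw [h', ← htdef, ha0] at h2
    linarith
  have hbnd : ∀ i, -1 ≤ coeff (B i) (s i) * a (s i) := fun i => by
    by_cases h : a (s i) = 0
    · rw [h]; norm_num
    · rcases hEu _ (Finset.mem_erase.2 ⟨hst i, Finset.mem_univ _⟩) h with h' | h' <;>
        rcases hbs i with hi | hi <;> rw [h', hi] <;> norm_num
  have hqa : ∀ i, coeff (B i) (s i) * a (s i) = -1 := by
    have h0 := hαsum 0; have h1 := hαsum 1; have h2 := hαsum 2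
    have g0 := hbnd 0; have g1 := hbnd 1; have g2 := hbnd 2
    rw [Fin.sum_univ_three] at hca
    intro i
    fin_cases i <;> simp only [Fin.mk_one, Fin.zero_eta, Fin.reduceFinMk] <;> linarith
  have hSimg := image_eq_of_card hEc hsinj hst fun i h => by
    have := hqa i; rw [h, mul_zero] at this; norm_num at this
  -- the two sets of weights
  let X : Fin 3 → ℤ := fun i => c (p i) * (charDegree (p i : G → ℂ) : ℤ)
  let Y : Fin 3 → ℤ := fun i => a (s i) * (charDegree (s i : G → ℂ) : ℤ)
  let x : Fin 3 → ℝ := fun i => (c (p i) : ℝ) * reVal (p i) u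
  let y : Fin 3 → ℝ := fun i => (a (s i) : ℝ) * reVal (s i) u
  have hXY : ∀ i, Y i = 1 + X i := fun i => by
    have h1 := hqa i
    have h2 := hdeg i
    simp only [X, Y]
    rcases hbs i with h | h <;> rw [h] at h1 h2
    · rw [show a (s i) = -1 by linarith]; linarith
    · rw [show a (s i) = 1 by linarith]; linarith
  have hX0 : ∀ i, X i ≠ 0 := fun i => by
    have := charDegree_pos (p i)
    simp only [X]
    rcases hcp i with h | h <;> rw [h] <;> omega
  have hY0 : ∀ i, Y i ≠ 0 := fun i => by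
    have := charDegree_pos (s i)
    have h1 := hqa i
    simp only [Y]
    rcases hbs i with h | h <;> rw [h] at h1
    · rw [show a (s i) = -1 by linarith]; omega
    · rw [show a (s i) = 1 by linarith]; omega
  have hd1 : ((charDegree ((trivChar G : IrrCharacter G) : G → ℂ) : ℝ)) = 1 := by exact_mod_cast hdeg1
  have hv1 : reVal (trivChar G) u = 1 := Complex.one_re
  have h41 : ¬ 4 ∣ orderOf (1 : G) := by rw [orderOf_one]; norm_num
  have h4u : ¬ 4 ∣ orderOf u := by rw [hu]; norm_num
  have h2u : 2 ∣ orderOf u := by rw [hu]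
  have h21 : ¬ 2 ∣ orderOf (1 : G) := by rw [orderOf_one]; norm_num
  -- sums for theta
  have hsumX : ∑ i, (X i : ℝ) = -1 := by
    have h : ∑ χ : IrrCharacter G, (c χ : ℝ) * (charDegree (χ : G → ℂ) : ℝ) = 0 := by
      apply Complex.ofReal_injective
      push_cast
      simp only [← irr_one_eq]
      rw [← eq_sum_coeff hgt, thetaF, if_neg h41]
    rw [sum_supp hpinj hpt hPimg, ← htdef, ht0, hd1] at h
    simp only [X]; push_cast at h ⊢; linarith
  have hsumx : ∑ i, x i = -1 := by
    have h : ∑ χ : IrrCharacter G, (c χ : ℝ) * reVal χ u = 0 := by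
      apply Complex.ofReal_injective
      push_cast
      simp only [cast_reVal _ hu]
      rw [← eq_sum_coeff hgt, thetaF, if_neg h4u]
    rw [sum_supp hpinj hpt hPimg, ← htdef, ht0, hv1] at h
    simp only [x]; push_cast at h ⊢; linarith
  have hidX : ∑ i, x i ^ 2 / (X i : ℝ) = -1 := by
    have h := involution_identity (uniqueInv' S e) hu hgt 0 fun z hz => by simp [thetaF_of_odd hz]
    simp only [mul_div_assoc] at h
    rw [← hcdef, sum_supp hpinj hpt hPimg, ← htdef, ht0, hv1, hd1] at h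
    have e1 : ∀ i, x i ^ 2 / (X i : ℝ) = (c (p i) : ℝ) * (reVal (p i) u ^ 2 / (charDegree (p i : G → ℂ) : ℝ)) := by
      intro i
      simp only [x, X]
      push_cast
      rcases hcp i with h' | h' <;> rw [h'] <;> simp [div_neg, neg_div]
    simp only [e1]; push_cast at h; linarith
  -- sums for alpha
  have hsumY : ∑ i, (Y i : ℝ) = 2 := by
    have h : ∑ χ : IrrCharacter G, (a χ : ℝ) * (charDegree (χ : G → ℂ) : ℝ) = 2 := by
      apply Complex.ofReal_injective
      push_cast
      simp only [← irr_one_eq]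
      rw [← eq_sum_coeff hga, alphaF_of_odd h21]
    rw [sum_supp hsinj hst hSimg, ← htdef, ha0] at h
    simp only [Y]; push_cast at h ⊢; linarith
  have hsumy : ∑ i, y i = -2 := by
    have h : ∑ χ : IrrCharacter G, (a χ : ℝ) * reVal χ u = -2 := by
      apply Complex.ofReal_injective
      push_cast
      simp only [cast_reVal _ hu]
      rw [← eq_sum_coeff hga, alphaF, if_neg h4u, if_pos h2u]
    rw [sum_supp hsinj hst hSimg, ← htdef, ha0] at h
    simp only [y]; push_cast at h ⊢; linarith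
  have hidY : ∑ i, y i ^ 2 / (Y i : ℝ) = 2 := by
    have h := involution_identity (uniqueInv' S e) hu hga 2 fun z hz => by simp [alphaF_of_odd hz]
    simp only [mul_div_assoc] at h
    rw [← hadef, sum_supp hsinj hst hSimg, ← htdef, ha0] at h
    have e1 : ∀ i, y i ^ 2 / (Y i : ℝ) = (a (s i) : ℝ) * (reVal (s i) u ^ 2 / (charDegree (s i : G → ℂ) : ℝ)) := by
      intro i
      have h1 := hqa i
      simp only [y, Y]
      push_cast
      rcases hbs i with h' | h' <;> rw [h'] at h1
      · rw [show a (s i) = -1 by linarith]; simp [div_neg, neg_div]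
      · rw [show a (s i) = 1 by linarith]; simp
    simp only [e1]; push_cast at h; linarith
  have hsum3 : ∀ (F : Fin 3 → ℝ) (i j k : Fin 3), i ≠ j → i ≠ k → j ≠ k → ∑ l, F l = F i + F j + F k := by
    intro F i j k h1 h2 h3
    rw [Fin.sum_univ_three]
    fin_cases i <;> fin_cases j <;> fin_cases k <;> simp at h1 h2 h3 ⊢ <;> ring
  by_cases htwo : ∃ i j, i ≠ j ∧ 0 < X i ∧ 0 < X j
  · obtain ⟨i, j, hij, hi, hj⟩ := htwo
    obtain ⟨k, hik, hjk⟩ := (show ∀ i j : Fin 3, i ≠ j → ∃ k, i ≠ k ∧ j ≠ k by decide) i j hij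
    rw [hsum3 _ i j k hij hik hjk] at hsumX hsumx hidX
    have h := eq_of_two_pos (by exact_mod_cast hi) (by exact_mod_cast hj) hsumX hsumx hidX
    refine ⟨p i, hpt i, Or.inl ?_⟩
    have hr : reVal (p i) u = (charDegree (p i : G → ℂ) : ℝ) := by
      simp only [x, X] at h
      push_cast at h
      rcases hcp i with h' | h' <;> rw [h'] at h <;> push_cast at h <;> linarith
    rw [← cast_reVal _ hu, hr, irr_one_eq]
    simp
  · push Not at htwo
    obtain ⟨i₀, hi₀⟩ : ∃ i, 0 < X i := by
      by_contra hn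
      push Not at hn
      have hneg : ∀ i, (X i : ℝ) ≤ -1 := fun i => by
        have := hn i; have := hX0 i
        exact_mod_cast (by omega : X i ≤ -1)
      rw [Fin.sum_univ_three] at hsumX
      linarith [hneg 0, hneg 1, hneg 2]
    obtain ⟨j, k, hij, hik, hjk⟩ := (show ∀ i : Fin 3, ∃ j k, i ≠ j ∧ i ≠ k ∧ j ≠ k by decide) i₀
    have hj : Y j < 0 := by
      have := htwo i₀ j hij hi₀; have := hXY j; have := hX0 j; have := hY0 j; omega
    have hk : Y k < 0 := by
      have := htwo i₀ k hik hi₀; have := hXY k; have := hX0 k; have := hY0 k; omega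
    rw [hsum3 _ i₀ j k hij hik hjk] at hsumY hsumy hidY
    have h := eq_of_two_neg (by exact_mod_cast hj) (by exact_mod_cast hk) hsumY hsumy hidY
    refine ⟨s j, hst j, Or.inr ?_⟩
    have hr : reVal (s j) u = -(charDegree (s j : G → ℂ) : ℝ) := by
      have h1 := hqa j
      simp only [y, Y] at h
      push_cast at h
      rcases hbs j with h' | h' <;> rw [h'] at h1
      · rw [show a (s j) = -1 by linarith] at h; push_cast at h; linarith
      · rw [show a (s j) = 1 by linarith] at h; push_cast at h; linarith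
    rw [← cast_reVal _ hu, hr, irr_one_eq]
    simp

end CfsgLib.BrauerSuzuki
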