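import Cfsg.Agent.Lib.BrauerSuzuki.OrderFun
import Cfsg.Agent.Lib.BrauerSuzuki.Order16
import Cfsg.Agent.Lib.BrauerSuzuki.PrincipalSection
import Cfsg.Agent.Lib.Blocks.Height
import Cfsg.Agent.Lib.Blocks.Parts

/-!
# Brauer-Suzuki for quaternion groups of order 8: the centralizer of the involution

The matrix `regInner` of the principal 2-block is computed from the two functions `thetaF`, `alphaF`
and yields three generalized characters of norm 3 vanishing on the elements of odd order.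
-/

set_option autoImplicit false

namespace CfsgLib.BrauerSuzuki

open Cfsg CfsgLib.Blocks QuaternionGroup
open scoped Classical ComplexConjugate

section Local

variable {H : Type*} [Group H] [Fintype H] {S : Sylow 2 H}
  {e : ↥(S : Subgroup H) ≃* QuaternionGroup 2}

theorem exists_sign {u : H} (hu : orderOf u = 2) (hc : ∀ x, Commute u x) (χ : IrrCharacter H) :
    ∃ s : ℤ, (s = 1 ∨ s = -1) ∧ ∀ x, (χ : H → ℂ) (u * x) = (s : ℂ) * (χ : H → ℂ) x := by
  obtain ⟨n, ρ, hρ, he⟩ := χ.2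
  obtain ⟨c, hc'⟩ := CfsgLib.CharDeep.IrrTools.exists_smul_of_commute ρ (ρ u) fun g => by
    rw [← map_mul, ← map_mul, (hc g).eq]
  have h1 : ∀ x, (χ : H → ℂ) (u * x) = c * (χ : H → ℂ) x := fun x => by
    rw [← he]
    show LinearMap.trace ℂ _ (ρ (u * x)) = c * LinearMap.trace ℂ _ (ρ x)
    rw [map_mul, hc', smul_mul_assoc, one_mul, map_smul, smul_eq_mul]
  have h2 : c * c = 1 := by
    have := h1 u
    rw [show (χ : H → ℂ) u = c * (χ : H → ℂ) 1 by rw [← h1 1, mul_one],
      mul_self_of_orderOf_two hu, ← mul_assoc] at this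
    exact (mul_eq_right₀ (irr_one_ne_zero χ)).mp this.symm
  rcases mul_self_eq_one_iff.mp h2 with h | h
  · exact ⟨1, Or.inl rfl, fun x => by rw [h1, h]; norm_num⟩
  · exact ⟨-1, Or.inr rfl, fun x => by rw [h1, h]; norm_num⟩

variable (S e) in
include S e in
theorem orderOf_dvd_four {x : H} (hx : ∃ j, orderOf x = 2 ^ j) : orderOf x ∣ 4 := by
  obtain ⟨j, hj⟩ := hx
  obtain ⟨g, hg⟩ := exists_conj_mem_sylow S (R := Subgroup.zpowers x)
    (IsPGroup.of_card (n := j) (by rw [Nat.card_zpowers, hj]))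
  have h1 := hg x (Subgroup.mem_zpowers x)
  have h2 : ∀ q : QuaternionGroup 2, q ^ 4 = 1 := by decide
  rw [← orderOf_conj' g x, ← Subgroup.orderOf_mk _ h1, ← e.orderOf_eq]
  exact orderOf_dvd_of_pow_eq_one (h2 _)

variable (S e) in
include S e in
theorem pPartCard_eq : (pPartCard 2 H : ℂ) = 8 := by
  have h := S.card_eq_multiplicity
  rw [Nat.card_congr e.toEquiv, Nat.card_eq_fintype_card, QuaternionGroup.card] at h
  rw [pPartCard, ← h]
  norm_num

/-- Sum over the elements of odd order. -/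
noncomputable def oddSum (F : H → ℂ) : ℂ := ∑ x : H with ¬ 2 ∣ orderOf x, F x

/-- Sum over the elements of order divisible by 4. -/
noncomputable def fourSum (F : H → ℂ) : ℂ := ∑ x : H with 4 ∣ orderOf x, F x

theorem two_shift {u : H} (hU : UniqueInv H) (hu : orderOf u = 2) (hc : ∀ x, Commute u x) (x : H) :
    (¬ 2 ∣ orderOf x → 2 ∣ orderOf (u * x) ∧ ¬ 4 ∣ orderOf (u * x)) ∧
    ((2 ∣ orderOf x ∧ ¬ 4 ∣ orderOf x) → ¬ 2 ∣ orderOf (u * x)) := by
  constructor
  · intro h
    have hcop : (orderOf u).Coprime (orderOf x) := by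
      rw [hu]; exact (Nat.Prime.coprime_iff_not_dvd Nat.prime_two).mpr h
    rw [(hc x).orderOf_mul_eq_mul_orderOf_of_coprime hcop, hu]
    exact ⟨dvd_mul_right 2 _, fun h4 => h (Nat.dvd_of_mul_dvd_mul_left two_pos (by simpa using h4))⟩
  · rintro ⟨h2, h4⟩ hd
    set m := orderOf x / 2
    have hm : ¬ 2 ∣ m := fun ⟨q, hq⟩ => h4 ⟨q, by omega⟩
    have hxm : x ^ m = u := hU _ _ (orderOf_half h2) hu ((hc x).symm.pow_left m)
    have hum : u ^ m = u := by
      conv_rhs => rw [← pow_one u]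
      rw [pow_eq_pow_iff_modEq, hu]
      show m % 2 = 1 % 2
      omega
    have : (u * x) ^ m = 1 := by rw [(hc x).mul_pow, hxm, hum, mul_self_of_orderOf_two hu]
    exact hm (hd.trans (orderOf_dvd_of_pow_eq_one this))

theorem sum_split {u : H} (hU : UniqueInv H) (hu : orderOf u = 2) (hc : ∀ x, Commute u x) (F : H → ℂ) :
    ∑ x, F x = oddSum F + oddSum (fun x => F (u * x)) + fourSum F := by
  have h1 : ∑ x, F x = oddSum F + ∑ x : H with 2 ∣ orderOf x, F x := by
    rw [oddSum, add_comm, Finset.sum_filter_add_sum_filter_not]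
  have h2 : ∑ x : H with 2 ∣ orderOf x, F x =
      ∑ x : H with 2 ∣ orderOf x ∧ ¬ 4 ∣ orderOf x, F x + fourSum F := by
    rw [fourSum, ← Finset.sum_filter_add_sum_filter_not (Finset.univ.filter fun x : H => 2 ∣ orderOf x)
      (fun x => ¬ 4 ∣ orderOf x), Finset.filter_filter, Finset.filter_filter]
    congr 1
    refine Finset.sum_congr (Finset.filter_congr fun x _ => ?_) fun _ _ => rfl
    rw [not_not]
    exact and_iff_right_of_imp fun h => dvd_trans (by norm_num) h
  have hinv : ∀ x : H, u * (u * x) = x := fun x => by rw [← mul_assoc, mul_self_of_orderOf_two hu, one_mul]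
  have h3 : ∑ x : H with 2 ∣ orderOf x ∧ ¬ 4 ∣ orderOf x, F x = oddSum (fun x => F (u * x)) := by
    refine Finset.sum_nbij' (fun x => u * x) (fun x => u * x) ?_ ?_ ?_ ?_ ?_
    · intro x hx
      simpa using (two_shift hU hu hc x).2 (by simpa using hx)
    · intro x hx
      simpa using (two_shift hU hu hc x).1 (by simpa using hx)
    · intro x _; exact hinv x
    · intro x _; exact hinv x
    · intro x _; simp only [hinv]
  rw [h1, h2, h3, add_assoc]

variable (S e) in
include S e in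
theorem regInner_eq (χ ξ : H → ℂ) :
    regInner 2 χ ξ * (Nat.card H : ℂ) = 8 * oddSum (fun x => χ x * ξ x⁻¹) := by
  have hG : (Nat.card H : ℂ) ≠ 0 := CfsgLib.Char.card_ne_zero
  rw [regInner, pPartCard_eq S e, oddSum]
  have : (Finset.univ.filter fun x : H => IsPRegular 2 x) = Finset.univ.filter fun x : H => ¬ 2 ∣ orderOf x :=
    Finset.filter_congr fun x _ => Iff.rfl
  rw [this]
  field_simp

variable (hc : ∀ x, Commute (uEl S e) x) (hfus : Fus S e)

theorem alphaF_mul_u {u : H} (hU : UniqueInv H) (hu : orderOf u = 2) (hc : ∀ x, Commute u x) (x : H) :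
    alphaF H (u * x) = -alphaF H x ∧ (4 ∣ orderOf (u * x) ↔ 4 ∣ orderOf x) := by
  have hinv : u * (u * x) = x := by rw [← mul_assoc, mul_self_of_orderOf_two hu, one_mul]
  by_cases h2 : 2 ∣ orderOf x
  · by_cases h4 : 4 ∣ orderOf x
    · have h4' : 4 ∣ orderOf (u * x) := by
        by_contra hn
        by_cases h2' : 2 ∣ orderOf (u * x)
        · have := (two_shift hU hu hc (u * x)).2 ⟨h2', hn⟩
          rw [hinv] at this
          exact this h2
        · have := (two_shift hU hu hc (u * x)).1 h2'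
          rw [hinv] at this
          exact this.2 h4
      exact ⟨by rw [alphaF, if_pos h4', alphaF, if_pos h4, neg_zero], iff_of_true h4' h4⟩
    · have h := (two_shift hU hu hc x).2 ⟨h2, h4⟩
      exact ⟨by rw [alphaF_of_odd h, alphaF, if_neg h4, if_pos h2, neg_neg],
        iff_of_false (fun h' => h (dvd_trans (by norm_num) h')) h4⟩
  · have h := (two_shift hU hu hc x).1 h2
    exact ⟨by rw [alphaF_of_odd h2, alphaF, if_neg h.2, if_pos h.1],
      iff_of_false h.2 fun h' => h2 (dvd_trans (by norm_num) h')⟩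

include hc in
theorem classInner_alphaF_one : classInner (alphaF H) (fun _ => 1) = 0 := by
  have hU := uniqueInv' S e
  have hu := orderOf_uEl S e
  have : ∑ x, alphaF H x = -∑ x, alphaF H x := by
    rw [← Finset.sum_neg_distrib]
    refine Fintype.sum_equiv (Equiv.mulLeft (uEl S e)) _ _ fun x => ?_
    simp [(alphaF_mul_u hU hu hc x).1]
  rw [eq_neg_iff_add_eq_zero, ← two_mul] at this
  simp only [Cfsg.classInner, map_one, mul_one]
  rw [(mul_eq_zero.mp this).resolve_left two_ne_zero, mul_zero]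

/-- The sign of a character at the involution. -/
noncomputable def sgn (hc : ∀ x, Commute (uEl S e) x) (χ : IrrCharacter H) : ℤ :=
  (exists_sign (orderOf_uEl S e) hc χ).choose

theorem sgn_spec (χ : IrrCharacter H) :
    (sgn hc χ = 1 ∨ sgn hc χ = -1) ∧
      ∀ x, (χ : H → ℂ) (uEl S e * x) = (sgn hc χ : ℂ) * (χ : H → ℂ) x :=
  (exists_sign (orderOf_uEl S e) hc χ).choose_spec

theorem sgn_triv : sgn hc (trivChar H) = 1 := by
  have := (sgn_spec hc (trivChar H)).2 1
  have h1 : (1 : ℂ) = (sgn hc (trivChar H) : ℂ) * 1 := this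
  rw [mul_one] at h1
  exact_mod_cast h1.symm

include hc in
theorem orth_split (χ ξ : IrrCharacter H) :
    (if χ = ξ then (Nat.card H : ℂ) else 0) =
      (1 + (sgn hc χ : ℂ) * (sgn hc ξ : ℂ)) * oddSum (fun x => (χ : H → ℂ) x * (ξ : H → ℂ) x⁻¹)
        + fourSum (fun x => (χ : H → ℂ) x * (ξ : H → ℂ) x⁻¹) := by
  have hU := uniqueInv' S e
  have hu := orderOf_uEl S e
  rw [← sum_mul_inv, sum_split hU hu hc]
  congr 1
  rw [add_mul, one_mul]
  congr 1
  simp only [oddSum, Finset.mul_sum]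
  refine Finset.sum_congr rfl fun x _ => ?_
  rw [(sgn_spec hc χ).2, mul_inv_rev, inv_eq_of_orderOf_two hu, ← (hc x⁻¹).eq, (sgn_spec hc ξ).2]
  ring

variable (S e) in
include S e in
theorem coeff_thetaF_mul (χ : IrrCharacter H) :
    (coeff (thetaF H) χ : ℂ) * Nat.card H = 4 * fourSum (fun x => (χ : H → ℂ) x⁻¹) := by
  rw [cast_coeff (gc_thetaF S e), Cfsg.classInner]
  have hG : (Nat.card H : ℂ) ≠ 0 := CfsgLib.Char.card_ne_zero
  field_simp
  rw [fourSum, Finset.mul_sum, Finset.sum_filter]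
  refine Finset.sum_congr rfl fun x _ => ?_
  rw [conj_irr, thetaF]
  split_ifs <;> ring

include hc in
theorem coeff_alphaF_mul (χ : IrrCharacter H) :
    (coeff (alphaF H) χ : ℂ) * Nat.card H =
      2 * (1 - (sgn hc χ : ℂ)) * oddSum (fun x => (χ : H → ℂ) x⁻¹) := by
  have hU := uniqueInv' S e
  have hu := orderOf_uEl S e
  rw [cast_coeff (gc_alphaF S e), Cfsg.classInner]
  have hG : (Nat.card H : ℂ) ≠ 0 := CfsgLib.Char.card_ne_zero
  field_simp
  simp only [conj_irr]
  rw [sum_split hU hu hc, fourSum, Finset.sum_eq_zero (s := Finset.univ.filter fun x : H => 4 ∣ orderOf x)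
    (fun x hx => by rw [alphaF, if_pos (Finset.mem_filter.1 hx).2, zero_mul]), add_zero]
  simp only [oddSum, Finset.mul_sum, ← Finset.sum_add_distrib]
  refine Finset.sum_congr rfl fun x hx => ?_
  rw [(alphaF_mul_u hU hu hc x).1, alphaF_of_odd (Finset.mem_filter.1 hx).2, mul_inv_rev,
    inv_eq_of_orderOf_two hu, ← (hc x⁻¹).eq, (sgn_spec hc χ).2]
  ring

include hc in
theorem row_triv (χ : IrrCharacter H) :
    regInt 2 (trivChar H) χ =
      4 * (if trivChar H = χ then 1 else 0) - coeff (thetaF H) χ + 2 * coeff (alphaF H) χ ∧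
    (coeff (thetaF H) χ ≠ 0 → sgn hc χ = 1 ∧ coeff (alphaF H) χ = 0) ∧
    (coeff (alphaF H) χ ≠ 0 → sgn hc χ = -1 ∧ coeff (thetaF H) χ = 0) := by
  have hG : (Nat.card H : ℂ) ≠ 0 := CfsgLib.Char.card_ne_zero
  have hR := regInner_eq S e ((trivChar H : IrrCharacter H) : H → ℂ) (χ : H → ℂ)
  have h0 := orth_split hc (trivChar H) χ
  rw [sgn_triv hc] at h0
  have e1 : ∀ g : H, ((trivChar H : IrrCharacter H) : H → ℂ) g = 1 := fun _ => rfl
  simp only [e1, one_mul, Int.cast_one] at hR h0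
  have hT := coeff_thetaF_mul S e χ
  have hA := coeff_alphaF_mul hc χ
  rw [← cast_regInt Nat.prime_two] at hR
  set O := oddSum (fun x => (χ : H → ℂ) x⁻¹)
  set F := fourSum (fun x => (χ : H → ℂ) x⁻¹)
  set δ : ℤ := if trivChar H = χ then 1 else 0 with hδ
  have h0' : (δ : ℂ) * (Nat.card H : ℂ) = (1 + (sgn hc χ : ℂ)) * O + F := by
    rw [← h0, hδ]
    split_ifs <;> simp
  rcases (sgn_spec hc χ).1 with hs | hs
  · rw [hs] at h0' hA
    have ha : coeff (alphaF H) χ = 0 := by
      have : (coeff (alphaF H) χ : ℂ) * Nat.card H = ((0 : ℤ) : ℂ) * Nat.card H := by rw [hA]; push_cast; ring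
      exact_mod_cast mul_right_cancel₀ hG this
    refine ⟨?_, fun _ => ⟨hs, ha⟩, fun h => absurd ha h⟩
    rw [ha]
    have : (regInt 2 (trivChar H) χ : ℂ) * Nat.card H = ((4 * δ - coeff (thetaF H) χ + 2 * 0 : ℤ) : ℂ) * Nat.card H := by
      push_cast at h0' ⊢
      linear_combination hR - 4 * h0' + hT
    exact_mod_cast mul_right_cancel₀ hG this
  · rw [hs] at h0' hA
    have hne : trivChar H ≠ χ := fun h => by
      have := sgn_triv hc
      rw [h, hs] at this
      norm_num at this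
    have hd : δ = 0 := by rw [hδ, if_neg hne]
    rw [hd] at h0' ⊢
    have ht : coeff (thetaF H) χ = 0 := by
      have : (coeff (thetaF H) χ : ℂ) * Nat.card H = ((0 : ℤ) : ℂ) * Nat.card H := by
        push_cast at h0' ⊢
        linear_combination hT - 4 * h0'
      exact_mod_cast mul_right_cancel₀ hG this
    refine ⟨?_, fun h => absurd ht h, fun _ => ⟨hs, ht⟩⟩
    rw [ht]
    have : (regInt 2 (trivChar H) χ : ℂ) * Nat.card H = ((4 * 0 - 0 + 2 * coeff (alphaF H) χ : ℤ) : ℂ) * Nat.card H := by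
      push_cast at hA ⊢
      linear_combination hR - 2 * hA
    exact_mod_cast mul_right_cancel₀ hG this

variable {M : Ideal AlgInt} (hM : IsPModular 2 M)

include hfus hM in
theorem apply_four {χ : IrrCharacter H} (hχ : χ ∈ principalBlock M H) {x : H} (hx : 4 ∣ orderOf x) :
    (χ : H → ℂ) x = (χ : H → ℂ) (yEl S e 1) := by
  obtain ⟨x2, x', hp, hxx, hcomm, hreg, ⟨j, hj⟩, -, -⟩ := exists_isPPart Nat.prime_two x
  have h4 : orderOf x2 = 4 := by
    refine Nat.dvd_antisymm (orderOf_dvd_four S e ⟨j, hj⟩) ?_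
    have hcop : (orderOf x2).Coprime (orderOf x') := by
      rw [hj]; exact Nat.Coprime.pow_left j ((Nat.Prime.coprime_iff_not_dvd Nat.prime_two).mpr hreg)
    rw [← hxx, hcomm.orderOf_mul_eq_mul_orderOf_of_coprime hcop] at hx
    exact (Nat.Coprime.pow_left 2 ((Nat.Prime.coprime_iff_not_dvd Nat.prime_two).mpr hreg) : Nat.Coprime (2 ^ 2) _).dvd_of_dvd_mul_right hx
  have hnpc := npc_centralizer_four S e (k := 1) (by norm_num) h4
  have hx'C : x' ∈ Subgroup.centralizer ({x2} : Set H) := Subgroup.mem_centralizer_singleton_iff.mpr hcomm.eq.symm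
  have h := principalBlock_apply_section hM (x := x2) ⟨j, hj⟩ hχ
    (Cfsg.pResidual 2 ↥(Subgroup.centralizer ({x2} : Set H)))
    ((Nat.Prime.coprime_iff_not_dvd Nat.prime_two).mp (CfsgLib.Fusion.Basic.npc_iff_coprime.mp hnpc).symm)
    (y := ⟨x', hx'C⟩)
    (CfsgLib.Fusion.Basic.mem_pResidual_of_coprime (by
      rw [Subgroup.orderOf_mk]; exact ((Nat.Prime.coprime_iff_not_dvd Nat.prime_two).mpr hreg).symm))
  rw [show x2 * ((⟨x', hx'C⟩ : ↥(Subgroup.centralizer ({x2} : Set H))) : H) = x from hxx] at h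
  obtain ⟨g, hg⟩ := hfus x2 h4
  rw [h, ← hg, irr_conj_apply]

include hfus hM hc in
theorem orth_principal {χ ξ : IrrCharacter H} (hχ : χ ∈ principalBlock M H) (hξ : ξ ∈ principalBlock M H) :
    8 * (if χ = ξ then 1 else 0) =
      (1 + sgn hc χ * sgn hc ξ) * regInt 2 χ ξ + 2 * (coeff (thetaF H) χ * coeff (thetaF H) ξ) := by
  have hG : (Nat.card H : ℂ) ≠ 0 := CfsgLib.Char.card_ne_zero
  have h4 := coeff_thetaF_mul S e (trivChar H)
  rw [cast_coeff (gc_thetaF S e), show ((trivChar H : IrrCharacter H) : H → ℂ) = fun _ => 1 from rfl,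
    classInner_thetaF_one S e hfus, one_mul] at h4
  set n := fourSum (fun _ : H => (1 : ℂ)) with hn
  have hconst : ∀ (ψ : IrrCharacter H), ψ ∈ principalBlock M H →
      fourSum (fun x => (ψ : H → ℂ) x⁻¹) = (ψ : H → ℂ) (yEl S e 1) * n := by
    intro ψ hψ
    rw [hn, fourSum, fourSum, Finset.mul_sum]
    exact Finset.sum_congr rfl fun x hx => by
      rw [apply_four hfus hM hψ (x := x⁻¹) (by rw [orderOf_inv]; exact (Finset.mem_filter.1 hx).2), mul_one]
  have ht : ∀ ψ ∈ principalBlock M H, (coeff (thetaF H) ψ : ℂ) = (ψ : H → ℂ) (yEl S e 1) := by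
    intro ψ hψ
    have := coeff_thetaF_mul S e ψ
    rw [hconst ψ hψ] at this
    apply mul_right_cancel₀ hG
    linear_combination this - (ψ : H → ℂ) (yEl S e 1) * h4
  have h0 := orth_split hc χ ξ
  have hR := regInner_eq S e (χ : H → ℂ) (ξ : H → ℂ)
  rw [← cast_regInt Nat.prime_two] at hR
  have hF : fourSum (fun x => (χ : H → ℂ) x * (ξ : H → ℂ) x⁻¹) =
      (coeff (thetaF H) χ : ℂ) * (coeff (thetaF H) ξ : ℂ) * n := by
    rw [ht χ hχ, ht ξ hξ, hn, fourSum, fourSum, Finset.mul_sum]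
    exact Finset.sum_congr rfl fun x hx => by
      rw [apply_four hfus hM hχ (Finset.mem_filter.1 hx).2,
        apply_four hfus hM hξ (x := x⁻¹) (by rw [orderOf_inv]; exact (Finset.mem_filter.1 hx).2), mul_one]
  rw [hF] at h0
  set δ : ℤ := if χ = ξ then 1 else 0 with hδ
  have h0' : (δ : ℂ) * (Nat.card H : ℂ) = (1 + (sgn hc χ : ℂ) * (sgn hc ξ : ℂ)) *
      oddSum (fun x => (χ : H → ℂ) x * (ξ : H → ℂ) x⁻¹) +
      (coeff (thetaF H) χ : ℂ) * (coeff (thetaF H) ξ : ℂ) * n := by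
    rw [← h0, hδ]
    split_ifs <;> simp
  have : ((8 * δ : ℤ) : ℂ) * Nat.card H = (((1 + sgn hc χ * sgn hc ξ) * regInt 2 χ ξ +
      2 * (coeff (thetaF H) χ * coeff (thetaF H) ξ) : ℤ) : ℂ) * Nat.card H := by
    push_cast
    linear_combination 8 * h0' - (1 + (sgn hc χ : ℂ) * (sgn hc ξ : ℂ)) * hR -
      2 * (coeff (thetaF H) χ : ℂ) * (coeff (thetaF H) ξ : ℂ) * h4
  exact_mod_cast mul_right_cancel₀ hG this

end Local

/-! ### The sign matrix -/

theorem sq_sum_twelve {x y z : ℤ} (h : x ^ 2 + y ^ 2 + z ^ 2 = 12) :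
    (x = 2 ∨ x = -2) ∧ (y = 2 ∨ y = -2) ∧ (z = 2 ∨ z = -2) := by
  have hx : -3 ≤ x ∧ x ≤ 3 := ⟨by nlinarith, by nlinarith⟩
  have hy : -3 ≤ y ∧ y ≤ 3 := ⟨by nlinarith, by nlinarith⟩
  have hz : -3 ≤ z ∧ z ≤ 3 := ⟨by nlinarith, by nlinarith⟩
  obtain ⟨hx1, hx2⟩ := hx
  obtain ⟨hy1, hy2⟩ := hy
  obtain ⟨hz1, hz2⟩ := hz
  interval_cases x <;> interval_cases y <;> first | (exfalso; nlinarith) | (interval_cases z <;> simp at h ⊢)

theorem exists_perm_of_signs (w : Fin 3 → Fin 3 → ℤ) (hw : ∀ i j, w i j = 1 ∨ w i j = -1)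
    (h1 : ∀ i, ∑ j, w i j = -1) (h2 : ∀ i k, i ≠ k → ∑ j, w i j * w k j = -1) :
    ∃ σ : Fin 3 → Fin 3, Function.Injective σ ∧ ∀ i j, w i j = if j = σ i then 1 else -1 := by
  have key : ∀ i, ∃ s : Fin 3, ∀ j, w i j = if j = s then 1 else -1 := by
    intro i
    have := h1 i
    rw [Fin.sum_univ_three] at this
    rcases hw i 0 with a | a <;> rcases hw i 1 with b | b <;> rcases hw i 2 with c | c <;>
      rw [a, b, c] at this <;> norm_num at this
    · exact ⟨0, fun j => by fin_cases j <;> simp [a, b, c]⟩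
    · exact ⟨1, fun j => by fin_cases j <;> simp [a, b, c]⟩
    · exact ⟨2, fun j => by fin_cases j <;> simp [a, b, c]⟩
  choose σ hσ using key
  refine ⟨σ, fun i k h => ?_, hσ⟩
  by_contra hne
  have := h2 i k hne
  simp only [hσ, h, Fin.sum_univ_three] at this
  revert this
  split_ifs <;> norm_num

end CfsgLib.BrauerSuzuki
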